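import Cfsg.Agent.H88.OmegaNormal
import Cfsg.Agent.H89.SimpleRealize
import Mathlib.GroupTheory.SemidirectProduct

/-!
The fusion system of `T ⋊ H` on `T`, for a group `H` of automorphisms of `T`.
-/

set_option autoImplicit false

open Cfsg Cfsg.FusionSystem

namespace H88

variable {Ω : Type*} [Group Ω] {S T : Subgroup Ω} {p : ℕ}

/-- The fusion system of `T ⋊ H` on `T`. -/
def autSystem (T : Subgroup Ω) (H : Subgroup (MulAut T)) : FusionSystem T :=
  H89.realizedSystem (SemidirectProduct.inl (φ := H.subtype)) SemidirectProduct.inl_injective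

theorem semidirect_conj_inl {G : Type*} [Group G] {H : Subgroup (MulAut G)}
    (g : G ⋊[H.subtype] H) (x : G) :
    g * SemidirectProduct.inl x * g⁻¹ =
      SemidirectProduct.inl (g.left * (g.right : MulAut G) x * g.left⁻¹) := by
  conv_lhs => rw [← SemidirectProduct.inl_left_mul_inr_right g, mul_inv_rev]
  rw [map_mul, map_mul, map_inv]
  have h := SemidirectProduct.inl_aut (φ := H.subtype) g.right x
  rw [show (SemidirectProduct.inl ((g.right : MulAut G) x) : G ⋊[H.subtype] H) = _ from h]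
  simp only [map_inv]
  group

theorem mem_autSystem {H : Subgroup (MulAut T)} {P : Subgroup Ω} {φ : P →* Ω} :
    φ ∈ (autSystem T H).Hom P ↔
      ∃ hP : P ≤ T, ∃ h ∈ H, ∃ t : T, ∀ x : P,
        φ x = (t : Ω) * (h ⟨x, hP x.2⟩ : T) * (t : Ω)⁻¹ := by
  constructor
  · rintro ⟨hP, hφ, g, hg⟩
    refine ⟨hP, g.right, g.right.2, g.left, fun x => ?_⟩
    have h1 := (hg x).trans (semidirect_conj_inl g ⟨x, hP x.2⟩)
    exact congrArg Subtype.val (SemidirectProduct.inl_injective h1)
  · rintro ⟨hP, h, hh, t, ht⟩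
    have hφ : ∀ x : P, φ x ∈ T := fun x => by
      rw [ht]
      exact mul_mem (mul_mem t.2 (h ⟨x, hP x.2⟩).2) (inv_mem t.2)
    refine ⟨hP, hφ, ⟨t, ⟨h, hh⟩⟩, fun x => ?_⟩
    rw [semidirect_conj_inl]
    exact congrArg _ (Subtype.ext (ht x))

theorem autSystem_saturated [Finite T] [Fact p.Prime] (hT : IsPGroup p T)
    {H : Subgroup (MulAut T)} (hH : (Nat.card H).Coprime p) :
    (autSystem T H).IsSaturated p := by
  haveI : Finite (MulAut T) := Finite.of_injective _ DFunLike.coe_injective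
  haveI : Finite (T ⋊[H.subtype] H) := Finite.of_equiv _ SemidirectProduct.equivProd.symm
  set j : T →* T ⋊[H.subtype] H := SemidirectProduct.inl with hj
  have hr : IsPGroup p j.range := hT.of_surjective j.rangeRestrict j.rangeRestrict_surjective
  have hidx : ¬ p ∣ j.range.index := by
    have h1 := Subgroup.card_mul_index j.range
    rw [SemidirectProduct.card, ← Nat.card_congr
      (MonoidHom.ofInjective (f := j) SemidirectProduct.inl_injective).toEquiv] at h1
    rw [Nat.eq_of_mul_eq_mul_left Nat.card_pos h1]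
    exact ((Fact.out : p.Prime).coprime_iff_not_dvd.1 hH.symm)
  exact H85.isSaturated_of_realized
    (H89.realized_realizedSystem (SemidirectProduct.inl (φ := H.subtype))
      SemidirectProduct.inl_injective) (hr.toSylow hidx) (hr.toSylow_coe hidx)

theorem autSystem_le [Finite S] {F : FusionSystem S} {H : Subgroup (MulAut T)} (hT : T ≤ S)
    (hH : ∀ h ∈ H, h ∈ F.autGroup T) : (autSystem T H).IsSubsystemOf F := by
  intro P φ hφ
  obtain ⟨hP, h, hh, t, ht⟩ := mem_autSystem.1 hφ
  have h1 : T.subtype.comp h.toMonoidHom ∈ F.Hom T := (H85.mem_autGroup hT).1 (hH h hh)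
  have h2 := H85.restrict h1 hP
  have hval : ∀ x : P,
      ((T.subtype.comp h.toMonoidHom).comp (Subgroup.inclusion hP)) x ∈ T := fun x =>
    (h (Subgroup.inclusion hP x)).2
  refine H85.hom_congr (F.comp_mem h2 (F.conj_mem hT (hT t.2)) hval) fun x => ?_
  rw [ht]
  rfl

theorem mem_autSystem_autGroup {H : Subgroup (MulAut T)} {h : MulAut T} (hh : h ∈ H) :
    h ∈ (autSystem T H).autGroup T :=
  Subgroup.subset_closure (mem_autSystem.2 ⟨le_rfl, h, hh, 1, fun x => by simp⟩)

theorem autSystem_autGroup_le {H : Subgroup (MulAut T)} {α : MulAut T}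
    (hα : α ∈ (autSystem T H).autGroup T) : α ∈ Cfsg.Inn T ⊔ H := by
  obtain ⟨_, h, hh, t, ht⟩ := mem_autSystem.1 ((H85.mem_autGroup le_rfl).1 hα)
  have he : α = MulAut.conj t * h := by
    refine MulEquiv.ext fun x => Subtype.ext ?_
    exact (ht x).trans rfl
  rw [he]
  exact mul_mem (Subgroup.mem_sup_left ⟨t, rfl⟩) (Subgroup.mem_sup_right hh)

theorem eq_one_of_autSystem_inner [Finite T] [Fact p.Prime] (hT : IsPGroup p T)
    {H : Subgroup (MulAut T)}
    (h : ∀ P : Subgroup Ω, (autSystem T H).Hom P = (innerFusionSystem T).Hom P)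
    {β : MulAut T} (hβ : β ∈ H) (hcop : (orderOf β).Coprime p) : β = 1 := by
  have h1 : T.subtype.comp β.toMonoidHom ∈ (innerFusionSystem T).Hom T := by
    rw [← h]
    exact (H85.mem_autGroup le_rfl).1 (mem_autSystem_autGroup hβ)
  obtain ⟨-, g, hg, hx⟩ := h1
  have he : β = MulAut.conj (⟨g, hg⟩ : T) := MulEquiv.ext fun x => Subtype.ext (hx x)
  obtain ⟨k, hk⟩ := hT ⟨g, hg⟩
  have hp : β ^ p ^ k = 1 := by rw [he, ← map_pow, hk, map_one]
  rw [← orderOf_eq_one_iff]
  exact Nat.eq_one_of_dvd_coprimes (hcop.pow_right k) dvd_rfl (orderOf_dvd_of_pow_eq_one hp)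

theorem autSystem_isNormal (T : Subgroup Ω) (H : Subgroup (MulAut T)) :
    (autSystem T H).IsNormal T := by
  refine ⟨le_rfl, fun P φ hφ => ?_⟩
  obtain ⟨hP, h, hh, t, ht⟩ := mem_autSystem.1 hφ
  have hPT : P ⊔ T ≤ T := sup_le hP le_rfl
  let e : MulAut T := MulAut.conj t * h
  let ψ : ↥(P ⊔ T) →* Ω := T.subtype.comp (e.toMonoidHom.comp (Subgroup.inclusion hPT))
  refine ⟨ψ, mem_autSystem.2 ⟨hPT, h, hh, t, fun x => rfl⟩, fun x => ?_, ?_⟩
  · exact (ht x).symm
  · refine le_antisymm ?_ fun y hy => ?_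
    · rintro y ⟨x, -, rfl⟩
      exact (e (Subgroup.inclusion hPT x)).2
    · obtain ⟨z, hz⟩ := e.surjective ⟨y, hy⟩
      exact ⟨⟨z, le_sup_right (α := Subgroup Ω) z.2⟩, z.2, congrArg Subtype.val hz⟩

end H88
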