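import Cfsg.Agent.H88.CyclicChain
import Mathlib.FieldTheory.Finite.Basic
import Mathlib.Algebra.Polynomial.AlgebraMap
import Mathlib.Algebra.Module.ZMod
import Mathlib.GroupTheory.SchurZassenhaus

/-!
A resistant `p`-group whose `p'`-groups of automorphisms are abelian of exponent dividing `p - 1`
has, in each saturated fusion system, a chain of strongly closed subgroups with cyclic steps.
-/

set_option autoImplicit false

open Cfsg Cfsg.FusionSystem

namespace H88

open Polynomial

/-- A nonzero member of a set `W` killed by a product of translates of `T` gives an eigenvector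
in `W`. -/
theorem exists_eigen_in {K V : Type*} [Field K] [AddCommGroup V] [Module K V]
    (T : Module.End K V) (W : Set V) (hW : ∀ a : K, ∀ v ∈ W, T v - a • v ∈ W) (s : Finset K) :
    ∀ v ∈ W, v ≠ 0 → aeval T (∏ a ∈ s, (X - C a)) v = 0 →
      ∃ w ∈ W, w ≠ 0 ∧ ∃ a : K, T w = a • w := by
  classical
  induction s using Finset.induction_on with
  | empty => intro v _ hv h; simp at h; exact absurd h hv
  | @insert a s ha ih =>
    intro v hvW hv h
    rw [Finset.prod_insert ha, mul_comm, map_mul, Module.End.mul_apply, map_sub, aeval_X, aeval_C,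
      LinearMap.sub_apply, Module.algebraMap_end_apply] at h
    by_cases h0 : T v - a • v = 0
    · exact ⟨v, hvW, hv, a, sub_eq_zero.1 h0⟩
    · exact ih _ (hW a v hvW) h0 h

theorem prod_X_sub_C_zmod (p : ℕ) [Fact p.Prime] :
    ∏ a ∈ (Finset.univ : Finset (ZMod p)), (X - C a) = (X ^ p - X : (ZMod p)[X]) := by
  have hr := FiniteField.roots_X_pow_card_sub_X (ZMod p)
  rw [ZMod.card] at hr
  have hm : (X ^ p - X : (ZMod p)[X]).Monic :=
    monic_X_pow_sub (by rw [degree_X]; exact_mod_cast (Fact.out : p.Prime).one_lt)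
  have h := prod_multiset_X_sub_C_of_monic_of_roots_card_eq hm (by
    rw [hr, FiniteField.X_pow_card_sub_X_natDegree_eq _ (Fact.out : p.Prime).one_lt]
    simp)
  rw [hr] at h
  exact h

/-- Commuting endomorphisms with `T ^ p = T` of a space over the field of `p` elements have a
common eigenvector. -/
theorem exists_common_eigen {p : ℕ} [Fact p.Prime] {V : Type*} [AddCommGroup V]
    [Module (ZMod p) V] {ι : Type*} (T : ι → Module.End (ZMod p) V)
    (hcomm : ∀ i j v, T i (T j v) = T j (T i v)) (hp : ∀ i, T i ^ p = T i)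
    {v₀ : V} (hv₀ : v₀ ≠ 0) (s : Finset ι) :
    ∃ v : V, v ≠ 0 ∧ ∀ i ∈ s, ∃ a : ZMod p, T i v = a • v := by
  classical
  induction s using Finset.induction_on with
  | empty => exact ⟨v₀, hv₀, by simp⟩
  | @insert i s hi ih =>
    obtain ⟨v, hv, he⟩ := ih
    choose f hf using he
    let W : Set V := {w | ∀ (j : ι) (hj : j ∈ s), T j w = f j hj • w}
    have hW : ∀ a : ZMod p, ∀ w ∈ W, T i w - a • w ∈ W := by
      intro a w hw j hj
      rw [map_sub, map_smul, hcomm j i, hw j hj, map_smul, smul_sub, smul_comm]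
    have hprod : aeval (T i) (∏ a ∈ (Finset.univ : Finset (ZMod p)), (X - C a)) v = 0 := by
      rw [prod_X_sub_C_zmod, map_sub, map_pow, aeval_X, hp, sub_self, LinearMap.zero_apply]
    obtain ⟨w, hwW, hw0, a, ha⟩ := exists_eigen_in (T i) W hW Finset.univ v hf hv hprod
    refine ⟨w, hw0, fun j hj => ?_⟩
    rcases Finset.mem_insert.1 hj with rfl | hj
    · exact ⟨a, ha⟩
    · exact ⟨_, hwW j hj⟩


/-- Commuting endomorphisms of a group of exponent `p`, each of `p`-th power itself, have a common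
eigenvector. -/
theorem exists_common_eigen_hom {p : ℕ} [Fact p.Prime] {V : Type*} [AddCommGroup V]
    [Module (ZMod p) V] {ι : Type*} [Finite ι] (f : ι → (V →+ V))
    (hcomm : ∀ i j v, f i (f j v) = f j (f i v)) (hp : ∀ i v, (⇑(f i))^[p] v = f i v)
    {v₀ : V} (hv₀ : v₀ ≠ 0) : ∃ v : V, v ≠ 0 ∧ ∀ i, ∃ a : ℕ, f i v = a • v := by
  classical
  haveI : Fintype ι := Fintype.ofFinite _
  obtain ⟨v, hv, he⟩ := exists_common_eigen (fun i => AddMonoidHom.toZModLinearMap p (f i))
    (fun i j v => hcomm i j v) (fun i => LinearMap.ext fun v => by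
      rw [Module.End.coe_pow]
      exact hp i v) hv₀ Finset.univ
  refine ⟨v, hv, fun i => ?_⟩
  obtain ⟨a, ha⟩ := he i (Finset.mem_univ _)
  refine ⟨a.val, ha.trans ?_⟩
  conv_lhs => rw [← ZMod.natCast_zmod_val a]
  rw [Nat.cast_smul_eq_nsmul]

/-- Commuting automorphisms with exponent dividing `p - 1` of a nontrivial `p`-group have a common
eigenvector among the central elements of order `p`. -/
theorem exists_central_eigen {p : ℕ} [hp : Fact p.Prime] {G : Type*} [Group G] [Finite G]
    [Nontrivial G] (hG : IsPGroup p G) {H : Type*} [Group H] [Finite H] [IsMulCommutative H]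
    (ρ : H → (G ≃* G)) (hmul : ∀ α β z, ρ (α * β) z = ρ α (ρ β z)) (hone : ∀ z, ρ 1 z = z)
    (hexp : ∀ α : H, α ^ (p - 1) = 1) :
    ∃ z : G, z ≠ 1 ∧ z ∈ Subgroup.center G ∧ z ^ p = 1 ∧
      ∀ α, ∃ a : ℕ, ρ α z = z ^ a := by
  classical
  let Z : Subgroup G :=
    { carrier := {z | z ∈ Subgroup.center G ∧ z ^ p = 1}
      one_mem' := ⟨one_mem _, one_pow _⟩
      mul_mem' := fun {a b} ha hb => ⟨mul_mem ha.1 hb.1, by
        rw [(show Commute a b from (Subgroup.mem_center_iff.1 ha.1 b).symm).mul_pow, ha.2, hb.2,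
          one_mul]⟩
      inv_mem' := fun {a} ha => ⟨inv_mem ha.1, by rw [inv_pow, ha.2, inv_one]⟩ }
  haveI : IsMulCommutative Z := ⟨⟨fun a b => Subtype.ext
    (Subgroup.mem_center_iff.1 a.2.1 b).symm⟩⟩
  letI : CommGroup Z := IsMulCommutative.instCommGroup
  letI : Module (ZMod p) (Additive Z) := AddCommGroup.zmodModule fun z => by
    apply Additive.toMul.injective
    exact Subtype.ext (Additive.toMul z).2.2
  obtain ⟨z₀, hz₀, hz₀1⟩ : ∃ z : G, z ∈ Z ∧ z ≠ 1 := by
    have hcn : Nontrivial (Subgroup.center G) := hG.center_nontrivial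
    have hd : p ∣ Nat.card (Subgroup.center G) := by
      obtain ⟨k, hk0, hk⟩ := (hG.to_subgroup (Subgroup.center G)).nontrivial_iff_card.1 hcn
      rw [hk]
      exact dvd_pow_self p hk0.ne'
    obtain ⟨z, hz⟩ := exists_prime_orderOf_dvd_card' p hd
    refine ⟨z, ⟨z.2, ?_⟩, fun hc => hp.out.one_lt.ne' (hz.symm.trans (orderOf_eq_one_iff.2
      (Subtype.ext hc)))⟩
    rw [← SubmonoidClass.coe_pow, ← hz, pow_orderOf_eq_one]
    rfl
  have hρZ : ∀ (α : H) (z : G), z ∈ Z → ρ α z ∈ Z := by
    intro α z hz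
    refine ⟨Subgroup.mem_center_iff.2 fun g => ?_, by rw [← map_pow, hz.2, map_one]⟩
    obtain ⟨g', rfl⟩ := (ρ α).surjective g
    rw [← map_mul, ← map_mul, Subgroup.mem_center_iff.1 hz.1 g']
  let f : H → (Additive Z →+ Additive Z) := fun α => MonoidHom.toAdditive
    (((ρ α).toMonoidHom.comp Z.subtype).codRestrict Z fun z => hρZ α z z.2)
  have hf : ∀ (α : H) (z : Additive Z),
      ((Additive.toMul (f α z) : Z) : G) = ρ α ((Additive.toMul z : Z) : G) := fun _ _ => rfl
  have hfc : ∀ α β z, f α (f β z) = f β (f α z) := by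
    intro α β z
    apply Additive.toMul.injective
    refine Subtype.ext ?_
    rw [hf, hf, hf, hf, ← hmul, ← hmul, mul_comm' α β]
  have hfp : ∀ α z, (⇑(f α))^[p] z = f α z := by
    intro α z
    have hpow : ∀ (k : ℕ),
        ((Additive.toMul ((⇑(f α))^[k] z) : Z) : G) = ρ (α ^ k) ((Additive.toMul z : Z) : G) := by
      intro k
      induction k with
      | zero => simp [hone]
      | succ k ihk => rw [Function.iterate_succ_apply', hf, ihk, ← hmul, pow_succ']
    have h1 : α ^ p = α := by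
      rw [← Nat.succ_pred_eq_of_pos hp.out.pos, pow_succ, Nat.pred_eq_sub_one, hexp, one_mul]
    apply Additive.toMul.injective
    refine Subtype.ext ?_
    rw [hpow, h1, hf]
  have hz0 : Additive.ofMul (⟨z₀, hz₀⟩ : Z) ≠ 0 := fun hc =>
    hz₀1 (congrArg Subtype.val (Additive.ofMul.injective hc))
  obtain ⟨v, hv0, hev⟩ := exists_common_eigen_hom (p := p) f hfc hfp hz0
  refine ⟨((Additive.toMul v : Z) : G), fun hc => hv0 (Additive.toMul.injective (Subtype.ext hc)),
    (Additive.toMul v).2.1, (Additive.toMul v).2.2, fun α => ?_⟩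
  obtain ⟨a, ha⟩ := hev α
  refine ⟨a, ?_⟩
  rw [← hf, ha, toMul_nsmul, SubmonoidClass.coe_pow]

variable {Ω : Type*} [Group Ω] {S : Subgroup Ω} {p : ℕ}

theorem scReach_of_resistant [Finite S] [Fact p.Prime] (hS : IsPGroup p S) {F : FusionSystem S}
    (hF : F.IsSaturated p) (hN : F.IsNormal S)
    (hH : ∀ H : Subgroup (MulAut S), (Nat.card H).Coprime p →
      IsMulCommutative H ∧ ∀ h ∈ H, h ^ (p - 1) = 1) : ScReach F S := by
  classical
  haveI : Finite (MulAut S) := Finite.of_injective _ DFunLike.coe_injective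
  have hp : p.Prime := Fact.out
  set A : Subgroup (MulAut S) := F.autGroup S with hA
  have hinn : Cfsg.Inn S ≤ A := H85.inn_le_autGroup F le_rfl
  set I : Subgroup A := (Cfsg.Inn S).subgroupOf A with hI
  haveI : (Cfsg.Inn S).Normal := ⟨fun n hn g => by
    obtain ⟨x, rfl⟩ := hn
    exact ⟨g x, MulEquiv.ext fun y => by simp⟩⟩
  haveI : I.Normal := Subgroup.Normal.subgroupOf inferInstance A
  have hcopI : (Nat.card I).Coprime I.index := by
    obtain ⟨R, hR⟩ := (H85.automized_receptive_of_fullyNormalized hS hF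
      (H85.fullyNormalized_top F)).1.2
    have hRI : (R : Subgroup A) = I := hR.trans (by rw [H86.autInducedBy_top_eq])
    obtain ⟨k, hk⟩ := R.2.exists_card_eq
    have hnd := R.not_dvd_index
    rw [← hRI, hk]
    exact ((hp.coprime_iff_not_dvd.2 hnd)).pow_left k
  obtain ⟨K, hK⟩ := Subgroup.exists_right_complement'_of_coprime hcopI
  set H : Subgroup (MulAut S) := K.map A.subtype with hHdef
  have hcardH : (Nat.card H).Coprime p := by
    obtain ⟨R, hR⟩ := (H85.automized_receptive_of_fullyNormalized hS hF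
      (H85.fullyNormalized_top F)).1.2
    have hRI : (R : Subgroup A) = I := hR.trans (by rw [H86.autInducedBy_top_eq])
    rw [hHdef, Subgroup.card_map_of_injective A.subtype_injective, ← hK.symm.index_eq_card, ← hRI]
    exact (hp.coprime_iff_not_dvd.2 R.not_dvd_index).symm
  obtain ⟨hcomH, hexpH⟩ := hH H hcardH
  haveI := hcomH
  have hHA : H ≤ A := Subgroup.map_subtype_le _
  -- the step
  have step : ∀ C, ScReach F C → C ≠ S → ∃ D, ScReach F D ∧ C < D := by
    intro C hC hne
    have hCsc := hC.sc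
    haveI := subgroupOf_normal_of_sc hCsc
    set π := QuotientGroup.mk' (C.subgroupOf S) with hπ
    have hker : ∀ y : S, π y = 1 ↔ (y : Ω) ∈ C := fun y => by
      rw [hπ, QuotientGroup.mk'_apply, QuotientGroup.eq_one_iff, Subgroup.mem_subgroupOf]
    have hG : IsPGroup p (S ⧸ C.subgroupOf S) := hS.to_quotient _
    haveI : Nontrivial (S ⧸ C.subgroupOf S) := by
      rw [QuotientGroup.nontrivial_iff]
      intro hc
      exact hne (le_antisymm hCsc.1 fun x hx => by
        simpa using (Subgroup.mem_subgroupOf).1 (hc ▸ Subgroup.mem_top (⟨x, hx⟩ : S)))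
    have hinvC : ∀ α ∈ H, (C.subgroupOf S).map (α : S ≃* S).toMonoidHom = C.subgroupOf S := by
      intro α hα
      refine Subgroup.eq_of_le_of_card_ge ?_ ?_
      · rintro _ ⟨x, hx, rfl⟩
        exact invariant_of_sc hCsc (hHA hα) x hx
      · exact (Subgroup.card_map_of_injective (f := (α : S ≃* S).toMonoidHom) α.injective).ge
    let ρ : ∀ α : H, (S ⧸ C.subgroupOf S) ≃* (S ⧸ C.subgroupOf S) := fun α =>
      QuotientGroup.congr _ _ (α : MulAut S) (hinvC α α.2)
    have hρ : ∀ (α : H) (y : S), ρ α (π y) = π ((α : MulAut S) y) := fun α y => rfl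
    haveI : Finite (S ⧸ C.subgroupOf S) := Quotient.finite _
    have hmul : ∀ (α β : H) (z : S ⧸ C.subgroupOf S), ρ (α * β) z = ρ α (ρ β z) := by
      intro α β z
      obtain ⟨y, rfl⟩ := QuotientGroup.mk'_surjective _ z
      rfl
    have hone : ∀ z : S ⧸ C.subgroupOf S, ρ 1 z = z := by
      intro z
      obtain ⟨y, rfl⟩ := QuotientGroup.mk'_surjective _ z
      rfl
    obtain ⟨v, hv1, hvc, hvp, hev⟩ := exists_central_eigen hG ρ hmul
      hone (fun α => Subtype.ext (hexpH _ α.2))
    obtain ⟨y, rfl⟩ := QuotientGroup.mk'_surjective _ v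
    have hyC : (y : Ω) ∉ C := fun hc => hv1 ((hker y).2 hc)
    refine ⟨C ⊔ Subgroup.zpowers (y : Ω), ScReach.step (y : Ω) hC ?_ y.2 rfl,
      lt_of_le_of_ne le_sup_left fun he => hyC (he ▸
        Subgroup.mem_sup_right (Subgroup.mem_zpowers _))⟩
    have hDS : C ⊔ Subgroup.zpowers (y : Ω) ≤ S := sup_le hCsc.1 (Subgroup.zpowers_le.2 y.2)
    refine sc_of_invariant hN hDS fun α hα x hx => ?_
    -- `α` moves `y` to a power of `y` modulo `C`
    have hpow' : ∀ n : ℤ, ∀ u : S, π u = π y ^ n →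
        (u : Ω) ∈ C ⊔ Subgroup.zpowers (y : Ω) := by
      intro n u hu
      have h1 : π (u * (y ^ n)⁻¹) = 1 := by rw [map_mul, map_inv, map_zpow, hu, mul_inv_cancel]
      have h2 := (hker _).1 h1
      have h3 : (u : Ω) = ((u * (y ^ n)⁻¹ : S) : Ω) * (y : Ω) ^ n := by simp
      rw [h3]
      exact mul_mem (Subgroup.mem_sup_left h2)
        (Subgroup.mem_sup_right (zpow_mem (Subgroup.mem_zpowers _) n))
    have hcon : ∀ β : MulAut S, β ∈ A → ∃ n : ℤ, π (β y) = π y ^ n := by
      intro β hβ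
      obtain ⟨⟨i, k⟩, hik⟩ := hK.surjective ⟨β, hβ⟩
      have hβe : β = ((i : A) : MulAut S) * ((k : A) : MulAut S) :=
        (congrArg Subtype.val hik).symm
      obtain ⟨g, hg⟩ := (show ((i : A) : MulAut S) ∈ Cfsg.Inn S from i.2)
      have hkH : ((k : A) : MulAut S) ∈ H := ⟨_, k.2, rfl⟩
      obtain ⟨a, ha⟩ := hev ⟨_, hkH⟩
      refine ⟨(a : ℤ), ?_⟩
      have h1 : π (((k : A) : MulAut S) y) = π y ^ a := (hρ ⟨_, hkH⟩ y).symm.trans ha
      rw [hβe, MulAut.mul_apply, ← hg, zpow_natCast, ← h1]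
      show π (MulAut.conj g (((k : A) : MulAut S) y)) = _
      rw [MulAut.conj_apply, map_mul, map_mul, map_inv, h1,
        Subgroup.mem_center_iff.1 (pow_mem hvc a) (π g), mul_inv_cancel_right]
    obtain ⟨n, hn⟩ := hcon α hα
    have hle : C ⊔ Subgroup.zpowers (y : Ω) ≤
        ((C ⊔ Subgroup.zpowers (y : Ω)).subgroupOf S |>.comap α.toMonoidHom).map S.subtype := by
      refine sup_le (fun c hc => ?_) (Subgroup.zpowers_le.2 ⟨y, ?_, rfl⟩)
      · exact ⟨⟨c, hCsc.1 hc⟩, Subgroup.mem_sup_left (invariant_of_sc hCsc hα _ hc), rfl⟩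
      · exact hpow' n _ hn
    obtain ⟨u, hu, hux⟩ := hle hx
    rw [← Subtype.ext hux]
    exact hu
  -- induction
  have hall : ∀ (n : ℕ) (C : Subgroup Ω), Nat.card S - Nat.card C ≤ n → ScReach F C → ScReach F S := by
    intro n
    induction n with
    | zero =>
      intro C hn hC
      have : C = S := Subgroup.eq_of_le_of_card_ge hC.sc.1 (Nat.le_of_sub_eq_zero (Nat.le_zero.1 hn))
      exact this ▸ hC
    | succ n ih =>
      intro C hn hC
      by_cases hne : C = S
      · exact hne ▸ hC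
      obtain ⟨D, hD, hlt⟩ := step C hC hne
      haveI : Finite D := H85.finite_of_le hD.sc.1
      refine ih D ?_ hD
      have h1 : Nat.card C < Nat.card D := by
        by_contra hc
        exact hlt.ne (Subgroup.eq_of_le_of_card_ge hlt.le (not_lt.1 hc))
      omega
  exact hall _ ⊥ le_rfl ScReach.bot

end H88
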