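import Cfsg.Agent.H72.ZJFusion
import Cfsg.Agent.H88.GroupPStable
import Cfsg.Agent.H88.ThompsonTransport
import Cfsg.Agent.H87.CentreControl
import Cfsg.Agent.H86.Sylow
import Cfsg.Agent.H85.Normal
import Cfsg.Agent.H85.GroupSystem

/-!
The fusion system of a `p`-stable group is constrained for `p > 3`.
-/

set_option autoImplicit false
set_option linter.style.haveILetI false

open Cfsg Cfsg.FusionSystem
open scoped commutatorElement

universe u

namespace H88

variable {G : Type u} [Group G] [Finite G] {p : ℕ} [Fact p.Prime]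

theorem exists_conj_into_sylow_eq {K : Type u} [Group K] [Finite K] (R : Sylow p K) {T : Subgroup K}
    (hT : IsPGroup p T) (hcard : Nat.card T = Nat.card (R : Subgroup K)) :
    ∃ k : K, T.map (MulAut.conj k).toMonoidHom = (R : Subgroup K) := by
  obtain ⟨k, hk⟩ := H86.exists_conj_le_sylow R hT
  refine ⟨k, Subgroup.eq_of_le_of_card_ge ?_ ?_⟩
  · rintro _ ⟨x, hx, rfl⟩
    exact hk x hx
  · rw [← hcard, Subgroup.card_map_of_injective (f := (MulAut.conj k).toMonoidHom) (MulAut.conj k).injective]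

theorem core_centralizer_le (hp : 3 < p) (hst : Cfsg.IsNormalizerPStable p G) (S : Sylow p G) :
    centralizerIn (S : Subgroup G) (groupFusionSystem (S : Subgroup G)).core ≤
      (groupFusionSystem (S : Subgroup G)).core := by
  classical
  set F := groupFusionSystem (S : Subgroup G) with hF
  have hQn := H87.isNormal_core F
  set Q := F.core with hQdef
  have hQS : Q ≤ (S : Subgroup G) := hQn.1
  set L := Subgroup.normalizer (Q : Set G) with hL
  have hSL : (S : Subgroup G) ≤ L := fun g hg => H85.normalizer_of_normalSubgroup hQn hg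
  -- fusion is controlled by `L`
  have hctrl : ∀ {R : Subgroup G} {φ : R →* G}, φ ∈ F.Hom R →
      ∃ g ∈ L, ∀ x : R, φ x = g * (x : G) * g⁻¹ := by
    intro R φ hφ
    obtain ⟨ψ, hψ, hext, himg⟩ := hQn.2 R φ hφ
    obtain ⟨-, -, g, hg⟩ := hψ
    refine ⟨g, H85.mem_normalizer_of_conj fun x hx => ?_, fun x => ?_⟩
    · have := himg.le (H85.apply_mem_img (φ := ψ) (x := ⟨x, Subgroup.mem_sup_right hx⟩) hx)
      rwa [hg] at this
    · rw [← hext, hg]; rfl
  set K := Subgroup.centralizer (Q : Set G) with hK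
  have hKL : K ≤ L := Subgroup.centralizer_le_normalizer _
  have hconjK : ∀ g ∈ L, ∀ x ∈ K, g * x * g⁻¹ ∈ K := by
    intro g hg x hx
    rw [hK, Subgroup.mem_centralizer_iff] at hx ⊢
    intro q hq
    have h1 := hx _ (H85.conj_mem_of_mem_normalizer' hg hq)
    calc q * (g * x * g⁻¹) = g * (g⁻¹ * q * g * x) * g⁻¹ := by group
      _ = g * (x * (g⁻¹ * q * g)) * g⁻¹ := by rw [h1]
      _ = g * x * g⁻¹ * q := by group
  haveI hKn : (K.subgroupOf L).Normal :=
    ⟨fun x hx g => Subgroup.mem_subgroupOf.2 (hconjK g g.2 x hx)⟩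
  obtain ⟨RC, hRC⟩ := H86.exists_sylow_of_normal_le hKL hKn (S.subtype hSL) rfl
  -- the central subgroup `Z(Q)` of `K`
  set Zk : Subgroup K := Q.subgroupOf K with hZk
  have hZc : Zk ≤ Subgroup.center K := fun z hz => Subgroup.mem_center_iff.2 fun g =>
    Subtype.ext ((Subgroup.mem_centralizer_iff.1 g.2 z (Subgroup.mem_subgroupOf.1 hz)).symm)
  haveI : Zk.Normal := ⟨fun a ha g => by
    rw [Subgroup.mem_center_iff.mp (hZc ha) g, mul_inv_cancel_right]; exact ha⟩
  have hZp : IsPGroup p Zk := (S.isPGroup'.to_le hQS).comap_subtype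
  have hKst : Cfsg.IsNormalizerPStable p K :=
    H72.stable_of_injective K.subtype K.subtype_injective hst
  have hst' := H72.isNormalizerPStable_quotient_central hp hKst Zk hZc hZp
  set π := QuotientGroup.mk' Zk with hπ
  have hπs : Function.Surjective π := QuotientGroup.mk'_surjective Zk
  set Cb : Subgroup (K ⧸ Zk) := (RC : Subgroup K).map π with hCb
  set W := Cfsg.centerThompsonAOf Cb with hW
  set X : Subgroup G := ((W.comap π) ⊓ (RC : Subgroup K)).map K.subtype with hX
  have hmemX : ∀ {x : G}, x ∈ X ↔ ∃ hx : x ∈ K, x ∈ (S : Subgroup G) ∧ π ⟨x, hx⟩ ∈ W := by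
    intro x
    constructor
    · rintro ⟨y, ⟨hyW, hyR⟩, rfl⟩
      rw [SetLike.mem_coe, hRC] at hyR
      exact ⟨y.2, hyR, hyW⟩
    · rintro ⟨hx, hxS, hxW⟩
      refine ⟨⟨x, hx⟩, ⟨hxW, ?_⟩, rfl⟩
      rw [SetLike.mem_coe, hRC]
      exact hxS
  have hXS : X ≤ (S : Subgroup G) := fun x hx => (hmemX.1 hx).choose_spec.1
  have hXK : X ≤ K := fun x hx => (hmemX.1 hx).choose
  have hWCb : W ≤ Cb := centerThompsonAOf_le_self _
  -- strong closure of `X`
  have hXsc : F.StronglyClosed X := by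
    refine ⟨hXS, fun R hR φ hφ x => ?_⟩
    obtain ⟨g, hgL, hg⟩ := hctrl hφ
    obtain ⟨hxK, hxS, hxW⟩ := hmemX.1 (hR x.2)
    have hyS : g * (x : G) * g⁻¹ ∈ (S : Subgroup G) := hg x ▸ H85.map_mem hφ x
    have hyK : g * (x : G) * g⁻¹ ∈ K := hconjK g hgL _ hxK
    -- Frattini: `g = n k`
    let c : K →* K := ((MulAut.conj g).toMonoidHom.comp K.subtype).codRestrict K
      fun z => hconjK g hgL z z.2
    have hc : Function.Injective c := fun a b h => by
      have h1 : g * (a : G) * g⁻¹ = g * (b : G) * g⁻¹ := congrArg Subtype.val h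
      exact Subtype.ext (mul_left_cancel (mul_right_cancel h1))
    obtain ⟨k', hk'⟩ := exists_conj_into_sylow_eq RC (RC.isPGroup'.map c)
      (Subgroup.card_map_of_injective hc)
    set n : G := (k' : G) * g with hn
    have hnL : n ∈ L := L.mul_mem (hKL k'.2) hgL
    let γ : K ≃* K :=
      { toFun := fun z => ⟨n * z * n⁻¹, hconjK n hnL z z.2⟩
        invFun := fun z => ⟨n⁻¹ * z * n, by simpa using hconjK n⁻¹ (L.inv_mem hnL) z z.2⟩
        left_inv := fun z => Subtype.ext (by simp [mul_assoc])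
        right_inv := fun z => Subtype.ext (by simp [mul_assoc])
        map_mul' := fun a b => Subtype.ext (by simp [mul_assoc]) }
    have hγRC : (RC : Subgroup K).map γ.toMonoidHom = (RC : Subgroup K) := by
      conv_rhs => rw [← hk']
      rw [Subgroup.map_map]
      refine congrArg (fun f => Subgroup.map f (RC : Subgroup K)) (MonoidHom.ext fun z => Subtype.ext ?_)
      show n * (z : G) * n⁻¹ = (k' : G) * (g * z * g⁻¹) * (k' : G)⁻¹
      rw [hn]; group
    have hγZ : Zk.map γ.toMonoidHom = Zk := by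
      ext z
      constructor
      · rintro ⟨w, hw, rfl⟩
        exact Subgroup.mem_subgroupOf.2
          (H85.conj_mem_of_mem_normalizer hnL (Subgroup.mem_subgroupOf.1 hw))
      · intro hz
        refine ⟨γ.symm z, Subgroup.mem_subgroupOf.2 ?_, γ.apply_symm_apply z⟩
        exact H85.conj_mem_of_mem_normalizer' hnL (Subgroup.mem_subgroupOf.1 hz)
    let γb : K ⧸ Zk ≃* K ⧸ Zk := QuotientGroup.congr Zk Zk γ hγZ
    have hγπ : ∀ z : K, γb (π z) = π (γ z) := fun z => rfl
    have hγCb : Cb.map γb.toMonoidHom = Cb := by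
      rw [hCb, Subgroup.map_map]
      conv_rhs => rw [← hγRC, Subgroup.map_map]
      exact congrArg (fun f => Subgroup.map f (RC : Subgroup K)) (MonoidHom.ext hγπ)
    have hγW : ∀ w, w ∈ W → γb w ∈ W := fun w hw =>
      mem_centerThompsonAOf_of_iso ((Cb.equivMapOfInjective γb.toMonoidHom γb.injective).trans
        (MulEquiv.subgroupCongr hγCb)) (x := ⟨w, hWCb hw⟩) hw
    have hnRC : ∀ z : K, z ∈ (RC : Subgroup K) → γ.symm z ∈ (RC : Subgroup K) := fun z hz => by
      obtain ⟨w, hw, rfl⟩ := hγRC.ge hz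
      show γ.symm (γ w) ∈ _
      rw [MulEquiv.symm_apply_apply]
      exact hw
    -- the conjugate inside `K`
    set k : K := ⟨n⁻¹ * g, by
      have : n⁻¹ * g = g⁻¹ * ((k' : G)⁻¹) * g := by rw [hn]; group
      rw [this]
      simpa using hconjK g⁻¹ (L.inv_mem hgL) _ (K.inv_mem k'.2)⟩ with hk
    set xk : K := ⟨(x : G), hxK⟩
    set yk : K := ⟨g * (x : G) * g⁻¹, hyK⟩ with hyk
    have hyR : yk ∈ (RC : Subgroup K) := by rw [hRC]; exact hyS
    have hy' : k * xk * k⁻¹ = γ.symm yk := Subtype.ext (by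
      show n⁻¹ * g * (x : G) * (n⁻¹ * g)⁻¹ = n⁻¹ * (g * (x : G) * g⁻¹) * n
      group)
    have hxR : xk ∈ (RC : Subgroup K) := by rw [hRC]; exact hxS
    have hind := H72.zj_induced hp (Nat.card (K ⧸ Zk)) (K ⧸ Zk) le_rfl hst'
      (RC.mapSurjective hπs) (Subgroup.zpowers (π xk))
      (Subgroup.zpowers_le.2 (by rw [Sylow.coe_mapSurjective]; exact ⟨xk, hxR, rfl⟩)) (π k) ?_
    · obtain ⟨m, hm, hm'⟩ := hind
      rw [H79.ZJ_true, Sylow.coe_mapSurjective, ← hCb, ← hW] at hm
      have h1 := hm' _ (Subgroup.mem_zpowers _)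
      rw [← map_inv, ← map_mul, ← map_mul, hy'] at h1
      have h2 : π (γ.symm yk) ∈ W := h1 ▸ H85.conj_mem_of_mem_normalizer hm hxW
      have h3 := hγW _ h2
      rw [hγπ, MulEquiv.apply_symm_apply] at h3
      rw [hg x]
      exact hmemX.2 ⟨hyK, hyS, h3⟩
    · intro u hu
      obtain ⟨j, rfl⟩ := Subgroup.mem_zpowers_iff.1 hu
      rw [← conj_zpow, ← map_inv, ← map_mul, ← map_mul, hy']
      refine zpow_mem ?_ j
      rw [Sylow.coe_mapSurjective]
      exact ⟨_, hnRC _ hyR, rfl⟩
  -- `Z(Q)` and the chain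
  set Z := Q ⊓ K with hZ
  have hZsc : F.StronglyClosed Z := by
    refine ⟨inf_le_left.trans hQS, fun R hR φ hφ x => ?_⟩
    obtain ⟨g, hgL, hg⟩ := hctrl hφ
    rw [hg x]
    exact ⟨H85.conj_mem_of_mem_normalizer hgL (hR x.2).1, hconjK g hgL _ (hR x.2).2⟩
  have hXnormal : F.IsNormal X := by
    refine H85.isNormal_of_chain S.isPGroup' (H85.isSaturated_groupFusionSystem S) 2
      (fun i => if i = 0 then ⊥ else if i = 1 then Z else X) (by simp) (fun i hi => ?_) (fun i hi => ?_)
    · by_cases h0 : i = 0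
      · simp [h0, H85.stronglyClosed_bot]
      · by_cases h1 : i = 1
        · simpa [h1] using hZsc
        · simpa [h0, h1] using hXsc
    · interval_cases i
      · show ⁅X, Z⁆ ≤ ⊥
        rw [le_bot_iff, Subgroup.commutator_eq_bot_iff_le_centralizer]
        intro x hx
        rw [Subgroup.mem_centralizer_iff]
        intro z hz
        exact Subgroup.mem_centralizer_iff.1 (hXK hx) z hz.1
      · show ⁅X, X⁆ ≤ Z
        rw [Subgroup.commutator_le]
        intro a ha b hb
        obtain ⟨haK, haS, haW⟩ := hmemX.1 ha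
        obtain ⟨hbK, hbS, hbW⟩ := hmemX.1 hb
        have h1 : π (⁅(⟨a, haK⟩ : K), (⟨b, hbK⟩ : K)⁆) = 1 := by
          rw [map_commutatorElement, commutatorElement_eq_one_iff_mul_comm]
          rw [hW, centerThompsonAOf_eq_map] at haW hbW
          obtain ⟨a', ha', hae⟩ := haW
          obtain ⟨b', hb', hbe⟩ := hbW
          rw [← hae, ← hbe]
          exact congrArg Subtype.val (Subgroup.mem_centralizer_iff.1 hb'.2 a' ha'.1)
        rw [QuotientGroup.mk'_apply, QuotientGroup.eq_one_iff] at h1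
        exact ⟨Subgroup.mem_subgroupOf.1 h1,
          K.mul_mem (K.mul_mem (K.mul_mem haK hbK) (K.inv_mem haK)) (K.inv_mem hbK)⟩
  -- conclusion
  intro c hc
  by_contra hcQ
  have hXQ : X ≤ Q := H87.le_core hXnormal
  have hcK : c ∈ K := hc.2
  have hne : Cb ≠ ⊥ := by
    intro h
    have : π ⟨c, hcK⟩ ∈ Cb := ⟨_, by rw [SetLike.mem_coe, hRC]; exact hc.1, rfl⟩
    rw [h, Subgroup.mem_bot, QuotientGroup.mk'_apply, QuotientGroup.eq_one_iff] at this
    exact hcQ (Subgroup.mem_subgroupOf.1 this)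
  refine centerThompsonAOf_ne_bot' (RC.isPGroup'.map π) hne (eq_bot_iff.2 fun w hw => ?_)
  obtain ⟨y, hy, rfl⟩ := hWCb hw
  rw [Subgroup.mem_bot, QuotientGroup.mk'_apply, QuotientGroup.eq_one_iff]
  refine Subgroup.mem_subgroupOf.2 (hXQ (hmemX.2 ⟨y.2, ?_, hw⟩))
  rw [SetLike.mem_coe, hRC] at hy
  exact hy

theorem isConstrained_of_stable (hp : 3 < p) (hst : Cfsg.IsNormalizerPStable p G) (S : Sylow p G) :
    (groupFusionSystem (S : Subgroup G)).IsConstrained p :=
  ⟨H85.isSaturated_groupFusionSystem S, _, H87.isNormal_core _,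
    H87.isCentric_of_isNormal (H87.isNormal_core _) (core_centralizer_le hp hst S)⟩

end H88
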