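import Cfsg.Agent.H74.ThompsonA
import Cfsg.Agent.H87.ThompsonFusion
import Cfsg.Agent.H6.FusionZJ

/-!
A prime dividing the automizer of a `p`-subgroup divides the automizer of a subgroup normal in a
Sylow `p`-subgroup, when the automizers are `p`-solvable and the pair of primes is not `(2, 3)`.
-/

set_option autoImplicit false
set_option linter.style.haveILetI false

open scoped commutatorElement

universe u

namespace H88.AutMove

/-- The `q`-part of a lift of a `q`-element. -/
theorem exists_qelem_pow {A B : Type*} [Group A] [Finite A] [Group B] (f : A →* B) {q : ℕ}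
    (hq : q.Prime) (n : A) {k : ℕ} (hk : f n ^ q ^ k = 1) :
    ∃ j : ℕ, f (n ^ j) = f n ∧ ∃ a, (n ^ j) ^ q ^ a = 1 := by
  haveI := Fact.mk hq
  set a := (orderOf n).factorization q
  obtain ⟨b, hb⟩ : ∃ b, orderOf n = q ^ a * b := ⟨_, (Nat.ordProj_mul_ordCompl_eq_self _ q).symm⟩
  have hb0 : ¬ q ∣ b := by
    intro hd
    have h1 : q ^ (a + 1) ∣ orderOf n := by rw [hb, pow_succ]; exact mul_dvd_mul_left _ hd
    have := (hq.pow_dvd_iff_le_factorization (orderOf_pos n).ne').mp h1
    omega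
  have hco : b.Coprime (q ^ k) := ((hq.coprime_iff_not_dvd.mpr hb0).symm).pow_right k
  obtain ⟨i, hi⟩ : ∃ i, b * i % q ^ k = 1 % q ^ k := by
    rcases k.eq_zero_or_pos with rfl | hkpos
    · exact ⟨0, by simp [Nat.mod_one]⟩
    · obtain ⟨i, -, hi⟩ := Nat.exists_mul_mod_eq_one_of_coprime hco (Nat.one_lt_pow hkpos.ne' hq.one_lt)
      exact ⟨i, by rw [hi, Nat.one_mod_eq_one.2 (Nat.one_lt_pow hkpos.ne' hq.one_lt).ne']⟩
  refine ⟨b * i, ?_, a, ?_⟩
  · rw [map_pow]
    conv_rhs => rw [← pow_one (f n)]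
    rw [pow_eq_pow_mod (b * i) hk, pow_eq_pow_mod 1 hk, hi]
  · rw [← pow_mul, show b * i * q ^ a = q ^ a * b * i by ring, ← hb, pow_mul, pow_orderOf_eq_one,
      one_pow]

variable {G : Type u} [Group G]

/-- A `q`-element normalizes `H` without centralizing it. -/
def Moved (q : ℕ) (H : Subgroup G) : Prop :=
  ∃ x ∈ Subgroup.normalizer (H : Set G), x ∉ Subgroup.centralizer (H : Set G) ∧
    ∃ k : ℕ, x ^ q ^ k = 1

instance centralizer_subgroupOf_normal (H : Subgroup G) :
    ((Subgroup.centralizer (H : Set G)).subgroupOf (Subgroup.normalizer (H : Set G))).Normal := by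
  refine ⟨fun c hc g => ?_⟩
  rw [Subgroup.mem_subgroupOf, Subgroup.mem_centralizer_iff] at hc ⊢
  intro h hh
  have h1 : (g : G)⁻¹ * h * g ∈ H := (Subgroup.mem_normalizer_iff''.1 g.2 h).1 hh
  have h2 := hc _ h1
  push_cast
  calc h * ((g : G) * c * (g : G)⁻¹) = g * ((g : G)⁻¹ * h * g * c) * (g : G)⁻¹ := by group
    _ = g * (c * ((g : G)⁻¹ * h * g)) * (g : G)⁻¹ := by rw [h2]
    _ = _ := by group

theorem dvd_index_of_qelem {N : Type*} [Group N] [Finite N] {q : ℕ} (hq : q.Prime) (C : Subgroup N)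
    [C.Normal] {x : N} (hx : x ∉ C) {k : ℕ} (hk : x ^ q ^ k = 1) : q ∣ C.index := by
  obtain ⟨i, -, hi⟩ := (Nat.dvd_prime_pow hq).1
    (orderOf_dvd_of_pow_eq_one (show (QuotientGroup.mk' C x) ^ q ^ k = 1 by
      rw [← map_pow, hk, map_one]))
  have hi0 : i ≠ 0 := by
    rintro rfl
    rw [pow_zero, orderOf_eq_one_iff] at hi
    exact hx ((QuotientGroup.eq_one_iff x).1 hi)
  rw [Subgroup.index_eq_card]
  exact ((dvd_pow_self q hi0).trans (dvd_of_eq hi.symm)).trans (orderOf_dvd_natCard _)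

theorem dvd_index_of_moved [Finite G] {q : ℕ} (hq : q.Prime) {H : Subgroup G} (h : Moved q H) :
    q ∣ ((Subgroup.centralizer (H : Set G)).subgroupOf (Subgroup.normalizer (H : Set G))).index := by
  obtain ⟨x, hx, hxC, k, hk⟩ := h
  exact dvd_index_of_qelem hq _ (x := ⟨x, hx⟩) hxC (Subtype.ext hk)

theorem moved_of_dvd_index [Finite G] {q : ℕ} [Fact q.Prime] {H : Subgroup G}
    (h : q ∣ ((Subgroup.centralizer (H : Set G)).subgroupOf
      (Subgroup.normalizer (H : Set G))).index) : Moved q H := by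
  set C := (Subgroup.centralizer (H : Set G)).subgroupOf (Subgroup.normalizer (H : Set G))
  rw [Subgroup.index_eq_card] at h
  obtain ⟨z, hz⟩ := exists_prime_orderOf_dvd_card' q h
  obtain ⟨n, rfl⟩ := QuotientGroup.mk'_surjective C z
  obtain ⟨j, hj, a, ha⟩ := exists_qelem_pow (QuotientGroup.mk' C) Fact.out n (k := 1)
    (by rw [pow_one]; exact orderOf_dvd_iff_pow_eq_one.1 (dvd_of_eq hz))
  refine ⟨(n ^ j : Subgroup.normalizer (H : Set G)), (n ^ j).2, fun hc => ?_, a,
    congrArg Subtype.val ha⟩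
  have h1 : QuotientGroup.mk' C (n ^ j) = 1 := (QuotientGroup.eq_one_iff _).2 hc
  rw [← hj, h1, orderOf_one] at hz
  exact (Fact.out : q.Prime).ne_one hz.symm

theorem moved_conj {q : ℕ} {H : Subgroup G} (h : Moved q H) (g : G) :
    Moved q (H.map (MulAut.conj g).toMonoidHom) := by
  obtain ⟨x, hx, hxC, k, hk⟩ := h
  refine ⟨MulAut.conj g x, ?_, fun hc => hxC ?_, k, by rw [← map_pow, hk, map_one]⟩
  · exact Subgroup.le_normalizer_map (MulAut.conj g).toMonoidHom ⟨x, hx, rfl⟩
  · rw [Subgroup.mem_centralizer_iff] at hc ⊢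
    intro y hy
    apply (MulAut.conj g).injective
    rw [map_mul, map_mul]
    exact hc (MulAut.conj g y) ⟨y, hy, rfl⟩

variable [Finite G] {p : ℕ} [Fact p.Prime]

/-- A `p`-solvable group contains a `{p, q}`-subgroup with a full Sylow `p`-subgroup and order
divisible by `q`. -/
theorem exists_pq_subgroup (q : ℕ) [Fact q.Prime] (hqp : q ≠ p) :
    ∀ (Γ : Type u) [Group Γ] [Finite Γ], Cfsg.IsPSolvable p Γ → q ∣ Nat.card Γ →
      ∃ R : Subgroup Γ, (∀ r : ℕ, r.Prime → r ∣ Nat.card R → r = p ∨ r = q) ∧ ¬ p ∣ R.index ∧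
        q ∣ Nat.card R := by
  intro Γ
  induction hn : Nat.card Γ using Nat.strong_induction_on generalizing Γ with
  | _ n ih =>
  intro _ _ hsol hq
  subst hn
  have hp : p.Prime := Fact.out
  have hqpr : q.Prime := Fact.out
  haveI : Nontrivial Γ := by
    rw [← Finite.one_lt_card_iff_nontrivial]
    exact lt_of_lt_of_le hqpr.one_lt (Nat.le_of_dvd Nat.card_pos hq)
  have hrec : ∀ (N : Subgroup Γ) [N.Normal], N ≠ ⊥ → ¬ q ∣ Nat.card N →
      ∃ R : Subgroup (Γ ⧸ N), (∀ r : ℕ, r.Prime → r ∣ Nat.card R → r = p ∨ r = q) ∧ ¬ p ∣ R.index ∧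
        q ∣ Nat.card R := fun N _ hN hqN =>
    ih _ (H10.card_quotient_lt N hN) (Γ ⧸ N) rfl (H10.isPSolvable_quotient hsol N)
      ((hqpr.dvd_mul.1 (Subgroup.card_eq_card_quotient_mul_card_subgroup N ▸ hq)).resolve_right hqN)
  rcases H10.pCore_or_pPrimeCore_ne_bot (p := p) hsol with hN | hN
  · haveI := H1.pCore_normal' p Γ
    obtain ⟨a, ha⟩ := IsPGroup.iff_card.1 (H1.isPGroup_pCore p Γ)
    have hqN : ¬ q ∣ Nat.card (Cfsg.pCore p Γ) := fun h =>
      hqp ((Nat.prime_dvd_prime_iff_eq hqpr hp).1 (hqpr.dvd_of_dvd_pow (ha ▸ h)))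
    obtain ⟨R, hR1, hR2, hR3⟩ := hrec _ hN hqN
    refine ⟨R.comap (QuotientGroup.mk' _), fun r hr hd => ?_, ?_, ?_⟩
    · rw [H1.card_comap_mk', ha] at hd
      rcases hr.dvd_mul.1 hd with h | h
      · exact Or.inl ((Nat.prime_dvd_prime_iff_eq hr hp).1 (hr.dvd_of_dvd_pow h))
      · exact hR1 r hr h
    · rwa [Subgroup.index_comap_of_surjective _ (QuotientGroup.mk'_surjective _)]
    · rw [H1.card_comap_mk']
      exact dvd_mul_of_dvd_right hR3 _
  set N := Cfsg.pPrimeCore p Γ
  haveI hNn : N.Normal := H1.pPrimeCore_normal' p Γ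
  have hNp : ¬ p ∣ Nat.card N := fun h =>
    hp.not_dvd_one ((H1.card_pPrimeCore_coprime p Γ).gcd_eq_one ▸ Nat.dvd_gcd h dvd_rfl)
  by_cases hqN : q ∣ Nat.card N
  · obtain ⟨Q⟩ : Nonempty (Sylow q N) := inferInstance
    set Qm := (Q : Subgroup N).map N.subtype
    set Y := Subgroup.normalizer (Qm : Set Γ)
    have hY : Y ⊔ N = ⊤ := Q.normalizer_sup_eq_top
    have hYp : ¬ p ∣ Y.index := by
      intro hd
      have e1 : (Y ⊓ N).index = (Y ⊓ N).relIndex Y * Y.index :=
        (Subgroup.relIndex_mul_index inf_le_left).symm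
      have e2 : (Y ⊓ N).index = (Y ⊓ N).relIndex N * N.index :=
        (Subgroup.relIndex_mul_index inf_le_right).symm
      have e3 : (Y ⊓ N).relIndex Y = N.index := by
        rw [Subgroup.inf_relIndex_left, ← Subgroup.relIndex_sup_right (H := Y) (K := N), hY,
          Subgroup.relIndex_top_right]
      rw [e2, e3, mul_comm] at e1
      have h4 : Y.index = (Y ⊓ N).relIndex N :=
        (Nat.eq_of_mul_eq_mul_left (Nat.pos_of_ne_zero Subgroup.index_ne_zero_of_finite) e1).symm
      exact hNp (hd.trans (h4 ▸ Subgroup.relIndex_dvd_card _ _))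
    obtain ⟨T⟩ : Nonempty (Sylow p Y) := inferInstance
    set Tm := (T : Subgroup Y).map Y.subtype
    have hTm : ¬ p ∣ Tm.index := by
      rw [Subgroup.index_map_subtype]
      exact fun h => (hp.dvd_mul.1 h).elim T.not_dvd_index hYp
    have hTY : Tm ≤ Subgroup.normalizer (Qm : Set Γ) := Subgroup.map_subtype_le _
    refine ⟨Qm ⊔ Tm, fun r hr hd => ?_, fun h => hTm (h.trans (Subgroup.index_dvd_of_le le_sup_right)), ?_⟩
    · haveI : (Qm.subgroupOf (Qm ⊔ Tm)).Normal :=
        Subgroup.normal_subgroupOf_of_le_normalizer (sup_le Subgroup.le_normalizer hTY)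
      have h1 : Nat.card (Qm ⊔ Tm : Subgroup Γ) = Nat.card Qm * Qm.relIndex (Qm ⊔ Tm) := by
        rw [← Subgroup.card_mul_index (Qm.subgroupOf (Qm ⊔ Tm)),
          Nat.card_congr (Subgroup.subgroupOfEquivOfLe (le_sup_left : Qm ≤ Qm ⊔ Tm)).toEquiv]
        rfl
      have h2 : Qm.relIndex (Qm ⊔ Tm) ∣ Nat.card Tm := by
        have h3 : Qm.relIndex (Qm ⊔ Tm) = Qm.relIndex Tm := by
          haveI : (Qm.subgroupOf Y).Normal := Subgroup.normal_in_normalizer
          have hle : Qm ≤ Y := Subgroup.le_normalizer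
          rw [← Subgroup.relIndex_subgroupOf (sup_le hle hTY), Subgroup.subgroupOf_sup hle hTY,
            Subgroup.relIndex_sup_left, Subgroup.relIndex_subgroupOf hTY]
        exact h3 ▸ Subgroup.relIndex_dvd_card _ _
      rw [h1] at hd
      rcases hr.dvd_mul.1 hd with h | h
      · obtain ⟨b, hb⟩ := IsPGroup.iff_card.1 ((Q.2).map N.subtype)
        exact Or.inr ((Nat.prime_dvd_prime_iff_eq hr hqpr).1 (hr.dvd_of_dvd_pow (hb ▸ h)))
      · obtain ⟨b, hb⟩ := IsPGroup.iff_card.1 ((T.2).map Y.subtype)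
        exact Or.inl ((Nat.prime_dvd_prime_iff_eq hr hp).1 (hr.dvd_of_dvd_pow (hb ▸ (h.trans h2))))
    · have : q ∣ Nat.card Qm := by
        rw [Subgroup.card_map_of_injective N.subtype_injective]
        exact Q.dvd_card_of_dvd_card hqN
      exact this.trans (Subgroup.card_dvd_of_le le_sup_left)
  · obtain ⟨R, hR1, hR2, hR3⟩ := hrec N hN hqN
    set X := R.comap (QuotientGroup.mk' N)
    have hNX : N ≤ X := fun x hx => by
      show QuotientGroup.mk' N x ∈ R
      rw [QuotientGroup.mk'_apply, (QuotientGroup.eq_one_iff x).2 hx]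
      exact one_mem R
    have hcN : Nat.card (N.subgroupOf X) = Nat.card N :=
      Nat.card_congr (Subgroup.subgroupOfEquivOfLe hNX).toEquiv
    have hiN : (N.subgroupOf X).index = Nat.card R := by
      have h1 := Subgroup.card_mul_index (N.subgroupOf X)
      rw [hcN, H1.card_comap_mk'] at h1
      exact Nat.eq_of_mul_eq_mul_left Nat.card_pos h1
    have hco : (Nat.card (N.subgroupOf X)).Coprime (N.subgroupOf X).index := by
      rw [hcN, hiN]
      refine Nat.coprime_of_dvd fun r hr h1 h2 => ?_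
      rcases hR1 r hr h2 with rfl | rfl
      · exact hNp h1
      · exact hqN h1
    obtain ⟨K, hK⟩ := Subgroup.exists_right_complement'_of_coprime hco
    have hKc : Nat.card (K.map X.subtype) = Nat.card R := by
      rw [Subgroup.card_map_of_injective X.subtype_injective, ← hiN, hK.symm.index_eq_card]
    refine ⟨K.map X.subtype, hKc ▸ hR1, fun hd => ?_, hKc ▸ hR3⟩
    have h1 := Subgroup.card_mul_index (K.map X.subtype)
    rw [hKc, Subgroup.card_eq_card_quotient_mul_card_subgroup N, ← R.card_mul_index,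
      mul_assoc] at h1
    rw [Nat.eq_of_mul_eq_mul_left Nat.card_pos h1] at hd
    exact (hp.dvd_mul.1 hd).elim hR2 hNp

omit [Finite G] in
/-- Characteristic subgroups correspond under isomorphisms. -/
theorem characteristic_map_equiv {A B : Type*} [Group A] [Group B] (e : A ≃* B) {C : Subgroup A}
    (hC : C.Characteristic) : (C.map e.toMonoidHom).Characteristic := by
  refine Subgroup.characteristic_iff_map_le.2 fun φ => ?_
  rintro _ ⟨_, ⟨c, hc, rfl⟩, rfl⟩
  refine ⟨e.symm (φ (e c)), ?_, by simp⟩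
  exact (Subgroup.characteristic_iff_map_eq.1 hC ((e.trans φ).trans e.symm)).le ⟨c, hc, rfl⟩

omit [Fact p.Prime] [Finite G] in
/-- The image of a characteristic subgroup under a homomorphism injective on `P`. -/
theorem characteristic_image {H : Type*} [Group H] (f : G →* H) {P K : Subgroup G} (hKP : K ≤ P)
    (hf : Disjoint P f.ker) (hK : (K.subgroupOf P).Characteristic) :
    ((K.map f).subgroupOf (P.map f)).Characteristic := by
  have hinj : Function.Injective (f.subgroupMap P) := by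
    intro x y hxy
    have h1 : f x = f y := congrArg Subtype.val hxy
    refine Subtype.ext (inv_mul_eq_one.mp (Subgroup.disjoint_def.mp hf (mul_mem (inv_mem x.2) y.2) ?_))
    rw [MonoidHom.mem_ker, map_mul, map_inv, h1, inv_mul_cancel]
  let e : P ≃* P.map f := MulEquiv.ofBijective (f.subgroupMap P) ⟨hinj, f.subgroupMap_surjective P⟩
  have he : (K.subgroupOf P).map e.toMonoidHom = (K.map f).subgroupOf (P.map f) := by
    ext y
    constructor
    · rintro ⟨x, hx, rfl⟩
      exact ⟨x, hx, rfl⟩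
    · rintro ⟨k, hk, hky⟩
      exact ⟨⟨k, hKP hk⟩, hk, Subtype.ext hky⟩
  exact he ▸ characteristic_map_equiv e hK

omit [Fact p.Prime] [Finite G] in
/-- The preimage in `P` of a characteristic subgroup of the image of `P`. -/
theorem characteristic_preimage {H : Type*} [Group H] (f : G →* H) {P : Subgroup G}
    (hker : ((P ⊓ f.ker).subgroupOf P).Characteristic) {K' : Subgroup H}
    (hK : (K'.subgroupOf (P.map f)).Characteristic) :
    ((P ⊓ K'.comap f).subgroupOf P).Characteristic := by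
  set π : P →* P.map f := f.subgroupMap P with hπ
  have hs : Function.Surjective π := f.subgroupMap_surjective P
  have hk : π.ker = (P ⊓ f.ker).subgroupOf P := by
    ext x
    rw [MonoidHom.mem_ker, Subgroup.mem_subgroupOf, Subgroup.mem_inf, MonoidHom.mem_ker]
    exact ⟨fun h => ⟨x.2, congrArg Subtype.val h⟩, fun h => Subtype.ext h.2⟩
  refine Subgroup.characteristic_iff_map_le.2 fun φ => ?_
  have hφ : π.ker.map φ.toMonoidHom = π.ker := by
    rw [hk]; exact Subgroup.characteristic_iff_map_eq.1 hker φ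
  let e : P ⧸ π.ker ≃* P.map f := QuotientGroup.quotientKerEquivOfSurjective π hs
  let ψ : P.map f ≃* P.map f :=
    (e.symm.trans (QuotientGroup.congr π.ker π.ker φ hφ)).trans e
  rintro _ ⟨x, hx, rfl⟩
  refine ⟨(φ x).2, ?_⟩
  have hx' : π x ∈ K'.subgroupOf (P.map f) := hx.2
  have h2 : ψ (π x) ∈ K'.subgroupOf (P.map f) :=
    (Subgroup.characteristic_iff_map_eq.1 hK ψ).le ⟨_, hx', rfl⟩
  have h3 : ψ (π x) = π (φ x) := by
    have h4 : e.symm (π x) = QuotientGroup.mk x := e.symm_apply_eq.2 rfl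
    show e (QuotientGroup.congr π.ker π.ker φ hφ (e.symm (π x))) = _
    rw [h4]
    rfl
  rw [h3] at h2
  exact h2

/-- A group with a normal subgroup of `p`-power index having a central Sylow `p`-subgroup has a
normal `p`-complement. -/
theorem npc_of_central (L : Subgroup G) [L.Normal] (hL : ∃ k, L.index = p ^ k) (S : Sylow p L)
    (hS : (S : Subgroup L) ≤ Subgroup.center L) : Cfsg.HasNormalPComplement p G := by
  have hLn : Cfsg.HasNormalPComplement p L :=
    ⟨S, _, inferInstance, MonoidHom.ker_transferSylow_isComplement' S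
      (fun x _ => Subgroup.mem_centralizer_iff.2 fun s hs =>
        (Subgroup.mem_center_iff.1 (hS hs) x).symm)⟩
  refine H5.hasNormalPComplement_of_normal ((Cfsg.pResidual p L).map L.subtype) ?_ ?_
  · rw [Subgroup.card_map_of_injective L.subtype_injective]
    exact H5.hasNormalPComplement_iff_not_dvd.1 hLn
  · obtain ⟨k, hk⟩ := hL
    obtain ⟨i, hi⟩ := H5.exists_index_pResidual_eq (G := L) (p := p)
    exact ⟨i + k, by rw [Subgroup.index_map_subtype, hi, hk, pow_add]⟩

/-- Thompson's theorem in the form: a group in which the characteristic subgroups of a Sylow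
`p`-subgroup have `p`-groups of automorphisms has a normal `p`-complement. -/
theorem npc_of_char : ∀ (Γ : Type u) [Group Γ] [Finite Γ],
    (p ≠ 2 ∨ ¬ Cfsg.Involves (Equiv.Perm (Fin 4)) Γ) → ∀ P : Sylow p Γ,
    (∀ K : Subgroup Γ, K ≤ (P : Subgroup Γ) → (K.subgroupOf (P : Subgroup Γ)).Characteristic →
      ∀ g ∈ Subgroup.normalizer (K : Set Γ), (orderOf g).Coprime p →
        g ∈ Subgroup.centralizer (K : Set Γ)) →
    Cfsg.HasNormalPComplement p Γ := by
  intro Γ
  induction hn : Nat.card Γ using Nat.strong_induction_on generalizing Γ with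
  | _ n ih =>
  intro _ _ hp P h
  subst hn
  by_cases hP1 : (P : Subgroup Γ) = ⊥
  · refine H5.hasNormalPComplement_of_not_dvd fun hd => ?_
    have := P.ne_bot_of_dvd_card hd
    exact this hP1
  set J := Cfsg.thompsonSubgroupAOf (P : Subgroup Γ) with hJdef
  have hJP : J ≤ (P : Subgroup Γ) := H74.JA.JA_le _
  have hJchar : (J.subgroupOf (P : Subgroup Γ)).Characteristic := by
    rw [hJdef, Cfsg.thompsonSubgroupAOf, Subgroup.subgroupOf,
      Subgroup.comap_map_eq_self_of_injective Subtype.coe_injective]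
    exact Subgroup.characteristic_iff_map_eq.2 fun φ => H74.JA.map_thompsonSubgroupA φ
  set Z := (P : Subgroup Γ) ⊓ Subgroup.centralizer ((P : Subgroup Γ) : Set Γ) with hZdef
  have hZchar : (Z.subgroupOf (P : Subgroup Γ)).Characteristic := by
    have : Z.subgroupOf (P : Subgroup Γ) = Subgroup.center (P : Subgroup Γ) := by
      ext x
      rw [Subgroup.mem_subgroupOf, Subgroup.mem_center_iff, hZdef, Subgroup.mem_inf]
      exact ⟨fun hx y => Subtype.ext (Subgroup.mem_centralizer_iff.1 hx.2 y y.2),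
        fun hx => ⟨x.2, Subgroup.mem_centralizer_iff.2 fun y hy => congrArg Subtype.val (hx ⟨y, hy⟩)⟩⟩
    rw [this]
    infer_instance
  have hsub : ∀ H : Subgroup Γ, (P : Subgroup Γ) ≤ H → H ≠ ⊤ →
      Cfsg.HasNormalPComplement p H := by
    intro H hPH hH
    have hlt : Nat.card H < Nat.card Γ := lt_of_le_of_ne (Subgroup.card_le_card_group H)
      (fun he => hH (Subgroup.eq_top_of_card_eq H he))
    refine ih _ hlt H rfl (hp.imp_right fun h1 h2 => h1 (H74.JA.involves_subgroup h2))
      (P.subtype hPH) fun K hK hKc g hg hgc => ?_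
    have hPm : (P.subtype hPH : Subgroup H).map H.subtype = (P : Subgroup Γ) := by
      rw [Sylow.coe_subtype, Subgroup.subgroupOf_map_subtype, inf_eq_left.mpr hPH]
    have hc := characteristic_image H.subtype hK
      (by rw [Subgroup.ker_subtype]; exact disjoint_bot_right) hKc
    rw [hPm] at hc
    have hmem := h (K.map H.subtype) ((Subgroup.map_mono hK).trans hPm.le) hc g
      (Subgroup.le_normalizer_map H.subtype ⟨g, hg, rfl⟩) (by rwa [Subgroup.orderOf_coe])
    exact Subgroup.mem_centralizer_iff.2 fun y hy =>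
      Subtype.ext (Subgroup.mem_centralizer_iff.1 hmem y ⟨y, hy, rfl⟩)
  by_cases hZt : Subgroup.centralizer (Z : Set Γ) = ⊤
  · have hZc : Z ≤ Subgroup.center Γ := by
      intro z hz
      refine Subgroup.mem_center_iff.2 fun g => ?_
      exact (Subgroup.mem_centralizer_iff.1 (hZt.ge (Subgroup.mem_top g)) z hz).symm
    haveI hZn : Z.Normal := ⟨fun z hz g => by
      rwa [Subgroup.mem_center_iff.1 (hZc hz) g, mul_inv_cancel_right]⟩
    have hZ1 : Z ≠ ⊥ := H1.inf_centralizer_ne_bot P.2 hP1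
    set π := QuotientGroup.mk' Z
    have hs : Function.Surjective π := QuotientGroup.mk'_surjective Z
    have hq : Cfsg.HasNormalPComplement p (Γ ⧸ Z) := by
      refine ih _ (H10.card_quotient_lt Z hZ1) (Γ ⧸ Z) rfl
        (hp.imp_right fun h1 h2 => h1 (H74.JA.involves_quotient h2)) (P.mapSurjective hs)
        fun K hK hKc g hg hgc => ?_
      rw [Sylow.coe_mapSurjective] at hK hKc
      set K0 := (P : Subgroup Γ) ⊓ K.comap π
      have hK0 : K0 = K.comap π := by
        refine inf_eq_right.2 ((Subgroup.comap_mono hK).trans ?_)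
        rw [Subgroup.comap_map_eq, QuotientGroup.ker_mk']
        exact sup_le le_rfl inf_le_left
      have hc : (K0.subgroupOf (P : Subgroup Γ)).Characteristic := by
        refine characteristic_preimage π ?_ hKc
        rw [QuotientGroup.ker_mk', inf_eq_right.2 (inf_le_left : Z ≤ (P : Subgroup Γ))]
        exact hZchar
      obtain ⟨m, rfl⟩ := hs g
      -- the part of `m` of order prime to `p`
      obtain ⟨a, ha⟩ := H5.exists_pow_prime_pow_coprime (p := p) m
      have hm : m ^ p ^ a ∈ Subgroup.normalizer (K0 : Set Γ) := by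
        rw [hK0, ← Subgroup.comap_normalizer_eq_of_surjective _ hs]
        rw [Subgroup.mem_comap, map_pow]
        exact pow_mem hg _
      have hmc := h K0 inf_le_left hc _ hm ha
      have hgp : π m ∈ Subgroup.zpowers (π m ^ p ^ a) :=
        mem_zpowers_pow_iff.2 (hgc.pow_right a).symm
      rw [Subgroup.mem_centralizer_iff]
      intro y hy
      obtain ⟨x, rfl⟩ := hs y
      have hx : x ∈ K0 := hK0 ▸ hy
      have hcomm : Commute (π x) (π m ^ p ^ a) := by
        rw [← map_pow, Commute, SemiconjBy, ← map_mul, ← map_mul,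
          Subgroup.mem_centralizer_iff.1 hmc x hx]
      obtain ⟨i, hi⟩ := hgp
      exact (hi ▸ hcomm.zpow_right i : Commute (π x) (π m))
    set L := (Cfsg.pResidual p (Γ ⧸ Z)).comap π
    have hZL : Z ≤ L := fun z hz => by
      rw [Subgroup.mem_comap, QuotientGroup.mk'_apply, (QuotientGroup.eq_one_iff z).2 hz]
      exact one_mem _
    obtain ⟨k, hk⟩ := H5.exists_index_pResidual_eq (G := Γ ⧸ Z) (p := p)
    refine npc_of_central L ⟨k, by rw [Subgroup.index_comap_of_surjective _ hs, hk]⟩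
      (Sylow.ofCard (Z.subgroupOf L) ?_) ?_
    · have hc : Nat.card L = Nat.card Z * Nat.card (Cfsg.pResidual p (Γ ⧸ Z)) :=
        H1.card_comap_mk' Z _
      obtain ⟨a, ha⟩ := IsPGroup.iff_card.1 (P.2.to_le (inf_le_left : Z ≤ (P : Subgroup Γ)))
      rw [Nat.card_congr (Subgroup.subgroupOfEquivOfLe hZL).toEquiv, hc, ha,
        Nat.factorization_mul (pow_ne_zero _ (Fact.out : p.Prime).ne_zero) Nat.card_pos.ne',
        Finsupp.add_apply, Nat.factorization_eq_zero_of_not_dvd
          (H5.hasNormalPComplement_iff_not_dvd.1 hq), add_zero,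
        (Fact.out : p.Prime).factorization_pow, Finsupp.single_eq_same]
    · intro x hx
      rw [Sylow.coe_ofCard] at hx
      exact Subgroup.mem_center_iff.2 fun y =>
        Subtype.ext (Subgroup.mem_center_iff.1 (hZc hx) y)
  by_cases hJn : Subgroup.normalizer (J : Set Γ) = ⊤
  · haveI : J.Normal := Subgroup.normalizer_eq_top_iff.1 hJn
    set L := Subgroup.centralizer (J : Set Γ)
    haveI : L.Normal := by infer_instance
    have hres : Cfsg.pResidual p Γ ≤ L := (Subgroup.closure_le _).2 fun g hg =>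
      h J hJP hJchar g (hJn.ge (Subgroup.mem_top g)) hg
    obtain ⟨k, hk⟩ := H5.exists_index_pResidual_eq (G := Γ) (p := p)
    obtain ⟨i, -, hi⟩ := (Nat.dvd_prime_pow Fact.out).1 (hk ▸ Subgroup.index_dvd_of_le hres)
    obtain ⟨S, hS⟩ := H6.exists_sylow_inf P L
    refine npc_of_central L ⟨i, hi⟩ S fun x hx => Subgroup.mem_center_iff.2 fun y => Subtype.ext ?_
    have hxP : (x : Γ) ∈ (P : Subgroup Γ) ⊓ L := hS ▸ ⟨x, hx, rfl⟩
    have hxJ : (x : Γ) ∈ J := ⟨⟨x, hxP.1⟩, H87.centralizer_thompson_le (P : Subgroup Γ)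
      (Subgroup.mem_centralizer_iff.2 fun j hj => Subtype.ext
        (Subgroup.mem_centralizer_iff.1 hxP.2 j ⟨j, hj, rfl⟩)), rfl⟩
    exact (Subgroup.mem_centralizer_iff.1 y.2 _ hxJ).symm
  refine H74.JA.normal_p_complement hp P
    (hsub _ (Subgroup.le_normalizer.trans (H74.JA.normalizer_le_normalizer_JA _)) hJn)
    (hsub _ (fun x hx => Subgroup.mem_centralizer_iff.2 fun z hz =>
      (Subgroup.mem_centralizer_iff.1 hz.2 x hx).symm) hZt)

theorem npc_or_moved_imp_false {q : ℕ} [Fact q.Prime] (hqp : q ≠ p) (h23 : ¬ (p = 2 ∧ q = 3))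
    {X M : Type u} [Group X] [Finite X] [Group M] [Finite M] (f : X →* M)
    (hM : ∀ r : ℕ, r.Prime → r ∣ Nat.card M → r = p ∨ r = q) (T : Sylow p M)
    (hlift : ∀ K : Subgroup M, K ≤ (T : Subgroup M) → (K.subgroupOf (T : Subgroup M)).Characteristic →
      ∀ g ∈ Subgroup.normalizer (K : Set M), (∃ k, g ^ q ^ k = 1) →
        g ∈ Subgroup.centralizer (K : Set M))
    (H : Subgroup X) (hH : IsPGroup p H) [H.Normal] (hsur : Function.Surjective f)
    (hdisj : Disjoint H f.ker) {x : X} (hxc : x ∉ Subgroup.centralizer (H : Set X))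
    {k : ℕ} (hxk : x ^ q ^ k = 1) : False := by
  have hp : p.Prime := Fact.out
  have hnpc : Cfsg.HasNormalPComplement p M := by
    refine npc_of_char M ?_ T fun K hK hKc g hg hgc => hlift K hK hKc g hg ?_
    · by_cases h2 : p = 2
      swap
      · exact Or.inl h2
      refine Or.inr ?_
      rintro ⟨K, R, hn, ⟨e⟩⟩
      haveI := hn
      have h1 : Nat.card (Equiv.Perm (Fin 4)) ∣ Nat.card M := by
        rw [← Nat.card_congr e.toEquiv]
        exact (Subgroup.card_quotient_dvd_card _).trans (Subgroup.card_subgroup_dvd_card K)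
      have h3 : 3 ∣ Nat.card M := dvd_trans (by
        rw [Nat.card_eq_fintype_card, Fintype.card_perm, Fintype.card_fin]; decide) h1
      rcases hM 3 Nat.prime_three h3 with h | h
      · omega
      · exact h23 ⟨h2, h.symm⟩
    · obtain ⟨i, hi⟩ : ∃ i, orderOf g = q ^ i := by
        refine ⟨_, Nat.eq_prime_pow_of_unique_prime_dvd (orderOf_pos g).ne' fun {d} hd hdd => ?_⟩
        refine (hM d hd (hdd.trans (orderOf_dvd_natCard g))).resolve_left ?_
        rintro rfl
        exact hd.not_dvd_one (hgc.gcd_eq_one ▸ Nat.dvd_gcd hdd dvd_rfl)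
      exact ⟨i, hi ▸ pow_orderOf_eq_one g⟩
  haveI : (H.map f).Normal := Subgroup.Normal.map inferInstance f hsur
  have hfx : f x ∈ Cfsg.pResidual p M := by
    refine H5.mem_pResidual_of_coprime ?_
    refine Nat.Coprime.coprime_dvd_left (orderOf_dvd_of_pow_eq_one (by rw [← map_pow, hxk, map_one]) :
      orderOf (f x) ∣ q ^ k) ?_
    exact ((Nat.coprime_primes Fact.out hp).2 hqp).pow_left k
  have hdis : Disjoint (H.map f) (Cfsg.pResidual p M) :=
    Subgroup.disjoint_of_coprime_natCard (by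
      obtain ⟨a, ha⟩ := IsPGroup.iff_card.1 (hH.map f)
      rw [ha]
      exact (hp.coprime_iff_not_dvd.2 (H5.hasNormalPComplement_iff_not_dvd.1 hnpc)).pow_left a)
  refine hxc (Subgroup.mem_centralizer_iff.2 fun h hh => ?_)
  have hc := Subgroup.commute_of_normal_of_disjoint _ _ inferInstance inferInstance hdis (f h) (f x)
    ⟨h, hh, rfl⟩ hfx
  have h1 : h * (x * h⁻¹ * x⁻¹) ∈ H := mul_mem hh (Subgroup.Normal.conj_mem inferInstance _ (inv_mem hh) x)
  have h2 : h * (x * h⁻¹ * x⁻¹) ∈ f.ker := by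
    rw [MonoidHom.mem_ker, map_mul, map_mul, map_mul, map_inv, map_inv, ← mul_assoc, ← mul_assoc,
      hc.eq]
    group
  have h3 := Subgroup.disjoint_def.1 hdisj h1 h2
  calc h * x = h * (x * h⁻¹ * x⁻¹) * (x * h) := by group
    _ = x * h := by rw [h3, one_mul]

/-- A moved subgroup normal in some Sylow `p`-subgroup. -/
theorem exists_moved_normal {q : ℕ} [Fact q.Prime] (hqp : q ≠ p) (h23 : ¬ (p = 2 ∧ q = 3))
    (hsol : ∀ H : Subgroup G, IsPGroup p H → Cfsg.IsPSolvable p
      (↥(Subgroup.normalizer (H : Set G)) ⧸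
        (Subgroup.centralizer (H : Set G)).subgroupOf (Subgroup.normalizer (H : Set G))))
    {H₀ : Subgroup G} (hH₀p : IsPGroup p H₀) (hH₀ : Moved q H₀) :
    ∃ S : Sylow p G, ∃ K : Subgroup G, K ≤ (S : Subgroup G) ∧
      (S : Subgroup G) ≤ Subgroup.normalizer (K : Set G) ∧ Moved q K := by
  classical
  have hp : p.Prime := Fact.out
  let Bad : Set (Subgroup G) := {U | IsPGroup p U ∧ Moved q U}
  let m : Subgroup G → ℕ := fun U =>
    (Nat.card ↥(Subgroup.normalizer (U : Set G))).factorization p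
  let f : Subgroup G → ℕ := fun U => m U * (Nat.card G + 1) + Nat.card U
  obtain ⟨H, ⟨hHp, hH⟩, hmax⟩ :=
    Set.exists_max_image Bad f Bad.toFinite ⟨H₀, hH₀p, hH₀⟩
  set N := Subgroup.normalizer (H : Set G) with hNdef
  set C := (Subgroup.centralizer (H : Set G)).subgroupOf N with hCdef
  haveI : C.Normal := centralizer_subgroupOf_normal H
  obtain ⟨x₀, hx₀, hx₀C, k₀, hk₀⟩ := hH
  have hqi : q ∣ Nat.card (N ⧸ C) :=
    C.index_eq_card ▸ dvd_index_of_qelem Fact.out C (x := ⟨x₀, hx₀⟩) hx₀C (Subtype.ext hk₀)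
  obtain ⟨R, hR1, hR2, hR3⟩ := exists_pq_subgroup (p := p) q hqp (N ⧸ C) (hsol H hHp) hqi
  set X := R.comap (QuotientGroup.mk' C) with hXdef
  have hCX : C ≤ X := fun c hc => by
    rw [hXdef, Subgroup.mem_comap, QuotientGroup.mk'_apply, (QuotientGroup.eq_one_iff c).2 hc]
    exact one_mem R
  have hXi : ¬ p ∣ X.index := by
    rwa [hXdef, Subgroup.index_comap_of_surjective _ (QuotientGroup.mk'_surjective C)]
  -- a Sylow subgroup of `N(H)` inside `X`
  obtain ⟨T₀⟩ : Nonempty (Sylow p X) := inferInstance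
  obtain ⟨T, hTX⟩ : ∃ T : Sylow p N, (T₀ : Subgroup X).map X.subtype = (T : Subgroup N) := by
    have hi : ¬ p ∣ ((T₀ : Subgroup X).map X.subtype).index := by
      rw [Subgroup.index_map_subtype]
      exact fun h => (hp.dvd_mul.1 h).elim T₀.not_dvd_index hXi
    exact ⟨(T₀.2.map X.subtype).toSylow hi, rfl⟩
  set P0 := (T : Subgroup N).map N.subtype with hP0
  obtain ⟨S, hS⟩ := (T.2.map N.subtype).exists_le_sylow
  have hHN : H ≤ N := Subgroup.le_normalizer
  haveI hHn : (H.subgroupOf N).Normal := Subgroup.normal_in_normalizer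
  have hHT : H.subgroupOf N ≤ (T : Subgroup N) :=
    (hHp.of_equiv (Subgroup.subgroupOfEquivOfLe hHN).symm).le_sylow_of_normal T
  have hHP0 : H ≤ P0 := fun h hh => ⟨⟨h, hHN hh⟩, hHT hh, rfl⟩
  by_cases heq : P0 = (S : Subgroup G)
  · exact ⟨S, H, hHP0.trans hS, heq ▸ Subgroup.map_subtype_le _, ⟨x₀, hx₀, hx₀C, k₀, hk₀⟩⟩
  have hlt : P0 < (S : Subgroup G) := lt_of_le_of_ne hS heq
  set P1 := (S : Subgroup G) ⊓ Subgroup.normalizer (P0 : Set G)
  have hP01 : P0 < P1 := H1.isPGroup_sup_lt_normalizer S.2 hlt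
  have hcard0 : Nat.card P0 = p ^ m H := by
    rw [hP0, Subgroup.card_map_of_injective N.subtype_injective, T.card_eq_multiplicity]
  have hbound : ∀ {U Q : Subgroup G}, IsPGroup p Q → Q ≤ Subgroup.normalizer (U : Set G) →
      Nat.card Q ≤ p ^ m U := by
    intro U Q hQ hQN
    obtain ⟨b, hb⟩ := IsPGroup.iff_card.1 hQ
    rw [hb]
    exact Nat.pow_le_pow_right hp.pos ((hp.pow_dvd_iff_le_factorization Nat.card_pos.ne').1
      (hb ▸ Subgroup.card_dvd_of_le hQN))
  -- nothing normalized by more than `P0` is moved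
  have hgood : ∀ W : Subgroup G, W ≤ P0 → P1 ≤ Subgroup.normalizer (W : Set G) → ¬ Moved q W := by
    intro W hW hWN hbad
    have h1 := hmax W ⟨(T.2.map N.subtype).to_le hW, hbad⟩
    have h2 : Nat.card P0 < Nat.card P1 :=
      lt_of_le_of_ne (Subgroup.card_le_of_le hP01.le)
        fun he => hP01.ne (Subgroup.eq_of_le_of_card_ge hP01.le he.ge)
    have h3 := hbound S.2.to_inf_left hWN
    have h4 : m H < m W := (Nat.pow_lt_pow_iff_right hp.one_lt).1 (hcard0 ▸ lt_of_lt_of_le h2 h3)
    have h5 : (m H + 1) * (Nat.card G + 1) ≤ m W * (Nat.card G + 1) := Nat.mul_le_mul_right _ h4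
    have h6 := Subgroup.card_le_card_group H
    simp only [f] at h1
    nlinarith
  -- the Sylow subgroup of the centralizer lies in `H`
  obtain ⟨SC, hSC⟩ := H6.exists_sylow_inf T C
  set D := (T : Subgroup N) ⊓ C with hD
  have hDH : D ≤ H.subgroupOf N := by
    obtain ⟨n, hn, hne⟩ : ∃ n : N, n ∈ Subgroup.normalizer (D : Set N) ∧
        QuotientGroup.mk' C n = QuotientGroup.mk' C ⟨x₀, hx₀⟩ := by
      have hfr : Subgroup.normalizer (D : Set N) ⊔ C = ⊤ := hSC ▸ SC.normalizer_sup_eq_top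
      have : QuotientGroup.mk' C ⟨x₀, hx₀⟩ ∈
          (Subgroup.normalizer (D : Set N)).map (QuotientGroup.mk' C) := by
        have h1 : (⊤ : Subgroup N).map (QuotientGroup.mk' C) =
            (Subgroup.normalizer (D : Set N)).map (QuotientGroup.mk' C) := by
          rw [← hfr, Subgroup.map_sup, QuotientGroup.map_mk'_self, sup_bot_eq]
        exact h1 ▸ ⟨_, Subgroup.mem_top _, rfl⟩
      obtain ⟨n, hn, hne⟩ := this
      exact ⟨n, hn, hne⟩
    obtain ⟨j, hj, a, ha⟩ := exists_qelem_pow (QuotientGroup.mk' C) Fact.out n (k := k₀) (by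
      rw [hne, ← map_pow, show (⟨x₀, hx₀⟩ : N) ^ q ^ k₀ = 1 from Subtype.ext hk₀, map_one])
    set y := n ^ j
    have hyD : y ∈ Subgroup.normalizer (D : Set N) := pow_mem hn j
    have hyC : y ∉ C := fun hy => hx₀C (by
      have h1 := (QuotientGroup.eq_one_iff y).2 hy
      have h2 : QuotientGroup.mk' C ⟨x₀, hx₀⟩ = 1 := by rw [← hne, ← hj]; exact h1
      exact (QuotientGroup.eq_one_iff (⟨x₀, hx₀⟩ : N)).1 h2)
    set Dm := D.map N.subtype
    set W := H ⊔ Dm
    have hWP : W ≤ P0 := sup_le hHP0 (Subgroup.map_mono inf_le_left)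
    have hWmoved : Moved q W := by
      refine ⟨y, Subgroup.normalizer_inf_normalizer_le_normalizer_sup _ _ ⟨y.2, ?_⟩, fun hc => hyC ?_,
        a, congrArg Subtype.val ha⟩
      · exact Subgroup.le_normalizer_map N.subtype ⟨y, hyD, rfl⟩
      · exact Subgroup.centralizer_le (show (H : Set G) ⊆ W from le_sup_left (a := H)) hc
    have hTD : (T : Subgroup N) ≤ Subgroup.normalizer (D : Set N) := by
      intro t ht
      refine Subgroup.mem_normalizer_fintype fun d hd => ?_
      exact ⟨(T : Subgroup N).mul_mem ((T : Subgroup N).mul_mem ht hd.1) ((T : Subgroup N).inv_mem ht), Subgroup.Normal.conj_mem inferInstance d hd.2 t⟩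
    have hPW : P0 ≤ Subgroup.normalizer (W : Set G) := fun z hz =>
      Subgroup.normalizer_inf_normalizer_le_normalizer_sup _ _
        ⟨Subgroup.map_subtype_le _ hz, ((Subgroup.map_mono hTD).trans
          (Subgroup.le_normalizer_map N.subtype)) hz⟩
    have h1 := hmax W ⟨(T.2.map N.subtype).to_le hWP, hWmoved⟩
    have h2 : m H ≤ m W :=
      (Nat.pow_le_pow_iff_right hp.one_lt).1 (hcard0 ▸ hbound (T.2.map N.subtype) hPW)
    have h3 : W = H := by
      refine (Subgroup.eq_of_le_of_card_ge le_sup_left ?_).symm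
      have h5 : m H * (Nat.card G + 1) ≤ m W * (Nat.card G + 1) := Nat.mul_le_mul_right _ h2
      simp only [f] at h1
      change Nat.card W ≤ Nat.card H
      omega
    intro d hd
    exact h3.le (le_sup_right (a := H) ⟨d, hd, rfl⟩)
  -- the normal `p`-complement of the centralizer
  have hSCc : (SC : Subgroup C) ≤ Subgroup.center C := fun s hs =>
    Subgroup.mem_center_iff.2 fun c => Subtype.ext (Subtype.ext
      (Subgroup.mem_centralizer_iff.1 c.2 _ (hDH (hSC ▸ ⟨s, hs, rfl⟩))).symm)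
  have hCnpc : Cfsg.HasNormalPComplement p C :=
    ⟨SC, _, inferInstance, MonoidHom.ker_transferSylow_isComplement' SC
      (fun x _ => Subgroup.mem_centralizer_iff.2 fun s hs =>
        (Subgroup.mem_center_iff.1 (hSCc hs) x).symm)⟩
  set O := (Cfsg.pResidual p C).map C.subtype with hO
  have hOp : (Nat.card O).Coprime p := by
    rw [hO, Subgroup.card_map_of_injective C.subtype_injective]
    exact (hp.coprime_iff_not_dvd.2 (H5.hasNormalPComplement_iff_not_dvd.1 hCnpc)).symm
  haveI hOn : O.Normal := by rw [hO]; infer_instance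
  set O' := O.subgroupOf X
  haveI : O'.Normal := Subgroup.normal_subgroupOf
  have hOC : O ≤ C := Subgroup.map_subtype_le _
  have hO'p : (Nat.card O').Coprime p := by
    rwa [Nat.card_congr (Subgroup.subgroupOfEquivOfLe (hOC.trans hCX)).toEquiv]
  set π := QuotientGroup.mk' O' with hπ
  have hπs : Function.Surjective π := QuotientGroup.mk'_surjective O'
  have hdisjT : ∀ U : Subgroup X, IsPGroup p U → Disjoint U π.ker := fun U hU => by
    rw [hπ, QuotientGroup.ker_mk']
    exact (Subgroup.disjoint_of_coprime_natCard (H1.coprime_card_of_isPGroup hO'p hU)).symm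
  have hTe : ((T₀ : Subgroup X).map X.subtype).map N.subtype = P0 := by rw [hTX]
  obtain ⟨x, hxC, k', hxk⟩ : ∃ x : X, (x : N) ∉ C ∧ ∃ k, x ^ q ^ k = 1 := by
    obtain ⟨z, hz⟩ := exists_prime_orderOf_dvd_card' q hR3
    obtain ⟨n, hn⟩ := QuotientGroup.mk'_surjective C (z : N ⧸ C)
    obtain ⟨j, hj, a, ha⟩ := exists_qelem_pow (QuotientGroup.mk' C) Fact.out n (k := 1) (by
      rw [pow_one, hn, ← Subgroup.coe_pow, orderOf_dvd_iff_pow_eq_one.1 (dvd_of_eq hz), Subgroup.coe_one])
    have hnX : n ∈ X := by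
      rw [hXdef, Subgroup.mem_comap, hn]
      exact z.2
    refine ⟨⟨n ^ j, pow_mem hnX j⟩, fun hc => ?_, a, Subtype.ext ha⟩
    have h1 := (QuotientGroup.eq_one_iff (n ^ j)).2 hc
    have h2 : (z : N ⧸ C) = 1 := by rw [← hn, ← hj]; exact h1
    rw [← Subgroup.orderOf_coe, h2, orderOf_one] at hz
    exact (Fact.out : q.Prime).ne_one hz.symm
  have hxH : x ∉ Subgroup.centralizer (((H.subgroupOf N).subgroupOf X : Subgroup X) : Set X) := by
    intro hc
    refine hxC (Subgroup.mem_centralizer_iff.2 fun h hh => ?_)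
    have hhX : (⟨h, hHN hh⟩ : N) ∈ X := (hTX ▸ Subgroup.map_subtype_le _) (hHT hh)
    exact congrArg (fun z : X => ((z : N) : G))
      (Subgroup.mem_centralizer_iff.1 hc ⟨⟨h, hHN hh⟩, hhX⟩ hh)
  refine (npc_or_moved_imp_false (p := p) hqp h23 π (fun r hr hd => ?_) (T₀.mapSurjective hπs) ?_
    (H := (H.subgroupOf N).subgroupOf X) ?_ hπs (hdisjT _ ?_) hxH hxk).elim
  · -- the order of `X/O`
    obtain ⟨i, hi⟩ := H5.exists_index_pResidual_eq (G := C) (p := p)
    have h1 : Nat.card X = Nat.card O * (p ^ i * Nat.card R) := by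
      rw [hXdef, H1.card_comap_mk', ← mul_assoc, hO,
        Subgroup.card_map_of_injective C.subtype_injective, ← hi, Subgroup.card_mul_index]
    rw [Subgroup.card_eq_card_quotient_mul_card_subgroup O',
      Nat.card_congr (Subgroup.subgroupOfEquivOfLe (hOC.trans hCX)).toEquiv, mul_comm] at h1
    rw [Nat.eq_of_mul_eq_mul_left Nat.card_pos h1] at hd
    rcases hr.dvd_mul.1 hd with h | h
    · exact Or.inl ((Nat.prime_dvd_prime_iff_eq hr hp).1 (hr.dvd_of_dvd_pow h))
    · exact hR1 r hr h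
  · -- characteristic subgroups of the Sylow subgroup
    intro K hK hKc g hg hgq
    rw [Sylow.coe_mapSurjective] at hK hKc
    set K0 := (T₀ : Subgroup X) ⊓ K.comap π
    have hK0p : IsPGroup p K0 := T₀.2.to_inf_left
    have hK0m : K0.map π = K := by
      refine le_antisymm (Subgroup.map_le_iff_le_comap.2 inf_le_right) fun k hk => ?_
      obtain ⟨t, ht, rfl⟩ := hK hk
      exact ⟨t, ⟨ht, hk⟩, rfl⟩
    have hc0 : (K0.subgroupOf (T₀ : Subgroup X)).Characteristic := by
      refine characteristic_preimage π ?_ hKc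
      rw [(hdisjT _ T₀.2).eq_bot, Subgroup.bot_subgroupOf]
      infer_instance
    set KG := (K0.map X.subtype).map N.subtype
    have hcG : (KG.subgroupOf P0).Characteristic := by
      have h1 := characteristic_image (N.subtype.comp X.subtype) (inf_le_left : K0 ≤ (T₀ : Subgroup X))
        (by rw [(MonoidHom.ker_eq_bot_iff _).2 (Function.Injective.comp (g := N.subtype) (f := X.subtype) N.subtype_injective X.subtype_injective)]
            exact disjoint_bot_right) hc0
      rw [← Subgroup.map_map, ← Subgroup.map_map, hTe] at h1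
      exact h1
    have hKGP : KG ≤ P0 := hTe ▸ Subgroup.map_mono (Subgroup.map_mono inf_le_left)
    have hP1K : P1 ≤ Subgroup.normalizer (KG : Set G) := by
      rintro z ⟨-, hz⟩
      rw [Subgroup.mem_normalizer_iff_map_conj_eq]
      let φ : MulAut P0 := Subgroup.normalizerMonoidHom P0 ⟨z, hz⟩
      have h1 := Subgroup.characteristic_iff_map_eq.1 hcG φ
      refine Subgroup.eq_of_le_of_card_ge ?_ (Subgroup.card_map_of_injective (MulAut.conj z).injective).ge
      rintro _ ⟨w, hw, rfl⟩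
      exact h1.le ⟨⟨w, hKGP hw⟩, hw, rfl⟩
    have hno := hgood KG hKGP hP1K
    obtain ⟨w, hw, hwg⟩ := H1.normalizer_map_le_of_coprime O' hO'p hK0p (hK0m.symm ▸ hg)
    obtain ⟨k, hk⟩ := hgq
    obtain ⟨j, hj, a, ha⟩ := exists_qelem_pow π Fact.out w (k := k) (by
      show (π w) ^ q ^ k = 1
      rw [hwg, hk])
    set y := w ^ j
    have hyN : y ∈ Subgroup.normalizer (K0 : Set X) := pow_mem hw j
    have hyc : ((y : N) : G) ∈ Subgroup.centralizer (KG : Set G) := by
      by_contra hc
      refine hno ⟨((y : N) : G), ?_, hc, a, congrArg (fun z : X => ((z : N) : G)) ha⟩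
      exact Subgroup.le_normalizer_map N.subtype
        ⟨(y : N), Subgroup.le_normalizer_map X.subtype ⟨y, hyN, rfl⟩, rfl⟩
    have hyg : π y = g := hj.trans hwg
    rw [Subgroup.mem_centralizer_iff]
    intro c hc
    rw [← hK0m] at hc
    obtain ⟨c, hc, rfl⟩ := hc
    rw [← hyg, ← map_mul, ← map_mul]
    congr 1
    exact Subtype.ext (Subtype.ext
      (Subgroup.mem_centralizer_iff.1 hyc _ ⟨(c : N), ⟨c, hc, rfl⟩, rfl⟩))
  · refine IsPGroup.of_equiv ?_ (Subgroup.subgroupOfEquivOfLe ?_).symm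
    · exact hHp.of_equiv (Subgroup.subgroupOfEquivOfLe hHN).symm
    · exact hHT.trans (hTX ▸ Subgroup.map_subtype_le _)
  · refine IsPGroup.of_equiv ?_ (Subgroup.subgroupOfEquivOfLe ?_).symm
    · exact hHp.of_equiv (Subgroup.subgroupOfEquivOfLe hHN).symm
    · exact hHT.trans (hTX ▸ Subgroup.map_subtype_le _)

end H88.AutMove
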