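import Mathlib.GroupTheory.Frattini
import Mathlib.GroupTheory.GroupAction.ConjAct
import Mathlib.GroupTheory.GroupAction.Quotient
import Mathlib.GroupTheory.OrderOfElement
import Mathlib.Algebra.BigOperators.Group.Finset.Basic
import Mathlib.GroupTheory.Subgroup.Center
import Mathlib.Tactic.Group

/-!
A transfer-type averaging argument for crossed homomorphisms, and its consequence: coprime central
automorphisms of a normal subgroup `R`, permuted freely by the outer group and moving elements only
inside the Frattini subgroup, are trivial.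
-/

set_option autoImplicit false

namespace H88

universe v

variable {T : Type v} [Group T] {R : Subgroup T} [R.Normal]

/-- The element of `R` carried by `s` and the coset `q`. -/
noncomputable def cocyclePart (s : T) (q : T ⧸ R) : R :=
  ⟨((s • q).out)⁻¹ * s * q.out, by
    rw [mul_assoc, ← QuotientGroup.eq, QuotientGroup.out_eq']
    show s • q = s • ((q.out : T) : T ⧸ R)
    rw [QuotientGroup.out_eq']⟩

theorem cocyclePart_mul (s s' : T) (q : T ⧸ R) :
    cocyclePart (s * s') q = cocyclePart s (s' • q) * cocyclePart s' q := by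
  apply Subtype.ext
  simp only [cocyclePart, Subgroup.coe_mul, mul_smul]
  group

theorem coset_smul_eq_of_mem {r : T} (hr : r ∈ R) (q : T ⧸ R) : r • q = q := by
  induction q using QuotientGroup.induction_on with
  | _ t =>
    show ((r * t : T) : T ⧸ R) = t
    rw [QuotientGroup.eq]
    simpa [mul_assoc] using R.inv_mem (Subgroup.Normal.conj_mem' ‹_› r hr t)

theorem cocyclePart_of_mem (r : R) (q : T ⧸ R) :
    cocyclePart (r : T) q = (MulAut.conjNormal q.out)⁻¹ r := by
  apply Subtype.ext
  rw [MulAut.conjNormal_inv_apply]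
  simp only [cocyclePart, coset_smul_eq_of_mem r.2]

variable [Finite T] {A : Type*} [CommGroup A]

/-- The averaged crossed homomorphism attached to a homomorphism `u` on `R`. -/
noncomputable def averaged (act : T →* MulAut A) (u : R →* A) (s : T) : A :=
  letI := Fintype.ofFinite (T ⧸ R)
  ∏ q : T ⧸ R, act (s • q).out (u (cocyclePart s q))

theorem averaged_mul (act : T →* MulAut A) (hact : ∀ r ∈ R, act r = 1) (u : R →* A) (s s' : T) :
    averaged act u (s * s') = averaged act u s * act s (averaged act u s') := by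
  letI := Fintype.ofFinite (T ⧸ R)
  simp only [averaged, cocyclePart_mul, map_mul, Finset.prod_mul_distrib, map_prod, mul_smul]
  congr 1
  · exact Fintype.prod_equiv (MulAction.toPerm s') _ _ (fun q => rfl)
  · refine Finset.prod_congr rfl fun q _ => ?_
    have : (s • (s' • q)).out = s * (s' • q).out * ((cocyclePart s (s' • q) : R) : T)⁻¹ := by
      simp only [cocyclePart]
      group
    rw [this, map_mul, map_inv, hact _ (cocyclePart s (s' • q)).2, inv_one, mul_one, map_mul,
      MulAut.mul_apply]

theorem averaged_of_mem (act : T →* MulAut A) (u : R →* A) (r : R) :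
    averaged act u (r : T) =
      letI := Fintype.ofFinite (T ⧸ R)
      ∏ q : T ⧸ R, act q.out (u ((MulAut.conjNormal q.out)⁻¹ r)) := by
  simp only [averaged, cocyclePart_of_mem, coset_smul_eq_of_mem r.2]

/-- If the averaged crossed homomorphism raises every element of the abelian subgroup `ι(A)`,
contained in the Frattini subgroup, to a power prime to its order, then `A` is trivial. -/
theorem eq_one_of_averaged (act : T →* MulAut A) (hact : ∀ r ∈ R, act r = 1) (u : R →* A)
    (ι : A →* R) (hfr : ∀ a, ((ι a : R) : T) ∈ frattini T) (n : ℕ) (hn : (Nat.card A).Coprime n)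
    (hpow : ∀ a, averaged act u ((ι a : R) : T) = (a ^ n)⁻¹) (a : A) : a = 1 := by
  have hone : averaged act u (1 : T) = 1 := by
    have h := averaged_mul act hact u (1 : T) 1
    rw [one_mul, map_one, MulAut.one_apply] at h
    exact left_eq_mul.1 h
  let ker : Subgroup T :=
    { carrier := {s | averaged act u s = 1}
      one_mem' := hone
      mul_mem' := fun {a b} ha hb => by
        rw [Set.mem_ofPred_eq] at ha hb ⊢
        rw [averaged_mul act hact, ha, hb, map_one, one_mul]
      inv_mem' := fun {a} ha => by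
        rw [Set.mem_ofPred_eq] at ha ⊢
        have h := averaged_mul act hact u a⁻¹ a
        rw [inv_mul_cancel, hone, ha, map_one, mul_one] at h
        exact h.symm }
  have hker : ker = ⊤ := by
    refine frattini_nongenerating ?_
    rw [eq_top_iff]
    intro s _
    let w : A := (powCoprime hn).symm (averaged act u s)
    have hw : w ^ n = averaged act u s := (powCoprime hn).apply_symm_apply _
    have hk : ((ι w : R) : T) * s ∈ ker := by
      show averaged act u _ = 1
      rw [averaged_mul act hact, hact _ (ι w).2, hpow, hw, MulAut.one_apply, inv_mul_cancel]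
    have e : s = ((ι w : R) : T)⁻¹ * (((ι w : R) : T) * s) := by group
    rw [e]
    exact mul_mem (Subgroup.mem_sup_right (inv_mem (hfr w))) (Subgroup.mem_sup_left hk)
  have h1 : averaged act u ((ι a : R) : T) = 1 :=
    (hker ▸ Subgroup.mem_top _ : ((ι a : R) : T) ∈ ker)
  rw [hpow, inv_eq_one] at h1
  exact (powCoprime hn).injective (h1.trans (one_pow n).symm)

/-- The displacement `r ↦ r⁻¹ k(r)` of an automorphism. -/
def disp (k : MulAut R) (r : R) : R := r⁻¹ * k r

/-- A bijection from cosets and orbit representatives onto the nontrivial elements of `K`. -/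
theorem exists_orbit_bijection (K : Subgroup (MulAut R))
    (hnorm : ∀ (t : T), ∀ k ∈ K, MulAut.conjNormal t * k * (MulAut.conjNormal t)⁻¹ ∈ K)
    (hinner : ∀ r ∈ R, ∀ k ∈ K, MulAut.conjNormal r * k * (MulAut.conjNormal r)⁻¹ = k)
    (hfree : ∀ k ∈ K, k ≠ 1 → ∀ t : T, t ∉ R →
      MulAut.conjNormal t * k * (MulAut.conjNormal t)⁻¹ ≠ k) :
    ∃ (X : Type v) (_ : Fintype X) (rep : X → K) (Φ : (T ⧸ R) × X ≃ {k : K // k ≠ 1}),
      ∀ q x, ((Φ (q, x)).1 : MulAut R) =
        MulAut.conjNormal q.out * (rep x : MulAut R) * (MulAut.conjNormal q.out)⁻¹ := by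
  classical
  haveI : Finite (MulAut R) := Finite.of_injective _ DFunLike.coe_injective
  let cj : T → K → K := fun t k => ⟨_, hnorm t k k.2⟩
  have hcj1 : ∀ k, cj 1 k = k := fun k => Subtype.ext (by simp [cj])
  have hcjmul : ∀ s t k, cj (s * t) k = cj s (cj t k) := fun s t k => Subtype.ext (by
    simp only [cj, map_mul, mul_inv_rev]
    group)
  have hcjne : ∀ t k, k ≠ 1 → cj t k ≠ 1 := by
    intro t k hk h
    apply hk
    have h2 := congrArg (cj t⁻¹) h
    rw [← hcjmul, inv_mul_cancel, hcj1] at h2
    rw [h2]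
    exact Subtype.ext (by simp [cj])
  let sd : Setoid {k : K // k ≠ 1} :=
    { r := fun a b => ∃ t, cj t a.1 = b.1
      iseqv :=
        { refl := fun a => ⟨1, hcj1 _⟩
          symm := fun {a b} ⟨t, ht⟩ => ⟨t⁻¹, by rw [← ht, ← hcjmul, inv_mul_cancel, hcj1]⟩
          trans := fun {a b c} ⟨t, ht⟩ ⟨s, hs⟩ => ⟨s * t, by rw [hcjmul, ht, hs]⟩ } }
  haveI : Finite (Quotient sd) := Quotient.finite sd
  let f : (T ⧸ R) × Quotient sd → {k : K // k ≠ 1} := fun qx =>
    ⟨cj qx.1.out qx.2.out.1, hcjne _ _ qx.2.out.2⟩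
  have hf : Function.Bijective f := by
    constructor
    · rintro ⟨q, x⟩ ⟨q', x'⟩ h
      have h' : cj q.out x.out.1 = cj q'.out x'.out.1 := congrArg Subtype.val h
      have hx : x = x' := Quotient.out_equiv_out.1 ⟨q'.out⁻¹ * q.out, by
        rw [hcjmul, h', ← hcjmul, inv_mul_cancel, hcj1]⟩
      subst hx
      have h2 : cj (q'.out⁻¹ * q.out) x.out.1 = x.out.1 := by
        rw [hcjmul, h', ← hcjmul, inv_mul_cancel, hcj1]
      have hmem : q'.out⁻¹ * q.out ∈ R := by
        by_contra hn
        exact hfree _ x.out.1.2 (fun he => x.out.2 (Subtype.ext he)) _ hn (congrArg Subtype.val h2)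
      have hq : (q'.out : T ⧸ R) = q.out := QuotientGroup.eq.2 hmem
      rw [QuotientGroup.out_eq', QuotientGroup.out_eq'] at hq
      rw [hq]
    · rintro k
      obtain ⟨t, ht⟩ := Quotient.mk_out (s := sd) k
      refine ⟨((t : T ⧸ R), Quotient.mk sd k), Subtype.ext ?_⟩
      show cj (t : T ⧸ R).out (Quotient.mk sd k).out.1 = k.1
      have hr : t⁻¹ * (t : T ⧸ R).out ∈ R := by
        rw [← QuotientGroup.eq, QuotientGroup.out_eq']
      have e : (t : T ⧸ R).out = t * (t⁻¹ * (t : T ⧸ R).out) := by group
      rw [e, hcjmul]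
      have h1 : cj (t⁻¹ * (t : T ⧸ R).out) (Quotient.mk sd k).out.1 = (Quotient.mk sd k).out.1 :=
        Subtype.ext (hinner _ hr _ (Quotient.mk sd k).out.1.2)
      rw [h1]
      exact ht
  exact ⟨Quotient sd, Fintype.ofFinite _, fun x => x.out.1, Equiv.ofBijective f hf, fun q x => rfl⟩

theorem central_commutes_inner (K : Subgroup (MulAut R))
    (hcen : ∀ k ∈ K, ∀ r : R, disp k r ∈ Subgroup.center R) :
    ∀ r ∈ R, ∀ k ∈ K, MulAut.conjNormal r * k * (MulAut.conjNormal r)⁻¹ = k := by
  intro r hr k hk
  refine MulEquiv.ext fun x => ?_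
  obtain ⟨x, rfl⟩ := (MulAut.conjNormal (H := R) r).surjective x
  rw [MulAut.mul_apply, MulAut.mul_apply, MulAut.inv_apply_self]
  have hc := Subgroup.mem_center_iff.1 (hcen k hk ⟨r, hr⟩) (k x)
  have e : ∀ y : R, MulAut.conjNormal r y = (⟨r, hr⟩ : R) * y * (⟨r, hr⟩ : R)⁻¹ := fun y =>
    Subtype.ext (MulAut.conjNormal_apply r y)
  rw [e, e, map_mul, map_mul, map_inv]
  have e2 : k ⟨r, hr⟩ = (⟨r, hr⟩ : R) * disp k ⟨r, hr⟩ := by simp [disp]
  rw [e2, mul_assoc ((⟨r, hr⟩ : R)) (disp k _) (k x), ← hc]
  group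

theorem eq_bot_of_free_central (K : Subgroup (MulAut R))
    (hcop : (Nat.card K).Coprime (Nat.card R))
    (hnorm : ∀ (t : T), ∀ k ∈ K, MulAut.conjNormal t * k * (MulAut.conjNormal t)⁻¹ ∈ K)
    (hcen : ∀ k ∈ K, ∀ r : R, disp k r ∈ Subgroup.center R)
    (hfree : ∀ k ∈ K, k ≠ 1 → ∀ t : T, t ∉ R →
      MulAut.conjNormal t * k * (MulAut.conjNormal t)⁻¹ ≠ k)
    (hfr : ∀ k ∈ K, ∀ r : R, ((disp k r : R) : T) ∈ frattini T) : K = ⊥ := by
  classical
  haveI : Finite (MulAut R) := Finite.of_injective _ DFunLike.coe_injective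
  letI := Fintype.ofFinite K
  letI := Fintype.ofFinite (T ⧸ R)
  obtain ⟨X, hX, rep, Φ, hΦ⟩ :=
    exists_orbit_bijection K hnorm (central_commutes_inner K hcen) hfree
  let B : Subgroup R := Subgroup.closure {a | ∃ k ∈ K, ∃ r : R, disp k r = a}
  have hBc : B ≤ Subgroup.center R :=
    (Subgroup.closure_le _).2 fun a ⟨k, hk, r, h⟩ => h ▸ hcen k hk r
  letI hB : CommGroup B :=
    { (inferInstance : Group B) with
      mul_comm := fun a b => Subtype.ext (Subgroup.mem_center_iff.1 (hBc b.2) a) }
  have hBinv : ∀ (t : T), ∀ a ∈ B, MulAut.conjNormal t a ∈ B := by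
    intro t a ha
    induction ha using Subgroup.closure_induction with
    | mem x hx =>
      obtain ⟨k, hk, r, rfl⟩ := hx
      refine Subgroup.subset_closure ⟨_, hnorm t k hk, MulAut.conjNormal t r, ?_⟩
      simp only [disp, map_mul, map_inv, MulAut.mul_apply, MulAut.inv_apply_self]
    | one => rw [map_one]; exact one_mem _
    | mul x y _ _ hx hy => rw [map_mul]; exact mul_mem hx hy
    | inv x _ hx => rw [map_inv]; exact inv_mem hx
  let act : T →* MulAut B :=
    { toFun := fun t =>
        { toFun := fun b => ⟨MulAut.conjNormal t b, hBinv t b b.2⟩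
          invFun := fun b => ⟨(MulAut.conjNormal t)⁻¹ b, by
            have := hBinv t⁻¹ b b.2
            rwa [map_inv] at this⟩
          left_inv := fun b => Subtype.ext (MulAut.inv_apply_self _ _ _)
          right_inv := fun b => Subtype.ext (MulAut.apply_inv_self _ _ _)
          map_mul' := fun a b => Subtype.ext (map_mul (MulAut.conjNormal t) (a : R) b) }
      map_one' := MulEquiv.ext fun b => Subtype.ext (by simp)
      map_mul' := fun s t => MulEquiv.ext fun b => Subtype.ext (by
        show MulAut.conjNormal (s * t) (b : R) = MulAut.conjNormal s (MulAut.conjNormal t (b : R))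
        rw [map_mul, MulAut.mul_apply]) }
  have hact : ∀ r ∈ R, act r = 1 := fun r hr => MulEquiv.ext fun b => Subtype.ext (Subtype.ext (by
    show ((MulAut.conjNormal r (b : R) : R) : T) = ((b : R) : T)
    rw [MulAut.conjNormal_apply]
    have : r * ((b : R) : T) = ((b : R) : T) * r :=
      congrArg (fun x : R => (x : T)) (Subgroup.mem_center_iff.1 (hBc b.2) (⟨r, hr⟩ : R))
    rw [this, mul_inv_cancel_right]))
  let d : K → R →* B := fun k =>
    { toFun := fun r => ⟨disp k r, Subgroup.subset_closure ⟨k, k.2, r, rfl⟩⟩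
      map_one' := Subtype.ext (by simp [disp])
      map_mul' := fun a b => Subtype.ext (by
        show disp (k : MulAut R) (a * b) = disp (k : MulAut R) a * disp (k : MulAut R) b
        have hc := Subgroup.mem_center_iff.1 (hcen k k.2 a) b⁻¹
        simp only [disp, map_mul, mul_inv_rev] at *
        calc b⁻¹ * a⁻¹ * ((k : MulAut R) a * (k : MulAut R) b)
            = (b⁻¹ * (a⁻¹ * (k : MulAut R) a)) * (k : MulAut R) b := by group
          _ = _ := by rw [hc]; group) }
  let u : R →* B := ∏ x : X, d (rep x)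
  have hDR : ∀ r : R, averaged act u (r : T) = ∏ k : K, d k r := by
    intro r
    have hterm : ∀ (q : T ⧸ R) (x : X),
        act q.out (d (rep x) ((MulAut.conjNormal q.out)⁻¹ r)) = d (Φ (q, x)).1 r := by
      intro q x
      apply Subtype.ext
      show MulAut.conjNormal q.out (((MulAut.conjNormal q.out)⁻¹ r)⁻¹ *
        (rep x : MulAut R) ((MulAut.conjNormal q.out)⁻¹ r)) = r⁻¹ * ((Φ (q, x)).1 : MulAut R) r
      rw [map_mul, map_inv, MulAut.apply_inv_self, hΦ, MulAut.mul_apply, MulAut.mul_apply]
    have h1 : averaged act u (r : T) = ∏ qx : (T ⧸ R) × X, d (Φ qx).1 r := by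
      rw [averaged_of_mem, Fintype.prod_prod_type]
      refine Finset.prod_congr (by convert rfl) fun q _ => ?_
      simp only [u, MonoidHom.finsetProd_apply, map_prod]
      exact Finset.prod_congr rfl fun x _ => hterm q x
    have h2 : ∏ qx : (T ⧸ R) × X, d (Φ qx).1 r = ∏ k : {k : K // k ≠ 1}, d k.1 r :=
      Fintype.prod_equiv Φ _ _ (fun qx => rfl)
    have h3 : d 1 r = 1 := Subtype.ext (by simp [d, disp])
    rw [h1, h2, ← Finset.prod_subtype ((Finset.univ : Finset K).erase 1) (by simp) (fun k => d k r),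
      ← Finset.mul_prod_erase Finset.univ (fun k => d k r) (Finset.mem_univ 1), h3, one_mul]
  have hDd : ∀ (l : K) (r : R),
      averaged act u ((disp (l : MulAut R) r : R) : T) = ((d l r) ^ Fintype.card K)⁻¹ := by
    intro l r
    rw [hDR]
    have e : ∀ k : K, d k (disp (l : MulAut R) r) = (d l r)⁻¹ * ((d k r)⁻¹ * d (k * l) r) := by
      intro k
      apply Subtype.ext
      show (disp (l : MulAut R) r)⁻¹ * (k : MulAut R) (r⁻¹ * (l : MulAut R) r) =
        (disp (l : MulAut R) r)⁻¹ *
          ((r⁻¹ * (k : MulAut R) r)⁻¹ * (r⁻¹ * (k : MulAut R) ((l : MulAut R) r)))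
      rw [map_mul, map_inv]
      group
    simp only [e, Finset.prod_mul_distrib, Finset.prod_inv_distrib, Finset.prod_const,
      Finset.card_univ]
    rw [Fintype.prod_equiv (Equiv.mulRight l) (fun k => d (k * l) r) (fun k => d k r) (fun k => rfl),
      inv_mul_cancel, mul_one]
  have hpow : ∀ a : B, averaged act u ((a : R) : T) = (a ^ Fintype.card K)⁻¹ := by
    intro a
    have hD : ∀ x : R, averaged act u (x : T) = (∏ k : K, d k) x := fun x => by
      rw [hDR, MonoidHom.finsetProd_apply]
    rw [hD]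
    obtain ⟨a, ha⟩ := a
    show (∏ k : K, d k) a = _
    induction ha using Subgroup.closure_induction with
    | mem x hx =>
      obtain ⟨k, hk, r, rfl⟩ := hx
      rw [← hD]
      exact hDd ⟨k, hk⟩ r
    | one => rw [map_one]; exact (inv_eq_one.2 (one_pow _)).symm
    | mul x y hx' hy' hx hy =>
      rw [map_mul, hx, hy, ← mul_inv, ← mul_pow]
      rfl
    | inv x hx' hx =>
      rw [map_inv, hx, ← inv_pow]
      rfl
  have hcopB : (Nat.card B).Coprime (Fintype.card K) := by
    rw [← Nat.card_eq_fintype_card]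
    exact Nat.Coprime.coprime_dvd_left (Subgroup.card_subgroup_dvd_card B) hcop.symm
  have hfrB : ∀ a : B, ((a : R) : T) ∈ frattini T := by
    intro a
    have : B ≤ (frattini T).subgroupOf R :=
      (Subgroup.closure_le _).2 fun x ⟨k, hk, r, h⟩ => h ▸ hfr k hk r
    exact this a.2
  refine (Subgroup.eq_bot_iff_forall K).2 fun l hl => MulEquiv.ext fun r => ?_
  have h := eq_one_of_averaged act hact u B.subtype hfrB _ hcopB hpow (d ⟨l, hl⟩ r)
  have h3 : disp l r = 1 := congrArg (fun a : B => (a : R)) h
  rw [disp, inv_mul_eq_one] at h3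
  exact h3.symm

end H88
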