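import Cfsg.Agent.H88.Normal
import Cfsg.Agent.H85.Normal
import Cfsg.Agent.H86.Criterion
import Mathlib.FieldTheory.Finite.Basic
import Mathlib.GroupTheory.SchurZassenhaus

/-!
Chains of strongly closed subgroups with cyclic steps in a fusion system, and their refinement to
steps of order at most `p`.
-/

set_option autoImplicit false

open Cfsg Cfsg.FusionSystem

namespace H88

variable {Ω : Type*} [Group Ω] {S : Subgroup Ω} {p : ℕ}

/-- Reachable from the trivial subgroup by strongly closed subgroups with cyclic steps. -/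
inductive ScReach (F : FusionSystem S) : Subgroup Ω → Prop
  | bot : ScReach F ⊥
  | step {C D : Subgroup Ω} (x : Ω) : ScReach F C → F.StronglyClosed D → x ∈ S →
      D = C ⊔ Subgroup.zpowers x → ScReach F D

theorem ScReach.sc {F : FusionSystem S} {C : Subgroup Ω} (h : ScReach F C) : F.StronglyClosed C := by
  cases h with
  | bot => exact H85.stronglyClosed_bot F
  | step x _ hD _ _ => exact hD

theorem chain_of_scReach {F : FusionSystem S} {D : Subgroup Ω} (h : ScReach F D) :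
    ∃ (m : ℕ) (c : Fin (m + 1) → Subgroup Ω), c 0 = ⊥ ∧ c (Fin.last m) = D ∧
      (∀ i : Fin (m + 1), F.StronglyClosed (c i)) ∧
      ∀ i : Fin m, c i.castSucc ≤ c i.succ ∧
        ∃ x ∈ S, c i.succ = c i.castSucc ⊔ Subgroup.zpowers x := by
  induction h with
  | bot => exact ⟨0, fun _ => ⊥, rfl, rfl, fun _ => H85.stronglyClosed_bot F, fun i => i.elim0⟩
  | @step C D x hC hD hx he ih =>
    obtain ⟨m, c, h0, hm, hsc, hst⟩ := ih
    refine ⟨m + 1, Fin.snoc c D, ?_, Fin.snoc_last .., fun i => ?_, fun i => ?_⟩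
    · rw [← Fin.castSucc_zero, Fin.snoc_castSucc, h0]
    · refine Fin.lastCases ?_ (fun j => ?_) i
      · rw [Fin.snoc_last]; exact hD
      · rw [Fin.snoc_castSucc]; exact hsc j
    · refine Fin.lastCases ?_ (fun j => ?_) i
      · rw [Fin.snoc_castSucc, Fin.succ_last, Fin.snoc_last, hm, he]
        exact ⟨le_sup_left, x, hx, rfl⟩
      · rw [Fin.snoc_castSucc, Fin.succ_castSucc, Fin.snoc_castSucc]
        exact hst j

theorem scReach_of_chain {F : FusionSystem S} (m : ℕ) (c : Fin (m + 1) → Subgroup Ω)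
    (h0 : c 0 = ⊥) (hsc : ∀ i : Fin (m + 1), F.StronglyClosed (c i))
    (hst : ∀ i : Fin m, c i.castSucc ≤ c i.succ ∧
        ∃ x ∈ S, c i.succ = c i.castSucc ⊔ Subgroup.zpowers x) :
    ∀ i, ScReach F (c i) := by
  intro i
  induction i using Fin.induction with
  | zero => rw [h0]; exact ScReach.bot
  | succ i ih =>
    obtain ⟨x, hx, he⟩ := (hst i).2
    exact ScReach.step x ih (hsc _) hx he

/-- A map from `S` to itself is onto. -/
theorem range_eq_top_source [Finite S] {F : FusionSystem S} {χ : S →* Ω} (hχ : χ ∈ F.Hom S) :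
    χ.range = S := by
  refine Subgroup.eq_of_le_of_card_ge (fun y hy => ?_) ?_
  · obtain ⟨z, rfl⟩ := hy
    exact H85.map_mem hχ z
  · exact (Nat.card_congr (MonoidHom.ofInjective (F.injective_of_mem hχ)).toEquiv).le

/-- In a system in which `S` is normal, a subgroup invariant under `Aut_F(S)` is strongly closed. -/
theorem sc_of_invariant [Finite S] {F : FusionSystem S} (hN : F.IsNormal S) {C : Subgroup Ω}
    (hC : C ≤ S)
    (hinv : ∀ α ∈ F.autGroup S, ∀ x : S, (x : Ω) ∈ C → ((α x : S) : Ω) ∈ C) :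
    F.StronglyClosed C := by
  refine ⟨hC, fun R hR φ hφ x => ?_⟩
  obtain ⟨ψ, hψ, hext, hQ⟩ := hN.2 R φ hφ
  let χ : S →* Ω := ψ.comp (Subgroup.inclusion le_sup_right)
  have hχ : χ ∈ F.Hom S := H85.restrict hψ le_sup_right
  have hr : χ.range = S := range_eq_top_source hχ
  let α : MulAut S := H85.isoOf χ hχ hr
  have hα : α ∈ F.autGroup S := (H85.mem_autGroup le_rfl).2 (H85.isFIso_isoOf χ hχ hr)
  have h1 := hinv α hα ⟨x, hC (hR x.2)⟩ (hR x.2)
  rw [← hext x]
  exact h1

/-- Automorphisms of the system on `S` preserve strongly closed subgroups. -/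
theorem invariant_of_sc {F : FusionSystem S} {C : Subgroup Ω} (hC : F.StronglyClosed C)
    {α : MulAut S} (hα : α ∈ F.autGroup S) (x : S) (hx : (x : Ω) ∈ C) :
    ((α x : S) : Ω) ∈ C :=
  hC.2 C le_rfl _ (H85.restrict ((H85.mem_autGroup le_rfl).1 hα) hC.1) ⟨x, hx⟩

theorem subgroupOf_normal_of_sc [Finite S] {F : FusionSystem S} {C : Subgroup Ω}
    (hC : F.StronglyClosed C) : (C.subgroupOf S).Normal := by
  refine ⟨fun n hn g => ?_⟩
  show (g : Ω) * (n : Ω) * (g : Ω)⁻¹ ∈ C
  exact H85.conj_mem_of_mem_normalizer (sc_normalizer hC g.2) hn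

/-- Reachable from the trivial subgroup by strongly closed subgroups with steps of order at most
`p`. -/
inductive SmallReach (F : FusionSystem S) (p : ℕ) : Subgroup Ω → Prop
  | bot : SmallReach F p ⊥
  | step {C D : Subgroup Ω} (w : S) : SmallReach F p C → F.StronglyClosed C → F.StronglyClosed D →
      C ≤ D → (w : Ω) ∈ D → (w : Ω) ^ p ∈ C →
      (∀ y : S, (y : Ω) ∈ D → ∃ n : ℤ, (y : Ω) * ((w : Ω) ^ n)⁻¹ ∈ C) → SmallReach F p D

theorem smallReach_step [Finite S] [Fact p.Prime] (hS : IsPGroup p S) {F : FusionSystem S}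
    {D : Subgroup Ω} (hD : F.StronglyClosed D) (x : S) : ∀ (k : ℕ) {C : Subgroup Ω},
    SmallReach F p C → F.StronglyClosed C → D = C ⊔ Subgroup.zpowers (x : Ω) →
      (x : Ω) ^ p ^ k ∈ C → SmallReach F p D := by
  intro k
  induction k with
  | zero =>
    intro C hC _ he hx
    rw [pow_zero, pow_one] at hx
    rw [he, sup_eq_left.2 (Subgroup.zpowers_le.2 hx)]
    exact hC
  | succ k ih =>
    intro C hC hCsc he hx
    by_cases hx' : (x : Ω) ^ p ^ k ∈ C
    · exact ih hC hCsc he hx'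
    have hCD : C ≤ D := he ▸ le_sup_left
    have hxD : (x : Ω) ∈ D := by
      rw [he]
      exact Subgroup.mem_sup_right (Subgroup.mem_zpowers _)
    haveI := subgroupOf_normal_of_sc hCsc
    set π := QuotientGroup.mk' (C.subgroupOf S) with hπ
    have hker : ∀ y : S, π y = 1 ↔ (y : Ω) ∈ C := fun y => by
      rw [hπ, QuotientGroup.mk'_apply, QuotientGroup.eq_one_iff, Subgroup.mem_subgroupOf]
    have hord : orderOf (π x) = p ^ (k + 1) := by
      refine orderOf_eq_prime_pow ?_ ?_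
      · rw [← map_pow, hker]
        simpa using hx'
      · rw [← map_pow, hker]
        simpa using hx
    -- membership in `D`
    have hmemD : ∀ y : S, (y : Ω) ∈ D → π y ∈ Subgroup.zpowers (π x) := by
      intro y hy
      rw [he] at hy
      have h2 : C ⊔ Subgroup.zpowers (x : Ω) =
          ((Subgroup.zpowers (π x)).comap π).map S.subtype ⊓ (C ⊔ Subgroup.zpowers (x : Ω)) := by
        refine (inf_eq_right.2 (sup_le (fun c hc => ?_) (Subgroup.zpowers_le.2 ?_))).symm
        · refine ⟨⟨c, hCsc.1 hc⟩, ?_, rfl⟩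
          show π ⟨c, hCsc.1 hc⟩ ∈ Subgroup.zpowers (π x)
          rw [(hker _).2 (show ((⟨c, hCsc.1 hc⟩ : S) : Ω) ∈ C from hc)]
          exact one_mem _
        · exact ⟨x, Subgroup.mem_zpowers (π x), rfl⟩
      rw [h2] at hy
      obtain ⟨z, hz, hzy⟩ := hy.1
      rw [← Subtype.ext hzy]
      exact hz
    set w : S := x ^ p ^ k with hw
    have hwD : (w : Ω) ∈ D := by simpa [hw] using pow_mem hxD (p ^ k)
    set C₁ : Subgroup Ω := C ⊔ Subgroup.zpowers (w : Ω) with hC₁
    have hC₁D : C₁ ≤ D := sup_le hCD (Subgroup.zpowers_le.2 hwD)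
    have hwp : (w : Ω) ^ p ∈ C := by
      have : (w : Ω) ^ p = (x : Ω) ^ p ^ (k + 1) := by
        rw [hw, SubmonoidClass.coe_pow, ← pow_mul, pow_succ]
      rw [this]; exact hx
    -- elements of `D` with `p`-th power in `C` are in `C₁`
    have hback : ∀ y : S, (y : Ω) ∈ D → (y : Ω) ^ p ∈ C →
        ∃ n : ℤ, (y : Ω) * ((w : Ω) ^ n)⁻¹ ∈ C := by
      intro y hy hyp
      obtain ⟨n, hn⟩ := Subgroup.mem_zpowers_iff.1 (hmemD y hy)
      have h1 : (π x) ^ (n * p) = 1 := by
        rw [zpow_mul, hn, zpow_natCast, ← map_pow, hker]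
        simpa using hyp
      have h2 := orderOf_dvd_iff_zpow_eq_one.2 h1
      rw [hord, Nat.cast_pow, pow_succ] at h2
      have hp0 : ((p : ℕ) : ℤ) ≠ 0 := by exact_mod_cast (Fact.out : p.Prime).ne_zero
      obtain ⟨m, hm⟩ := (mul_dvd_mul_iff_right hp0).1 h2
      refine ⟨m, ?_⟩
      have h3 : π (y * (w ^ m)⁻¹) = 1 := by
        rw [map_mul, map_inv, map_zpow, ← hn, hw, map_pow, hm, ← zpow_natCast (π x) (p ^ k),
          ← zpow_mul, Nat.cast_pow, mul_inv_cancel]
      have h4 := (hker _).1 h3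
      simpa using h4
    have hmem₁ : ∀ y : S, (y : Ω) ∈ C₁ → (y : Ω) ^ p ∈ C := by
      intro y hy
      have h2 : C₁ ≤ ((Subgroup.zpowers (π w)).comap π).map S.subtype := by
        refine sup_le (fun c hc => ?_) (Subgroup.zpowers_le.2 ?_)
        · refine ⟨⟨c, hCsc.1 hc⟩, ?_, rfl⟩
          show π ⟨c, hCsc.1 hc⟩ ∈ Subgroup.zpowers (π w)
          rw [(hker _).2 (show ((⟨c, hCsc.1 hc⟩ : S) : Ω) ∈ C from hc)]
          exact one_mem _
        · exact ⟨w, Subgroup.mem_zpowers (π w), rfl⟩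
      obtain ⟨z, hz, hzy⟩ := h2 hy
      rw [Subtype.ext hzy] at hz
      obtain ⟨n, hn⟩ := Subgroup.mem_zpowers_iff.1 (show π y ∈ Subgroup.zpowers (π w) from hz)
      have hwp' : π w ^ p = 1 := by
        rw [← map_pow, hker]
        simpa using hwp
      have h5 : π (y ^ p) = 1 := by
        rw [map_pow, ← hn, ← zpow_natCast (π w ^ n) p, ← zpow_mul, mul_comm, zpow_mul,
          zpow_natCast, hwp', one_zpow]
      simpa using (hker _).1 h5
    have hC₁sc : F.StronglyClosed C₁ := by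
      refine ⟨hC₁D.trans hD.1, fun R hR φ hφ r => ?_⟩
      have hrD : φ r ∈ D := hD.2 R (hR.trans hC₁D) φ hφ r
      have hrS : (r : Ω) ∈ S := H85.source_le hφ r.2
      have hrp : (φ r) ^ p ∈ C := by
        have h6 : ((r : Ω)) ^ p ∈ C := hmem₁ ⟨r, hrS⟩ (hR r.2)
        have h7 := hCsc.2 (R ⊓ C) inf_le_right _ (H85.restrict hφ inf_le_left)
          ⟨(r : Ω) ^ p, pow_mem r.2 p, h6⟩
        rw [← map_pow]
        exact h7
      obtain ⟨n, hn⟩ := hback ⟨φ r, H85.map_mem hφ r⟩ hrD hrp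
      have : φ r = φ r * ((w : Ω) ^ n)⁻¹ * (w : Ω) ^ n := by rw [inv_mul_cancel_right]
      rw [this]
      exact mul_mem (Subgroup.mem_sup_left hn)
        (Subgroup.mem_sup_right (zpow_mem (Subgroup.mem_zpowers _) n))
    refine ih (SmallReach.step w hC hCsc hC₁sc le_sup_left
      (Subgroup.mem_sup_right (Subgroup.mem_zpowers _)) hwp
      fun y hy => hback y (hC₁D hy) (hmem₁ y hy)) hC₁sc ?_ ?_
    · refine le_antisymm ?_ (sup_le hC₁D (Subgroup.zpowers_le.2 hxD))
      rw [he]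
      exact sup_le_sup_right le_sup_left _
    · refine Subgroup.mem_sup_right ?_
      simp [hw]

theorem smallReach_of_scReach [Finite S] [Fact p.Prime] (hS : IsPGroup p S) {F : FusionSystem S}
    {D : Subgroup Ω} (h : ScReach F D) : SmallReach F p D := by
  induction h with
  | bot => exact SmallReach.bot
  | @step C D x hC hD hx he ih =>
    obtain ⟨k, hk⟩ := hS ⟨x, hx⟩
    refine smallReach_step hS hD ⟨x, hx⟩ k ih hC.sc he ?_
    have h1 : x ^ p ^ k = 1 := by simpa using congrArg Subtype.val hk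
    show x ^ p ^ k ∈ C
    rw [h1]
    exact one_mem C

/-- An automorphism acts on a step of order `p` as a power map. -/
theorem exists_exponent {C D : Subgroup Ω} [(C.subgroupOf S).Normal] {w : S}
    (hgen : ∀ y : S, (y : Ω) ∈ D → ∃ n : ℤ, (y : Ω) * ((w : Ω) ^ n)⁻¹ ∈ C)
    (hwD : (w : Ω) ∈ D) (α : MulAut S)
    (hαC : ∀ x : S, (x : Ω) ∈ C → ((α x : S) : Ω) ∈ C)
    (hαD : ∀ x : S, (x : Ω) ∈ D → ((α x : S) : Ω) ∈ D) :
    ∃ a : ℤ, ∀ y : S, (y : Ω) ∈ D →
      QuotientGroup.mk' (C.subgroupOf S) (α y) = QuotientGroup.mk' (C.subgroupOf S) y ^ a := by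
  set π := QuotientGroup.mk' (C.subgroupOf S) with hπ
  have hker : ∀ y : S, π y = 1 ↔ (y : Ω) ∈ C := fun y => by
    rw [hπ, QuotientGroup.mk'_apply, QuotientGroup.eq_one_iff, Subgroup.mem_subgroupOf]
  have hg : ∀ y : S, (y : Ω) ∈ D → ∃ n : ℤ, π y = π w ^ n := fun y hy => by
    obtain ⟨n, hn⟩ := hgen y hy
    refine ⟨n, mul_inv_eq_one.1 ?_⟩
    rw [← map_zpow, ← map_inv, ← map_mul, hker]
    simpa using hn
  obtain ⟨a, ha⟩ := hg (α w) (hαD w hwD)
  refine ⟨a, fun y hy => ?_⟩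
  obtain ⟨n, hn⟩ := hg y hy
  have h1 : π (y * (w ^ n)⁻¹) = 1 := by rw [map_mul, map_inv, map_zpow, hn, mul_inv_cancel]
  have h2 : π (α (y * (w ^ n)⁻¹)) = 1 := (hker _).2 (hαC _ ((hker _).1 h1))
  rw [map_mul, map_inv, map_zpow, map_mul, map_inv, map_zpow, mul_inv_eq_one, ha] at h2
  rw [h2, hn, ← zpow_mul, ← zpow_mul, mul_comm]

/-- An exponent acting on a group of order `p` with a `p`-power period is `1`. -/
theorem zpow_exponent_eq_self {G : Type*} [Group G] [Fact p.Prime] {v : G} (hv : v ^ p = 1)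
    {a : ℤ} {s : ℕ} (h : v ^ (a ^ p ^ s) = v) : v ^ a = v := by
  have hd : (orderOf v : ℤ) ∣ (p : ℤ) := by exact_mod_cast orderOf_dvd_of_pow_eq_one hv
  have hfix : ((a ^ p ^ s : ℤ) : ZMod p) = (a : ZMod p) := by
    rw [Int.cast_pow, ZMod.pow_card_pow]
  obtain ⟨m, hm⟩ := (ZMod.intCast_eq_intCast_iff_dvd_sub _ _ _).1 hfix
  have : a = a ^ p ^ s + (p : ℤ) * m := by linarith
  rw [this, zpow_add, h, zpow_mul, zpow_natCast, hv, one_zpow, mul_one]

end H88
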