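import Cfsg.Agent.H88.CyclicChain
import Mathlib.GroupTheory.FiniteAbelian.Basic

/-!
Finite abelian `p`-groups: automorphisms for a repeated invariant, and characteristic chains with
cyclic steps when the invariants are distinct.
-/

set_option autoImplicit false

open Cfsg Cfsg.FusionSystem

namespace H88

/-- A `p`-element killed in a power prime to `p` is trivial. -/
theorem eq_one_of_zpow_not_dvd {Q : Type*} [Group Q] {p j : ℕ} (hp : p.Prime) {x : Q}
    (hx : x ^ p ^ j = 1) {N : ℤ} (hN : x ^ N = 1) (hpN : ¬ (p : ℤ) ∣ N) : x = 1 := by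
  obtain ⟨i, -, hi⟩ := (Nat.dvd_prime_pow hp).1 (orderOf_dvd_of_pow_eq_one hx)
  rcases Nat.eq_zero_or_pos i with rfl | hpos
  · rwa [pow_zero, orderOf_eq_one_iff] at hi
  · exfalso
    refine hpN (dvd_trans ?_ (orderOf_dvd_iff_zpow_eq_one.2 hN))
    rw [hi]
    exact_mod_cast dvd_pow_self p hpos.ne'

/-- The automorphism `(x, y) ↦ (y⁻¹, x y⁻¹)` of order `3` of `A × A`. -/
def orderThreeAut (A : Type*) [CommGroup A] : MulAut (A × A) where
  toFun x := (x.2⁻¹, x.1 * x.2⁻¹)
  invFun u := (u.2 * u.1⁻¹, u.1⁻¹)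
  left_inv x := by ext <;> simp
  right_inv u := by ext <;> simp
  map_mul' x y := by
    ext
    · simp [mul_comm]
    · simp only [Prod.fst_mul, Prod.snd_mul, mul_inv]
      exact mul_mul_mul_comm _ _ _ _

theorem orderThree_cube {A : Type*} [CommGroup A] (x y : A) :
    ((orderThreeAut A) ((orderThreeAut A) ((orderThreeAut A) (x, y)))) = (x, y) := by
  refine Prod.ext ?_ ?_ <;>
  · simp only [orderThreeAut, MulEquiv.coe_mk, Equiv.coe_fn_mk]
    refine Additive.ofMul.injective ?_
    simp only [ofMul_mul, ofMul_inv]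
    abel

/-- For a repeated invariant some group of automorphisms of order prime to `p` fixes no cyclic
step meeting the pair. -/
theorem exists_irreducible_pair_auts (p : ℕ) [Fact p.Prime] {n : ℕ} (hn : 0 < n) {G : Type*}
    [CommGroup G] {H : Type*} [CommGroup H]
    (e : G ≃* (Multiplicative (ZMod (p ^ n)) × Multiplicative (ZMod (p ^ n))) × H)
    (hG : IsPGroup p G) :
    ∃ B : Subgroup (MulAut G), (Nat.card B).Coprime p ∧ ∃ v : G, v ≠ 1 ∧
      ∀ (C C' : Subgroup G) (x : G), C ≤ C' → v ∈ C' → x ∈ C' →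
        (∀ y ∈ C', ∃ k : ℤ, y * (x ^ k)⁻¹ ∈ C) →
        (∀ β ∈ B, ∀ y ∈ C, β y ∈ C) → (∀ β ∈ B, ∀ y ∈ C', β y ∈ C') → v ∈ C := by
  have hp : p.Prime := Fact.out
  set A := Multiplicative (ZMod (p ^ n))
  haveI : Fact (1 < p ^ n) := ⟨Nat.one_lt_pow hn.ne' hp.one_lt⟩
  let g : A := Multiplicative.ofAdd 1
  have hg : g ≠ 1 := fun hc => one_ne_zero (α := ZMod (p ^ n)) hc
  let v : G := e.symm ((g, 1), 1)
  have hv : v ≠ 1 := fun hc => hg (by
    have h1 := congrArg (fun t => (e t).1.1) hc
    simpa [v] using h1)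
  -- exponents on a cyclic step
  have hexp : ∀ (C C' : Subgroup G) (x : G), x ∈ C' → (∀ y ∈ C', ∃ k : ℤ, y * (x ^ k)⁻¹ ∈ C) →
      ∀ β : MulAut G, (∀ y ∈ C, β y ∈ C) → (∀ y ∈ C', β y ∈ C') → ∃ k : ℤ, ∀ y ∈ C',
        (QuotientGroup.mk' C (β y) : G ⧸ C) = QuotientGroup.mk' C y ^ k := by
    intro C C' x hx hgen β hβC hβC'
    have hg' : ∀ y ∈ C', ∃ k : ℤ, QuotientGroup.mk' C y = QuotientGroup.mk' C x ^ k := by
      intro y hy
      obtain ⟨k, hk⟩ := hgen y hy
      refine ⟨k, mul_inv_eq_one.1 ?_⟩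
      rw [← map_zpow, ← map_inv, ← map_mul, QuotientGroup.mk'_apply, QuotientGroup.eq_one_iff]
      exact hk
    obtain ⟨k, hk⟩ := hg' (β x) (hβC' x hx)
    refine ⟨k, fun y hy => ?_⟩
    obtain ⟨m, hm⟩ := hg' y hy
    have h1 : QuotientGroup.mk' C (y * (x ^ m)⁻¹) = 1 := by
      rw [map_mul, map_inv, map_zpow, hm, mul_inv_cancel]
    rw [QuotientGroup.mk'_apply, QuotientGroup.eq_one_iff] at h1
    have h2 : QuotientGroup.mk' C (β (y * (x ^ m)⁻¹)) = 1 := by
      rw [QuotientGroup.mk'_apply, QuotientGroup.eq_one_iff]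
      exact hβC _ h1
    rw [map_mul, map_inv, map_zpow, map_mul, map_inv, map_zpow, mul_inv_eq_one, hk] at h2
    rw [h2, hm, ← zpow_mul, ← zpow_mul, mul_comm]
  have hfin : ∀ C : Subgroup G, ∃ j : ℕ, (QuotientGroup.mk' C v : G ⧸ C) ^ p ^ j = 1 := fun C => by
    obtain ⟨j, hj⟩ := hG v
    exact ⟨j, by rw [← map_pow, hj, map_one]⟩
  by_cases hp2 : p = 2
  · let t : MulAut G := MulAut.congr e.symm
      (MulEquiv.prodCongr (orderThreeAut A) (MulEquiv.refl H))
    have ht : ∀ x y : A, ∀ h : H, t (e.symm ((x, y), h)) = e.symm ((y⁻¹, x * y⁻¹), h) := by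
      intro x y h
      simp [t, orderThreeAut]
      rfl
    have ht3 : t ^ 3 = 1 := by
      refine MulEquiv.ext fun z => ?_
      obtain ⟨⟨⟨x, y⟩, h⟩, rfl⟩ := e.symm.surjective z
      rw [pow_succ, pow_two, MulAut.mul_apply, MulAut.mul_apply, ht, ht, ht, MulAut.one_apply]
      exact congrArg (fun w => e.symm (w, h)) (orderThree_cube x y)
    refine ⟨Subgroup.zpowers t, ?_, v, hv, fun C C' x hCC hvC hxC hgen hBC hBC' => ?_⟩
    · rw [Nat.card_zpowers]
      refine Nat.Coprime.coprime_dvd_left (orderOf_dvd_of_pow_eq_one ht3) ?_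
      rw [hp2]
      norm_num
    · obtain ⟨k, hk⟩ := hexp C C' x hxC hgen t (hBC t (Subgroup.mem_zpowers t))
        (hBC' t (Subgroup.mem_zpowers t))
      have h2 : t v ∈ C' := hBC' t (Subgroup.mem_zpowers t) v hvC
      have hprod : v * t v * t (t v) = 1 := by
        simp only [v, ht, ← map_mul]
        simp
      have h3 : (QuotientGroup.mk' C v : G ⧸ C) ^ (1 + k + k * k) = 1 := by
        rw [zpow_add, zpow_add, zpow_one, zpow_mul, ← hk v hvC, ← hk _ h2, ← map_mul, ← map_mul,
          hprod, map_one]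
      obtain ⟨j, hj⟩ := hfin C
      have h4 := eq_one_of_zpow_not_dvd hp hj h3 (by
        rw [hp2]
        have : Even (k * k + k) := by
          have := Int.even_mul_succ_self k
          rwa [mul_add, mul_one] at this
        rintro ⟨c, hc⟩
        obtain ⟨d, hd⟩ := this
        omega)
      rw [QuotientGroup.mk'_apply, QuotientGroup.eq_one_iff] at h4
      exact h4
  · let a : MulAut G := MulAut.congr e.symm
      (MulEquiv.prodCongr (MulEquiv.prodComm : A × A ≃* A × A) (MulEquiv.refl H))
    let b : MulAut G := MulAut.congr e.symm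
      (MulEquiv.prodCongr (MulEquiv.prodCongr (MulEquiv.inv A) (MulEquiv.refl A))
        (MulEquiv.refl H))
    have ha : ∀ x y : A, ∀ h : H, a (e.symm ((x, y), h)) = e.symm ((y, x), h) := by
      intro x y h
      simp [a]
      rfl
    have hb : ∀ x y : A, ∀ h : H, b (e.symm ((x, y), h)) = e.symm ((x⁻¹, y), h) := by
      intro x y h
      simp [b]
      rfl
    have haa : a * a = 1 := by
      refine MulEquiv.ext fun z => ?_
      obtain ⟨⟨⟨x, y⟩, h⟩, rfl⟩ := e.symm.surjective z
      rw [MulAut.mul_apply, ha, ha, MulAut.one_apply]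
    have hbb : b * b = 1 := by
      refine MulEquiv.ext fun z => ?_
      obtain ⟨⟨⟨x, y⟩, h⟩, rfl⟩ := e.symm.surjective z
      rw [MulAut.mul_apply, hb, hb, inv_inv, MulAut.one_apply]
    have hab4 : (a * b) ^ 4 = 1 := by
      refine MulEquiv.ext fun z => ?_
      obtain ⟨⟨⟨x, y⟩, h⟩, rfl⟩ := e.symm.surjective z
      simp only [pow_succ, pow_zero, one_mul, MulAut.mul_apply, ha, hb, inv_inv, MulAut.one_apply]
    have ha2 : IsPGroup 2 (Subgroup.zpowers a) := by
      obtain ⟨i, -, hi⟩ := (Nat.dvd_prime_pow Nat.prime_two).1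
        (orderOf_dvd_of_pow_eq_one (show a ^ 2 ^ 1 = 1 by rw [pow_one, pow_two, haa]))
      exact IsPGroup.of_card ((Nat.card_zpowers a).trans hi)
    have hab2 : IsPGroup 2 (Subgroup.zpowers (a * b)) := by
      obtain ⟨i, -, hi⟩ := (Nat.dvd_prime_pow Nat.prime_two).1
        (orderOf_dvd_of_pow_eq_one (show (a * b) ^ 2 ^ 2 = 1 from hab4))
      exact IsPGroup.of_card ((Nat.card_zpowers _).trans hi)
    have hnorm : Subgroup.zpowers a ≤
        Subgroup.normalizer (Subgroup.zpowers (a * b) : Set (MulAut G)) := by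
      refine Subgroup.zpowers_le.2 ?_
      rw [Subgroup.mem_normalizer_iff]
      have hai : a⁻¹ = a := inv_eq_of_mul_eq_one_right haa
      have hbi : b⁻¹ = b := inv_eq_of_mul_eq_one_right hbb
      have hc : a * (a * b) * a⁻¹ = (a * b)⁻¹ := by
        rw [mul_inv_rev, hai, hbi, ← mul_assoc a a b, haa, one_mul]
      have h1 : ∀ w ∈ Subgroup.zpowers (a * b), a * w * a⁻¹ ∈ Subgroup.zpowers (a * b) := by
        intro w hw
        obtain ⟨k, rfl⟩ := Subgroup.mem_zpowers_iff.1 hw
        rw [← conj_zpow, hc]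
        exact zpow_mem (inv_mem (Subgroup.mem_zpowers _)) k
      refine fun w => ⟨h1 w, fun hw => ?_⟩
      have h2 := h1 _ hw
      rwa [hai, show a * (a * w * a) * a = (a * a) * w * (a * a) by group, haa, one_mul,
        mul_one] at h2
    have hB : IsPGroup 2 ↥(Subgroup.zpowers a ⊔ Subgroup.zpowers (a * b)) :=
      ha2.to_sup_of_normal_right' hab2 hnorm
    refine ⟨Subgroup.zpowers a ⊔ Subgroup.zpowers (a * b), ?_, v, hv,
      fun C C' x hCC hvC hxC hgen hBC hBC' => ?_⟩
    · haveI : Fact (Nat.Prime 2) := ⟨Nat.prime_two⟩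
      haveI : Finite ↥(Subgroup.zpowers a ⊔ Subgroup.zpowers (a * b)) := by
        have h1 : (Subgroup.zpowers a : Set (MulAut G)).Finite :=
          (isOfFinOrder_iff_pow_eq_one.2 ⟨2, two_pos, by rw [pow_two, haa]⟩).finite_zpowers
        have h2 : (Subgroup.zpowers (a * b) : Set (MulAut G)).Finite :=
          (isOfFinOrder_iff_pow_eq_one.2 ⟨4, by norm_num, hab4⟩).finite_zpowers
        refine Set.Finite.to_subtype (s := ((Subgroup.zpowers a ⊔ Subgroup.zpowers (a * b) :
          Subgroup (MulAut G)) : Set (MulAut G))) ?_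
        rw [Subgroup.coe_mul_of_left_le_normalizer_right _ _ hnorm]
        exact h1.mul h2
      obtain ⟨i, hi⟩ := hB.exists_card_eq
      rw [hi]
      exact Nat.Coprime.pow_left _ ((Nat.coprime_primes Nat.prime_two hp).2 (Ne.symm hp2))
    · have haB : a ∈ Subgroup.zpowers a ⊔ Subgroup.zpowers (a * b) :=
        Subgroup.mem_sup_left (Subgroup.mem_zpowers a)
      have hbB : b ∈ Subgroup.zpowers a ⊔ Subgroup.zpowers (a * b) := by
        have h1 : a * (a * b) ∈ Subgroup.zpowers a ⊔ Subgroup.zpowers (a * b) :=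
          mul_mem haB (Subgroup.mem_sup_right (Subgroup.mem_zpowers _))
        rwa [← mul_assoc, haa, one_mul] at h1
      obtain ⟨k, hk⟩ := hexp C C' x hxC hgen a (hBC a haB) (hBC' a haB)
      obtain ⟨l, hl⟩ := hexp C C' x hxC hgen b (hBC b hbB) (hBC' b hbB)
      have hA := fun y hy => hBC' a haB y hy
      have hB' := fun y hy => hBC' b hbB y hy
      set π := QuotientGroup.mk' C
      have h1 : π v = π v ^ (k * k) := by
        rw [zpow_mul, ← hk v hvC, ← hk _ (hA v hvC), ← MulAut.mul_apply, haa, MulAut.one_apply]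
      have h2 : π v = π v ^ (l * l) := by
        rw [zpow_mul, ← hl v hvC, ← hl _ (hB' v hvC), ← MulAut.mul_apply, hbb, MulAut.one_apply]
      have hneg : a (b (a (b v))) = v⁻¹ := by
        simp only [v, ha, hb, ← map_inv]
        simp
      have h3 : π v ^ (2 : ℤ) = 1 := by
        have h4 : π v⁻¹ = π v ^ (l * k * l * k) := by
          rw [← hneg, hk _ (hB' _ (hA _ (hB' v hvC))), hl _ (hA _ (hB' v hvC)),
            hk _ (hB' v hvC), hl v hvC, ← zpow_mul, ← zpow_mul, ← zpow_mul]
          refine congrArg _ ?_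
          ring
        rw [show l * k * l * k = (k * k) * (l * l) by ring, zpow_mul, ← h1, ← h2, map_inv] at h4
        rw [zpow_two]
        nth_rw 2 [← h4]
        exact mul_inv_cancel _
      obtain ⟨j, hj⟩ := hfin C
      have h5 := eq_one_of_zpow_not_dvd hp hj h3 (by
        intro hd
        exact hp2 ((Nat.prime_dvd_prime_iff_eq hp Nat.prime_two).1 (by exact_mod_cast hd)))
      rw [QuotientGroup.mk'_apply, QuotientGroup.eq_one_iff] at h5
      exact h5

/-- The elements killed by `p ^ k`. -/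
def powKer (G : Type*) [CommGroup G] (p k : ℕ) : Subgroup G := (powMonoidHom (p ^ k)).ker

/-- The `p ^ l`-th powers. -/
def powRange (G : Type*) [CommGroup G] (p l : ℕ) : Subgroup G := (powMonoidHom (p ^ l)).range

theorem mem_powKer {G : Type*} [CommGroup G] {p k : ℕ} {y : G} :
    y ∈ powKer G p k ↔ y ^ p ^ k = 1 := Iff.rfl

theorem mem_powRange {G : Type*} [CommGroup G] {p l : ℕ} {y : G} :
    y ∈ powRange G p l ↔ ∃ z, z ^ p ^ l = y := Iff.rfl

/-- The layers of the characteristic chain. -/
def layer (G : Type*) [CommGroup G] (p k l : ℕ) : Subgroup G :=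
  powKer G p k ⊔ (powKer G p (k + 1) ⊓ powRange G p l)

theorem map_layer_le {G : Type*} [CommGroup G] (p k l : ℕ) (α : MulAut G) :
    (layer G p k l).map α.toMonoidHom ≤ layer G p k l := by
  have h1 : ∀ j, (powKer G p j).map α.toMonoidHom ≤ powKer G p j := by
    rintro j _ ⟨y, hy, rfl⟩
    show (α y) ^ p ^ j = 1
    rw [← map_pow, mem_powKer.1 hy, map_one]
  have h2 : (powRange G p l).map α.toMonoidHom ≤ powRange G p l := by
    rintro _ ⟨y, hy, rfl⟩
    obtain ⟨z, rfl⟩ := mem_powRange.1 hy
    exact mem_powRange.2 ⟨α z, (map_pow α z _).symm⟩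
  rw [layer, Subgroup.map_sup]
  exact sup_le_sup (h1 k) ((Subgroup.map_inf_le _ _ _).trans (inf_le_inf (h1 _) h2))

/-- With distinct invariants each step of the chain is cyclic. -/
theorem exists_layer_step {G : Type*} [CommGroup G] {ι : Type} [Fintype ι] {p : ℕ} (hp : p.Prime)
    (e : ι → ℕ) (he : Function.Injective e)
    (f : G ≃* ((i : ι) → Multiplicative (ZMod (p ^ e i)))) (k l : ℕ) :
    ∃ g : G, layer G p k l = layer G p k (l + 1) ⊔ Subgroup.zpowers g := by
  classical
  have hmono : layer G p k (l + 1) ≤ layer G p k l := by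
    refine sup_le_sup le_rfl (inf_le_inf le_rfl ?_)
    intro y hy
    obtain ⟨z, rfl⟩ := mem_powRange.1 hy
    exact mem_powRange.2 ⟨z ^ p, by rw [← pow_mul, ← pow_succ']⟩
  have hbig : ∀ (j : ι) (a : Multiplicative (ZMod (p ^ e j))), a ^ p ^ e j = 1 := by
    intro j a
    have := orderOf_dvd_natCard a (G := Multiplicative (ZMod (p ^ e j)))
    rw [Nat.card_congr Multiplicative.toAdd, Nat.card_zmod] at this
    exact orderOf_dvd_iff_pow_eq_one.1 this
  -- the generator
  let s : G := if h : ∃ i, e i = k + l + 1 then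
      f.symm (Pi.mulSingle h.choose (Multiplicative.ofAdd 1)) else 1
  have hs : s ^ p ^ (k + l + 1) = 1 := by
    simp only [s]
    split_ifs with h
    · rw [← map_pow, ← Pi.mulSingle_pow]
      have h1 : ∀ N, N = e h.choose →
          (Multiplicative.ofAdd (1 : ZMod (p ^ e h.choose))) ^ p ^ N = 1 := fun N hN => by
        subst hN; exact hbig _ _
      rw [h1 _ h.choose_spec.symm, Pi.mulSingle_one, map_one]
    · exact one_pow _
  refine ⟨s ^ p ^ l, le_antisymm ?_ (sup_le hmono (Subgroup.zpowers_le.2 ?_))⟩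
  swap
  · refine Subgroup.mem_sup_right ⟨?_, mem_powRange.2 ⟨s, rfl⟩⟩
    show (s ^ p ^ l) ^ p ^ (k + 1) = 1
    rw [← pow_mul, ← pow_add, show l + (k + 1) = k + l + 1 by ring, hs]
  refine sup_le (le_sup_left.trans le_sup_left) ?_
  rintro y ⟨hy1, hy2⟩
  obtain ⟨z, rfl⟩ := mem_powRange.1 hy2
  have hz : z ^ p ^ (k + l + 1) = 1 := by
    rw [show k + l + 1 = l + (k + 1) by ring, pow_add, pow_mul]
    exact hy1
  let u := f z
  have hu : ∀ j, u j ^ p ^ (k + l + 1) = 1 := fun j => by
    have := congrArg (fun w => f w j) hz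
    simpa [u] using this
  -- the three parts
  let lo : (i : ι) → Multiplicative (ZMod (p ^ e i)) := fun j =>
    if e j ≤ k + l then u j else 1
  let mid : (i : ι) → Multiplicative (ZMod (p ^ e i)) := fun j =>
    if e j = k + l + 1 then u j else 1
  let hi : (i : ι) → Multiplicative (ZMod (p ^ e i)) := fun j =>
    if k + l + 1 < e j then u j else 1
  have hsplit : z = f.symm lo * f.symm mid * f.symm hi := by
    rw [← map_mul, ← map_mul]
    refine f.injective ?_
    rw [f.apply_symm_apply]
    funext j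
    simp only [lo, mid, hi, Pi.mul_apply]
    rcases lt_trichotomy (e j) (k + l + 1) with h | h | h
    · simp [h.ne, Nat.lt_succ_iff.1 h, not_lt.2 h.le, u]
    · simp [h, u]
    · simp [h.ne', h, not_le.2 (by omega : k + l < e j), u]
  rw [hsplit, mul_pow, mul_pow]
  refine mul_mem (mul_mem (Subgroup.mem_sup_left (Subgroup.mem_sup_left ?_)) ?_)
    (Subgroup.mem_sup_left (Subgroup.mem_sup_right ⟨?_, ?_⟩))
  · show (f.symm lo ^ p ^ l) ^ p ^ k = 1
    rw [← pow_mul, ← pow_add, ← map_pow]
    refine (map_eq_one_iff _ f.symm.injective).2 (funext fun j => ?_)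
    simp only [lo, Pi.pow_apply, Pi.one_apply]
    split_ifs with h
    · obtain ⟨d, hd⟩ := Nat.exists_eq_add_of_le (show e j ≤ l + k by omega)
      rw [hd, pow_add, pow_mul, hbig, one_pow]
    · exact one_pow _
  · -- the middle part is a power of the generator
    refine Subgroup.mem_sup_right ?_
    by_cases h : ∃ i, e i = k + l + 1
    · haveI : NeZero (p ^ e h.choose) := ⟨pow_ne_zero _ hp.ne_zero⟩
      let a := (Multiplicative.toAdd (u h.choose)).val
      have hmid : mid = Pi.mulSingle h.choose (Multiplicative.ofAdd 1) ^ a := by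
        rw [← Pi.mulSingle_pow, ← ofAdd_nsmul, nsmul_one, ZMod.natCast_zmod_val, ofAdd_toAdd]
        funext j
        simp only [mid]
        by_cases hj : j = h.choose
        · subst hj
          rw [if_pos h.choose_spec, Pi.mulSingle_eq_same]
        · rw [if_neg (fun hc => hj (he (hc.trans h.choose_spec.symm))),
            Pi.mulSingle_eq_of_ne hj]
      refine Subgroup.mem_zpowers_iff.2 ⟨(a : ℤ), ?_⟩
      rw [hmid, map_pow, zpow_natCast, ← pow_mul, ← pow_mul, mul_comm]
      simp only [s, dif_pos h]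
    · have : mid = 1 := funext fun j => if_neg fun hc => h ⟨j, hc⟩
      rw [this, map_one, one_pow]
      exact one_mem _
  · show (f.symm hi ^ p ^ l) ^ p ^ (k + 1) = 1
    rw [← pow_mul, ← pow_add, ← map_pow]
    refine (map_eq_one_iff _ f.symm.injective).2 (funext fun j => ?_)
    simp only [hi, Pi.pow_apply, Pi.one_apply]
    rw [show l + (k + 1) = k + l + 1 by ring]
    split_ifs
    · exact hu j
    · exact one_pow _
  · -- the high part is a `p`-th power
    have hw : ∀ j, ∃ w, w ^ p = hi j := by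
      intro j
      simp only [hi]
      split_ifs with h
      swap
      · exact ⟨1, one_pow _⟩
      haveI : NeZero (p ^ e j) := ⟨pow_ne_zero _ hp.ne_zero⟩
      set a := (Multiplicative.toAdd (u j)).val with ha
      have h1 : ((p ^ (k + l + 1) * a : ℕ) : ZMod (p ^ e j)) = 0 := by
        have h2 := congrArg Multiplicative.toAdd (hu j)
        rw [toAdd_pow, toAdd_one, nsmul_eq_mul] at h2
        rw [Nat.cast_mul, ha, ZMod.natCast_zmod_val]
        exact h2
      rw [ZMod.natCast_eq_zero_iff] at h1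
      obtain ⟨c, hc⟩ : p ∣ a := by
        obtain ⟨d, hd⟩ := Nat.exists_eq_add_of_le (show k + l + 1 + 1 ≤ e j by omega)
        rw [hd, show k + l + 1 + 1 + d = (k + l + 1) + (d + 1) by ring, pow_add] at h1
        exact (dvd_pow_self p (Nat.succ_ne_zero d)).trans
          (Nat.dvd_of_mul_dvd_mul_left (pow_pos hp.pos _) h1)
      refine ⟨Multiplicative.ofAdd (c : ZMod (p ^ e j)), ?_⟩
      refine Multiplicative.toAdd.injective ?_
      rw [toAdd_pow, toAdd_ofAdd, nsmul_eq_mul, ← Nat.cast_mul, ← hc, ha, ZMod.natCast_zmod_val]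
    choose w hw using hw
    refine mem_powRange.2 ⟨f.symm w, ?_⟩
    rw [pow_succ', pow_mul, ← map_pow _ _ p]
    exact congrArg (fun t => f.symm t ^ p ^ l) (funext hw)

variable {Ω : Type*} [Group Ω] {S : Subgroup Ω} {p : ℕ}

theorem scReach_of_distinct [Finite S] [Fact p.Prime] (hS : IsPGroup p S) {F : FusionSystem S}
    (hF : F.IsSaturated p) (hab : IsMulCommutative S)
    (hno : ¬ ∃ (n : ℕ) (H : Type) (_ : CommGroup H), 0 < n ∧
      Nonempty (S ≃* (Multiplicative (ZMod (p ^ n)) × Multiplicative (ZMod (p ^ n))) × H)) :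
    ScReach F S := by
  classical
  haveI := hab
  letI : CommGroup S := IsMulCommutative.instCommGroup
  have hp : p.Prime := Fact.out
  obtain ⟨ι, hι, n, hn, ⟨f₀⟩⟩ := CommGroup.equiv_prod_multiplicative_zmod_of_finite S
  have hpow : ∀ i, ∃ e, n i = p ^ e := by
    intro i
    haveI : NeZero (n i) := ⟨by have := hn i; omega⟩
    have hinj : IsPGroup p (Multiplicative (ZMod (n i))) :=
      hS.of_surjective ((Pi.evalMonoidHom _ i).comp f₀.toMonoidHom)
        ((Function.surjective_eval i).comp f₀.surjective)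
    obtain ⟨e, he⟩ := hinj.exists_card_eq
    rw [Nat.card_congr Multiplicative.toAdd, Nat.card_zmod] at he
    exact ⟨e, he⟩
  choose e he using hpow
  obtain rfl : n = fun i => p ^ e i := funext he
  -- distinct invariants
  have hinj : Function.Injective e := by
    intro i j hij
    by_contra hne
    refine hno ⟨e i, (k : {k // k ≠ i ∧ k ≠ j}) → Multiplicative (ZMod (p ^ e k)), inferInstance,
      Nat.pos_of_ne_zero fun h0 => by simpa [h0] using hn i, ⟨f₀.trans ?_⟩⟩
    let c : Multiplicative (ZMod (p ^ e j)) ≃* Multiplicative (ZMod (p ^ e i)) :=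
      AddEquiv.toMultiplicative (ZMod.ringEquivCongr (by rw [hij])).toAddEquiv
    exact
      { toFun := fun u => ((u i, c (u j)), fun k => u k)
        invFun := fun x k => if h : k = i then h ▸ x.1.1 else
          if h' : k = j then h' ▸ c.symm x.1.2 else x.2 ⟨k, h, h'⟩
        left_inv := fun u => funext fun k => by
          by_cases h : k = i
          · subst h; simp
          · by_cases h' : k = j
            · subst h'; simp [h]
            · simp [h, h']
        right_inv := fun x => by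
          refine Prod.ext (Prod.ext ?_ ?_) (funext fun k => ?_)
          · simp
          · simp [Ne.symm hne]
          · simp [k.2.1, k.2.2]
        map_mul' := fun u u' => by
          refine Prod.ext (Prod.ext rfl ?_) rfl
          exact map_mul c _ _ }
  obtain ⟨E, hE⟩ := hS.exists_card_eq
  have hkill : ∀ y : S, y ^ p ^ E = 1 := fun y => by rw [← hE]; exact pow_card_eq_one'
  have hN : F.IsNormal S := H85.isNormal_of_abelian hS hF
    ⟨le_rfl, fun R hR φ hφ x => H85.map_mem hφ x⟩ hab
  have hsc : ∀ k l, F.StronglyClosed ((layer S p k l).map S.subtype) := fun k l =>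
    sc_of_invariant hN (Subgroup.map_subtype_le _) fun α hα x hx => by
      obtain ⟨y, hy, hyx⟩ := hx
      rw [← Subtype.ext hyx]
      exact Subgroup.mem_map_of_mem _ (map_layer_le p k l α ⟨y, hy, rfl⟩)
  have hE0 : ∀ k, layer S p k E = powKer S p k := fun k => by
    refine le_antisymm (sup_le le_rfl ?_) le_sup_left
    rintro y ⟨-, hy⟩
    obtain ⟨z, rfl⟩ := mem_powRange.1 hy
    rw [hkill]
    exact one_mem _
  have h00 : ∀ k, layer S p k 0 = powKer S p (k + 1) := fun k => by
    refine le_antisymm (sup_le ?_ inf_le_left) fun y hy => Subgroup.mem_sup_right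
      ⟨hy, mem_powRange.2 ⟨y, by rw [pow_zero, pow_one]⟩⟩
    intro y hy
    show y ^ p ^ (k + 1) = 1
    rw [pow_succ, pow_mul, mem_powKer.1 hy, one_pow]
  have hdown : ∀ k, ScReach F ((powKer S p k).map S.subtype) →
      ∀ d, d ≤ E → ScReach F ((layer S p k (E - d)).map S.subtype) := by
    intro k hk d
    induction d with
    | zero => intro _; rw [Nat.sub_zero, hE0]; exact hk
    | succ d ih =>
      intro hd
      obtain ⟨g, hg⟩ := exists_layer_step hp e hinj f₀ k (E - (d + 1))
      refine ScReach.step (g : Ω) (ih (by omega)) (hsc _ _) g.2 ?_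
      rw [hg, Subgroup.map_sup, MonoidHom.map_zpowers, show E - (d + 1) + 1 = E - d by omega]
      rfl
  have hup : ∀ k, ScReach F ((powKer S p k).map S.subtype) := by
    intro k
    induction k with
    | zero =>
      have : powKer S p 0 = ⊥ := eq_bot_iff.2 fun y hy => by simpa [mem_powKer] using hy
      rw [this, Subgroup.map_bot]
      exact ScReach.bot
    | succ k ih =>
      have := hdown k ih E le_rfl
      rwa [Nat.sub_self, h00] at this
  have htop : powKer S p E = ⊤ := eq_top_iff.2 fun y _ => hkill y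
  have := hup E
  rwa [htop, ← MonoidHom.range_eq_map, Subgroup.range_subtype] at this

end H88
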