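import Cfsg.Agent.H5.TateCor
import Mathlib.GroupTheory.Focal

/-! A normal `p`-complement from fusion trivial modulo the Frattini subgroup. -/

set_option autoImplicit false

namespace H88

variable {G : Type*} [Group G] [Finite G] {p : ℕ} [hp : Fact p.Prime]

theorem pResidual_inf_le_commutator (P : Sylow p G) :
    Cfsg.pResidual p G ⊓ (P : Subgroup G) ≤ commutator G := by
  rintro x ⟨hx, hxP⟩
  have key : ∀ g ∈ Cfsg.pResidual p G, (orderOf (Abelianization.of g)).Coprime p := by
    intro g hg
    induction hg using Subgroup.closure_induction with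
    | mem a ha => exact Nat.Coprime.coprime_dvd_left (orderOf_map_dvd _ a) ha
    | one => simp [Nat.coprime_one_left_iff]
    | mul a b _ _ ha hb =>
      rw [map_mul]
      exact Nat.Coprime.coprime_dvd_left ((Commute.all _ _).orderOf_mul_dvd_mul_orderOf)
        (Nat.Coprime.mul_left ha hb)
    | inv a _ ha => rw [map_inv, orderOf_inv]; exact ha
  obtain ⟨k, hk⟩ := P.isPGroup' ⟨x, hxP⟩
  have h1 : x ^ p ^ k = 1 := congrArg Subtype.val hk
  have h2 : orderOf (Abelianization.of x) = 1 :=
    Nat.eq_one_of_dvd_coprimes ((key x hx).pow_right k) dvd_rfl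
      (orderOf_dvd_of_pow_eq_one (by rw [← map_pow, h1, map_one]))
  rw [orderOf_eq_one_iff, ← MonoidHom.mem_ker, Abelianization.ker_of] at h2
  exact h2

theorem hasNormalPComplement_of_fusion_le_frattini (P : Sylow p G)
    (h : ∀ x ∈ (P : Subgroup G), ∀ g : G, g * x * g⁻¹ ∈ (P : Subgroup G) →
      x⁻¹ * (g * x * g⁻¹) ∈ (frattini P).map (P : Subgroup G).subtype) :
    Cfsg.HasNormalPComplement p G := by
  rw [H5.hasNormalPComplement_iff_inf_eq_bot P]
  refine H5.inf_eq_bot_of_le_frattini P _ H5.pResidual_pResidual ?_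
  calc Cfsg.pResidual p G ⊓ (P : Subgroup G) ≤ commutator G ⊓ (P : Subgroup G) :=
        le_inf (pResidual_inf_le_commutator P) inf_le_right
    _ ≤ _ := by
      rw [Subgroup.commutator_inf_eq_focalSubgroup, Subgroup.focalSubgroup_def, Subgroup.closure_le]
      rintro y ⟨hy, x, hx, u, rfl⟩
      have hmem : u * x⁻¹ * u⁻¹ ∈ (P : Subgroup G) := by
        have := mul_mem (inv_mem hx) hy
        simpa [commutatorElement_def, mul_assoc] using this
      have h2 := h x⁻¹ (inv_mem hx) u hmem
      simpa [commutatorElement_def, mul_assoc] using h2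

end H88
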