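import Cfsg.Agent.S5224
import Cfsg.Agent.H88.StabTrivial
import Cfsg.Agent.H88.WeaklyNormal
import Cfsg.Agent.H6.Basic

/-!
A saturated system in which `Φ(S)` is strongly closed and `Aut_F(S)` is a `p`-group is inner.
-/

set_option autoImplicit false
set_option linter.style.haveILetI false

open Cfsg Cfsg.FusionSystem
open scoped commutatorElement

namespace H88

variable {Ω : Type*} [Group Ω] {S : Subgroup Ω} {p : ℕ}

/-- The maps of `F` that are trivial modulo a strongly closed subgroup containing `[S,S]`. -/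
def trivModSystem (F : FusionSystem S) (T : Subgroup Ω) (hT : F.StronglyClosed T)
    (hcomm : ⁅S, S⁆ ≤ T) : FusionSystem S where
  Hom P := {φ | φ ∈ F.Hom P ∧ ∀ x : P, (x : Ω)⁻¹ * φ x ∈ T}
  le_of_mem h := F.le_of_mem h.1
  injective_of_mem h := F.injective_of_mem h.1
  conj_mem := by
    intro P g hP hg
    refine ⟨F.conj_mem hP hg, fun x => hcomm ?_⟩
    have : (x : Ω)⁻¹ * Cfsg.conjHom P g x = ⁅(x : Ω)⁻¹, g⁆ := by
      rw [H85.conjHom_apply, commutatorElement_def]; group
    rw [this]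
    exact Subgroup.commutator_mem_commutator (S.inv_mem (hP x.2)) hg
  comp_mem := by
    rintro P Q φ χ ⟨hφ, h1⟩ ⟨hχ, h2⟩ h
    refine ⟨F.comp_mem hφ hχ h, fun x => ?_⟩
    have := T.mul_mem (h1 x) (h2 ⟨φ x, h x⟩)
    simpa [mul_assoc] using this
  inv_mem := by
    rintro P φ ⟨hφ, h1⟩
    obtain ⟨χ, hχ, hχx⟩ := F.inv_mem hφ
    refine ⟨χ, ⟨hχ, ?_⟩, hχx⟩
    rintro ⟨_, x, rfl⟩
    rw [hχx]
    have := T.inv_mem (h1 x)
    simpa using this

theorem hyperfocal_eq_bot_of_inner [Finite S] [Fact p.Prime] (hS : IsPGroup p S)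
    {F : FusionSystem S} (h : ∀ P : Subgroup Ω, F.Hom P = (innerFusionSystem S).Hom P) :
    F.hyperfocalSubgroup p = ⊥ := by
  rw [eq_bot_iff, FusionSystem.hyperfocalSubgroup, Subgroup.closure_le]
  rintro y ⟨P, α, x, hP, hα, rfl⟩
  have hα1 : α = 1 := by
    refine Subgroup.mem_bot.1 ((Subgroup.closure_le _).2 (fun g hg => ?_) hα)
    exact Subgroup.mem_bot.2 (Subtype.ext (eq_one_of_isPGroup (isPGroup_autGroup_of_inner hS h hP)
      g.2 (by rw [Subgroup.orderOf_coe]; exact hg)))
  simp [hα1]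

theorem inner_of_frattini_closed [Finite S] [Fact p.Prime] (hS : IsPGroup p S) {F : FusionSystem S}
    (hF : F.IsSaturated p) (hT : F.StronglyClosed ((frattini S).map S.subtype))
    (hAut : F.autGroup S ≤ autInducedBy S S) :
    ∀ P : Subgroup Ω, F.Hom P = (innerFusionSystem S).Hom P := by
  classical
  set T := (frattini S).map S.subtype with hTdef
  have hcomm : ⁅S, S⁆ ≤ T := by
    rw [← Subgroup.map_subtype_commutator]
    exact Subgroup.map_mono (H6.commutator_le_frattini hS)
  have hle : F ≤ trivModSystem F T hT hcomm := by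
    refine le_of_step hS hF (fun α hα => ?_) fun R hR hRn hbig => ?_
    · exact H85.autInducedBy_le_autGroup _ le_rfl (hAut hα)
    let K : Subgroup (F.autGroup R) :=
      { carrier := {α | ∀ x : R, (x : Ω)⁻¹ * ((α : MulAut R) x : R) ∈ T}
        one_mem' := fun x => by simp
        mul_mem' := fun {a b} ha hb x => by
          have := T.mul_mem (hb x) (ha ((b : MulAut R) x))
          simpa [mul_assoc] using this
        inv_mem' := fun {a} ha x => by
          have := T.inv_mem (ha ((a : MulAut R)⁻¹ x))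
          simpa using this }
    haveI : K.Normal := by
      constructor
      intro a ha b x
      have hb := (H85.mem_autGroup hR.le).1 b.2
      have h1 : (((b : MulAut R)⁻¹ x)⁻¹ * (a : MulAut R) ((b : MulAut R)⁻¹ x) : R).1 ∈ T := ha _
      have h2 := sc_map_mem hT hb h1
      simpa [MulAut.mul_apply] using h2
    obtain ⟨g, hgN, hgR⟩ := exists_mem_normalizerIn_not_mem hS hR
    have hαg : H85.conjAut S R ⟨g, hgN⟩ ∈ F.autGroup R := by
      refine H85.autInducedBy_le_autGroup F hR.le ?_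
      rw [← H85.conjAut_range]
      exact ⟨_, rfl⟩
    refine autGroup_le_of_kernel hS hF hRn (fun X hX φ hφ => ?_) K (fun a ha => ?_) hgN hgR
      ⟨⟨_, hαg⟩, fun x => hcomm ?_, fun x => rfl⟩
    · haveI : Finite X := H85.finite_of_le (H85.source_le hφ)
      exact hbig X (card_lt_card_of_lt_sub hX) hφ
    · exact (H85.mem_autGroup hR.le).2 ⟨(H85.mem_autGroup hR.le).1 a.2, ha⟩
    · show (x : Ω)⁻¹ * (g * (x : Ω) * g⁻¹) ∈ _
      have : (x : Ω)⁻¹ * (g * (x : Ω) * g⁻¹) = ⁅(x : Ω)⁻¹, g⁆ := by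
        rw [commutatorElement_def]; group
      rw [this]
      exact Subgroup.commutator_mem_commutator (S.inv_mem (hR.le x.2)) hgN.1
  have hfoc : F.focalSubgroup ≤ T := by
    rw [FusionSystem.focalSubgroup, Subgroup.closure_le]
    rintro y ⟨P, φ, x, hφ, rfl⟩
    exact (hle P hφ).2 x
  have hI : (innerFusionSystem S).IsSaturated p := isSaturated_inner hS
  have hsub : (innerFusionSystem S).IsSubsystemOf F := by
    rintro P φ ⟨hP, g, hg, hφ⟩
    exact H85.hom_congr (F.conj_mem hP hg) fun x => (hφ x).symm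
  obtain ⟨hA, hB⟩ := Cfsg.Agent.S5224.result p hS F hF _ hI hsub
  have hfoc' : (innerFusionSystem S).focalSubgroup ≤ T := by
    rw [FusionSystem.focalSubgroup, Subgroup.closure_le]
    rintro y ⟨P, φ, x, hφ, rfl⟩
    exact hfoc (Subgroup.subset_closure ⟨P, φ, x, hsub P hφ, rfl⟩)
  have hhyp : F.hyperfocalSubgroup p = ⊥ := by
    rw [hB.1 (hA.1 (by rw [sup_eq_left.2 hfoc, sup_eq_left.2 hfoc']))]
    exact hyperfocal_eq_bot_of_inner hS fun _ => rfl
  refine inner_of_pGroup hS hF fun R hR => ?_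
  haveI : Finite R := H85.finite_of_le hR.1
  haveI : Finite (MulAut R) := Finite.of_injective _ DFunLike.coe_injective
  refine isPGroup_of_coprime_trivial fun a ha => Subtype.ext (MulEquiv.ext fun x => Subtype.ext ?_)
  have : (x : Ω)⁻¹ * (((a : MulAut R) x : R) : Ω) ∈ F.hyperfocalSubgroup p :=
    Subgroup.subset_closure ⟨R, a, x, hR.1, Subgroup.subset_closure ha, rfl⟩
  rw [hhyp, Subgroup.mem_bot, inv_mul_eq_one] at this
  exact this.symm

end H88
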