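import Cfsg.Agent.H88.Normal
import Cfsg.Agent.H85.Systems
import Cfsg.Agent.H6.AutPGroup
import Cfsg.Prelude.Def_PLocal

/-! Normality of a strongly closed subgroup through a chain in its first omega subgroup. -/

set_option autoImplicit false

open Cfsg Cfsg.FusionSystem
open scoped commutatorElement

namespace H88

variable {Ω : Type*} [Group Ω] {S : Subgroup Ω} {p : ℕ}

/-- Restriction of an automorphism to an invariant subgroup. -/
def restrictAut {G : Type*} [Group G] (U : Subgroup G) (α : MulAut G)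
    (h : ∀ x ∈ U, α x ∈ U) (h' : ∀ x ∈ U, α⁻¹ x ∈ U) : MulAut U where
  toFun x := ⟨α x, h x x.2⟩
  invFun x := ⟨α⁻¹ x, h' x x.2⟩
  left_inv x := Subtype.ext (MulAut.inv_apply_self G α x)
  right_inv x := Subtype.ext (MulAut.apply_inv_self G α x)
  map_mul' x y := Subtype.ext (map_mul α (x : G) (y : G))

theorem restrictAut_pow_apply {G : Type*} [Group G] (U : Subgroup G) (α : MulAut G)
    (h : ∀ x ∈ U, α x ∈ U) (h' : ∀ x ∈ U, α⁻¹ x ∈ U) (k : ℕ) (x : U) :
    (((restrictAut U α h h') ^ k) x : G) = (α ^ k) x := by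
  induction k with
  | zero => simp
  | succ k ih =>
    rw [pow_succ', pow_succ', MulAut.mul_apply, MulAut.mul_apply, ← ih]
    rfl

theorem isNormal_of_omegaChain [Finite S] [Fact p.Prime] (hS : IsPGroup p S) {F : FusionSystem S}
    (hF : F.IsSaturated p) (hp : p ≠ 2) {P : Subgroup Ω} (hP : F.StronglyClosed P) (n : ℕ)
    (Q : Fin (n + 1) → Subgroup Ω) (h0 : Q 0 = ⊥) (hn : Q (Fin.last n) = omegaOne p P)
    (hsc : ∀ i, F.StronglyClosed (Q i)) (hcomm : ∀ i : Fin n, ⁅Q i.succ, P⁆ ≤ Q i.castSucc) :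
    F.IsNormal P := by
  refine isNormal_of_pSubgroup hS hF hP fun R hR hRn hPR => ?_
  let A : Option (Fin n) → Subgroup Ω := fun o => match o with
    | none => R
    | some j => Q j.succ
  let B : Option (Fin n) → Subgroup Ω := fun o => match o with
    | none => P
    | some j => Q j.castSucc
  have hinvP : ∀ β ∈ F.autGroup R, ∀ x : R, (x : Ω) ∈ P → ((β x : R) : Ω) ∈ P :=
    fun β hβ x hx => sc_map_mem hP ((H85.mem_autGroup hR.le).1 hβ) hx
  have hinvQ : ∀ i, ∀ β ∈ F.autGroup R, ∀ x : R, (x : Ω) ∈ Q i → ((β x : R) : Ω) ∈ Q i :=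
    fun i β hβ x hx => sc_map_mem (hsc i) ((H85.mem_autGroup hR.le).1 hβ) hx
  have hA : ∀ o, ∀ β ∈ F.autGroup R, ∀ x : R, (x : Ω) ∈ A o → ((β x : R) : Ω) ∈ A o := by
    rintro (_ | j) β hβ x hx
    · exact (β x).2
    · exact hinvQ _ β hβ x hx
  have hB : ∀ o, ∀ β ∈ F.autGroup R, ∀ x : R, (x : Ω) ∈ B o → ((β x : R) : Ω) ∈ B o := by
    rintro (_ | j) β hβ x hx
    · exact hinvP β hβ x hx
    · exact hinvQ _ β hβ x hx
  haveI : Finite R := H85.finite_of_le hR.le
  haveI : Finite (MulAut R) := Finite.of_injective _ DFunLike.coe_injective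
  refine ⟨stabSubgroup F R A B hA, stabSubgroup_normal F R A B hA hB, ?_, ?_⟩
  · refine isPGroup_of_coprime_trivial fun a ha => ?_
    have hcop : (orderOf ((a : F.autGroup R) : MulAut R)).Coprime p := by
      rwa [Subgroup.orderOf_coe, Subgroup.orderOf_coe]
    have hmem := a.2
    set α : MulAut R := ((a : F.autGroup R) : MulAut R) with hα
    have hαF : α ∈ F.autGroup R := (a : F.autGroup R).2
    have hlow : ∀ j (hj : j < n + 1), ∀ y : R, (y : Ω) ∈ Q ⟨j, hj⟩ → (autComm α)^[j] y = 1 := by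
      intro j
      induction j with
      | zero =>
        intro _ y hy
        rw [show (⟨0, _⟩ : Fin (n + 1)) = 0 from rfl, h0, Subgroup.mem_bot] at hy
        exact Subtype.ext hy
      | succ j ih =>
        intro hj y hy
        rw [Function.iterate_succ_apply]
        exact ih (Nat.lt_of_succ_lt hj) _ (hmem (some ⟨j, Nat.lt_of_succ_lt_succ hj⟩) y hy)
    let U : Subgroup R := P.subgroupOf R
    have hU : ∀ x ∈ U, α x ∈ U := fun x hx => hinvP α hαF x hx
    have hU' : ∀ x ∈ U, α⁻¹ x ∈ U := fun x hx => hinvP α⁻¹ (inv_mem hαF) x hx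
    have hfix : restrictAut U α hU hU' = 1 := by
      refine H6.eq_one_of_fixes_omega_one hp ((hS.to_le hR.le).to_subgroup U) _ ?_ ?_
      · refine Nat.Coprime.coprime_dvd_left (orderOf_dvd_of_pow_eq_one ?_) hcop
        refine MulEquiv.ext fun x => Subtype.ext ?_
        rw [restrictAut_pow_apply, pow_orderOf_eq_one]
        rfl
      · intro x hx
        have hxΩ : ((x : R) : Ω) ∈ Q (Fin.last n) := by
          rw [hn]
          refine Subgroup.subset_closure ⟨Subgroup.mem_subgroupOf.1 x.2, ?_⟩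
          have := congrArg (fun z : U => ((z : R) : Ω)) hx
          simpa using this
        exact Subtype.ext (fixed_of_iterate_autComm (hS.to_le hR.le) α hcop n x
          (hlow n (Nat.lt_succ_self n) x hxΩ))
    refine Subtype.ext (Subtype.ext (MulEquiv.ext fun x => ?_))
    refine fixed_of_iterate_autComm (hS.to_le hR.le) α hcop 2 x ?_
    rw [Function.iterate_succ_apply, Function.iterate_one]
    have hd : autComm α x ∈ U := hmem none x x.2
    have h1 : α (autComm α x) = autComm α x := by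
      have h1' := congrArg Subtype.val (DFunLike.congr_fun hfix (⟨_, hd⟩ : U))
      exact h1'
    show (autComm α x)⁻¹ * α (autComm α x) = 1
    rw [h1, inv_mul_cancel]
  · obtain ⟨t, htP, htN, htR⟩ :=
      exists_mem_normalizer_normalized hS hP.1 (sc_normalizer hP) hR.le hPR
    refine ⟨t, htN, htR, ⟨H85.conjAut S R ⟨t, htN⟩, H85.autInducedBy_le_autGroup F hR.le ?_⟩, ?_,
      fun x => rfl⟩
    · rw [← H85.conjAut_range]
      exact ⟨_, rfl⟩
    · rintro (_ | j) x hx
      · show (x : Ω)⁻¹ * (t * (x : Ω) * t⁻¹) ∈ P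
        have := mul_mem ((Subgroup.mem_normalizer_iff''.1 (sc_normalizer hP (hR.le x.2)) t).1 htP)
          (inv_mem htP)
        simpa [mul_assoc] using this
      · show (x : Ω)⁻¹ * (t * (x : Ω) * t⁻¹) ∈ Q j.castSucc
        have e : (x : Ω)⁻¹ * (t * (x : Ω) * t⁻¹) = ⁅(x : Ω)⁻¹, t⁆ := by
          rw [commutatorElement_def]; group
        rw [e]
        exact hcomm j (Subgroup.commutator_mem_commutator (inv_mem hx) htP)

theorem omegaChain_of_isNormal [Finite S] [Fact p.Prime] (hS : IsPGroup p S) {F : FusionSystem S}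
    {P : Subgroup Ω} (hP : F.IsNormal P) :
    ∃ (n : ℕ) (Q : Fin (n + 1) → Subgroup Ω), Q 0 = ⊥ ∧ Q (Fin.last n) = omegaOne p P ∧
      Monotone Q ∧ (∀ i : Fin (n + 1), F.StronglyClosed (Q i)) ∧
      ∀ i : Fin n, ⁅Q i.succ, P⁆ ≤ Q i.castSucc := by
  haveI : Finite P := H85.finite_of_le hP.1
  haveI : Group.IsNilpotent P := (hS.to_le hP.1).isNilpotent
  obtain ⟨n, hn⟩ := Group.IsNilpotent.nilpotent P
  have hΩP : omegaOne p P ≤ P := (Subgroup.closure_le _).2 fun x hx => hx.1
  let Z : ℕ → Subgroup Ω := fun i => omegaOne p P ⊓ (Subgroup.upperCentralSeries P i).map P.subtype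
  have hΩchar : ((omegaOne p P).subgroupOf P).Characteristic := by
    rw [Subgroup.characteristic_iff_le_comap]
    intro φ
    have key : omegaOne p P ≤ (((omegaOne p P).subgroupOf P).comap φ.toMonoidHom).map P.subtype := by
      refine (Subgroup.closure_le _).2 ?_
      rintro y ⟨hyP, hyp⟩
      refine ⟨⟨y, hyP⟩, ?_, rfl⟩
      refine Subgroup.subset_closure ⟨(φ ⟨y, hyP⟩).2, ?_⟩
      have h1 : (φ ⟨y, hyP⟩) ^ p = 1 := by
        rw [← map_pow, show (⟨y, hyP⟩ : P) ^ p = 1 from Subtype.ext hyp, map_one]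
      simpa using congrArg Subtype.val h1
    intro x hx
    obtain ⟨z, hz, hzx⟩ := key (Subgroup.mem_subgroupOf.1 hx)
    exact (Subtype.ext hzx : z = x) ▸ hz
  refine ⟨n, fun i => Z i, ?_, ?_, ?_, ?_, ?_⟩
  · simp [Z]
  · simp only [Z, Fin.val_last, hn, ← MonoidHom.range_eq_map, Subgroup.range_subtype]
    exact inf_eq_left.2 hΩP
  · intro i j hij
    exact inf_le_inf_left _ (Subgroup.map_mono (Subgroup.upperCentralSeries_mono P (Fin.le_def.1 hij)))
  · intro i
    refine sc_of_isNormal (H85.isNormal_of_characteristic hP (inf_le_left.trans hΩP) ?_)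
    have e : (Z (i : ℕ)).subgroupOf P =
        (omegaOne p P).subgroupOf P ⊓ Subgroup.upperCentralSeries P i := by
      simp only [Z, Subgroup.subgroupOf, Subgroup.comap_inf,
        Subgroup.comap_map_eq_self_of_injective P.subtype_injective]
    rw [e]
    exact H6.characteristic_inf hΩchar inferInstance
  · intro i
    rw [Subgroup.commutator_le]
    intro x hx y hy
    obtain ⟨hxΩ, x', hx', rfl⟩ := hx
    have hc : ⁅x', (⟨y, hy⟩ : P)⁆ ∈ Subgroup.upperCentralSeries P (i : ℕ) :=
      Subgroup.mem_upperCentralSeries_succ_iff.1 hx' ⟨y, hy⟩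
    refine ⟨?_, _, hc, map_commutatorElement P.subtype x' (⟨y, hy⟩ : P)⟩
    have hN : ((omegaOne p P).subgroupOf P).Normal := by
      haveI := hΩchar
      infer_instance
    have h1 : ⁅x', (⟨y, hy⟩ : P)⁆ ∈ (omegaOne p P).subgroupOf P := by
      rw [commutatorElement_def, mul_assoc x', mul_assoc x']
      exact mul_mem (Subgroup.mem_subgroupOf.2 hxΩ)
        (hN.conj_mem _ (inv_mem (Subgroup.mem_subgroupOf.2 hxΩ)) _)
    have h2 := Subgroup.mem_subgroupOf.1 h1
    have h3 : ((⁅x', (⟨y, hy⟩ : P)⁆ : P) : Ω) = ⁅(x' : Ω), y⁆ :=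
      map_commutatorElement P.subtype x' (⟨y, hy⟩ : P)
    rw [h3] at h2
    exact h2

end H88
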