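import Cfsg.Agent.H88.RankTwoGroup
import Cfsg.Agent.H88.OmegaNormal
import Cfsg.Agent.H85.Normal
import Cfsg.Agent.H85.Saturation

/-!
Saturated fusion systems on the `p`-groups of rank two, `p ≥ 5`, with extraspecial `Ω₁`: the
series `1 < Z < L < U` is strongly closed, and hence the group is normal.
-/

set_option autoImplicit false
set_option linter.style.haveILetI false
set_option maxHeartbeats 400000

open Cfsg Cfsg.FusionSystem
open scoped commutatorElement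

namespace H88.RankTwo

/-- Two transvections with different centres generate `diag(2, 1/2)`. -/
theorem exists_diag {A V : Type*} [Group A] [Group V] [Finite V] {p : ℕ} [hp : Fact p.Prime]
    (h5 : 5 ≤ p) (f : A →* MulAut V) (hcom : ∀ v w : V, v * w = w * v) (hexp : ∀ v : V, v ^ p = 1)
    {a b : A} {z x : V} (haz : f a z = z) (hax : x⁻¹ * f a x ∈ Subgroup.zpowers z)
    (hax1 : f a x ≠ x) (hbx : f b x = x) (hbz : z⁻¹ * f b z ∈ Subgroup.zpowers x)
    (hbz1 : f b z ≠ z) :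
    ∃ δ : A, f δ z = z ^ 2 ∧ f δ x = x ^ ((p + 1) / 2) := by
  have key : ∀ (c : A) (u v : V), f c u = u → v⁻¹ * f c v ∈ Subgroup.zpowers u → f c v ≠ v →
      ∀ t : ℕ, ∃ k : A, f k v = v * u ^ t ∧ f k u = u := by
    intro c u v hu hv hne t
    have hd : v⁻¹ * f c v ≠ 1 := fun h => hne (inv_mul_eq_one.1 h).symm
    have hu1 : u ≠ 1 := fun h => hd (by simpa [h] using hv)
    have hgen : Subgroup.zpowers (v⁻¹ * f c v) = Subgroup.zpowers u := by
      refine Subgroup.eq_of_le_of_card_ge (Subgroup.zpowers_le.2 hv) ?_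
      rw [Nat.card_zpowers, Nat.card_zpowers, orderOf_eq_prime (hexp _) hd,
        orderOf_eq_prime (hexp _) hu1]
    have ht : u ^ t ∈ Subgroup.zpowers (v⁻¹ * f c v) := hgen ▸ pow_mem (Subgroup.mem_zpowers u) t
    obtain ⟨k, hk⟩ := (isOfFinOrder_of_finite (v⁻¹ * f c v)).mem_powers_iff_mem_zpowers.2 ht
    have hfix : f c (v⁻¹ * f c v) = v⁻¹ * f c v := by
      obtain ⟨i, hi⟩ := Subgroup.mem_zpowers_iff.1 hv
      rw [← hi, map_zpow, hu]
    refine ⟨c ^ k, ?_, ?_⟩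
    · rw [map_pow, H88.aut_pow_apply_of_fixed (f c) (y := v) (c := v⁻¹ * f c v) (by group) hfix k]
      exact congrArg (v * ·) hk
    · rw [map_pow, H88.aut_pow_apply_of_fixed (f c) (y := u) (c := 1) (by rw [mul_one]; exact hu)
        (map_one _) k, one_pow, mul_one]
  -- the elements interchanging the lines
  have hW : ∀ t s : ℕ, p ∣ 1 + t * s → ∃ w : A, f w z = x ^ s ∧ f w x = z ^ t := by
    intro t s hts
    obtain ⟨k, hk, hkz⟩ := key a z x haz hax hax1 t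
    obtain ⟨l, hl, hlx⟩ := key b x z hbx hbz hbz1 s
    obtain ⟨c, hc⟩ := hts
    have h1 : ∀ v : V, v ^ (1 + t * s) = 1 := fun v => by rw [hc, pow_mul, hexp, one_pow]
    refine ⟨k * l * k, ?_, ?_⟩
    · rw [map_mul, map_mul, MulAut.mul_apply, MulAut.mul_apply, hkz, hl, map_mul, map_pow, hkz, hk,
        (show Commute x (z ^ t) from hcom _ _).mul_pow, ← pow_mul, hcom (x ^ s), ← mul_assoc,
        ← pow_succ', add_comm (t * s) 1, h1, one_mul]
    · rw [map_mul, map_mul, MulAut.mul_apply, MulAut.mul_apply, hk, map_mul, map_pow, hlx, hl,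
        (show Commute z (x ^ s) from hcom _ _).mul_pow, ← pow_mul, mul_comm s t,
        hcom (z ^ t), ← mul_assoc, ← pow_succ', add_comm (t * s) 1, h1, one_mul, map_pow, hkz]
  obtain ⟨r, hr⟩ := hp.out.odd_of_ne_two (by omega)
  obtain ⟨w₁, hw₁z, hw₁x⟩ := hW 1 (p - 1) ⟨1, by omega⟩
  obtain ⟨w₂, hw₂z, hw₂x⟩ := hW (p - 2) ((p + 1) / 2) ⟨r, by
    obtain ⟨r', rfl⟩ : ∃ r', r = r' + 1 := ⟨r - 1, by omega⟩
    subst hr
    rw [show 2 * (r' + 1) + 1 - 2 = 2 * r' + 1 by omega,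
      show (2 * (r' + 1) + 1 + 1) / 2 = r' + 2 by omega]
    ring⟩
  refine ⟨w₂ * w₁, ?_, ?_⟩
  · obtain ⟨q, hq⟩ : ∃ q, p = q + 3 := ⟨p - 3, by omega⟩
    rw [map_mul, MulAut.mul_apply, hw₁z, map_pow, hw₂x, ← pow_mul,
      show (p - 2) * (p - 1) = p * q + 2 by
        rw [show p - 2 = q + 1 by omega, show p - 1 = q + 2 by omega, hq]; ring,
      pow_add, pow_mul, hexp, one_pow, one_mul]
  · rw [map_mul, MulAut.mul_apply, hw₁x, map_pow, hw₂z, pow_one]

variable {Ω : Type*} [Group Ω] {S : Subgroup Ω} {p : ℕ}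

theorem mem_map_sub {H : Subgroup S} {s : S} : (s : Ω) ∈ H.map S.subtype ↔ s ∈ H := by
  refine ⟨fun ⟨t, ht, hts⟩ => ?_, fun h => ⟨s, h, rfl⟩⟩
  exact (Subtype.ext hts : t = s) ▸ ht

namespace Data

section group

variable {G : Type*} [Group G] [Finite G] [hp : Fact p.Prime] (D : Data p G)

theorem gen_of_not_mem {u w : G} (hu : u ^ p = 1) (hw : w ∈ D.Z ⊔ Subgroup.zpowers u)
    (hwZ : w ∉ D.Z) : u ∈ D.Z ⊔ Subgroup.zpowers w := by
  obtain ⟨w', hw', v, hv, rfl⟩ := Subgroup.mem_sup_of_normal_left.1 hw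
  have hv1 : v ≠ 1 := fun h => hwZ (by rw [h, mul_one]; exact hw')
  have hu1 : u ≠ 1 := by
    rintro rfl
    exact hv1 (by simpa using hv)
  have hvp : v ^ p = 1 := by
    obtain ⟨i, rfl⟩ := Subgroup.mem_zpowers_iff.1 hv
    rw [← zpow_natCast, ← zpow_mul, mul_comm, zpow_mul, zpow_natCast, hu, one_zpow]
  have hgen : Subgroup.zpowers v = Subgroup.zpowers u := by
    refine Subgroup.eq_of_le_of_card_ge (Subgroup.zpowers_le.2 hv) ?_
    rw [Nat.card_zpowers, Nat.card_zpowers, orderOf_eq_prime hu hu1, orderOf_eq_prime hvp hv1]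
  have hvS : v ∈ D.Z ⊔ Subgroup.zpowers (w' * v) := by
    have h := mul_mem (Subgroup.mem_sup_left (inv_mem hw') : w'⁻¹ ∈ D.Z ⊔ Subgroup.zpowers (w' * v))
      (Subgroup.mem_sup_right (Subgroup.mem_zpowers (w' * v)))
    rwa [inv_mul_cancel_left] at h
  exact (Subgroup.zpowers_le.2 hvS) (hgen.ge (Subgroup.mem_zpowers u))

theorem exists_conj_eq {u : G} (hu : u ∈ D.U) (huZ : u ∉ D.Z) {w : G} (hw : w ∈ D.Z) :
    ∃ v ∈ D.U, v * u * v⁻¹ = w * u := by
  obtain ⟨v, hv, hvu⟩ : ∃ v ∈ D.U, v * u ≠ u * v := by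
    by_contra h
    exact huZ (D.U_cen u hu fun v hv => not_not.1 fun h' => h ⟨v, hv, h'⟩)
  set d := v * u * v⁻¹ * u⁻¹ with hd
  have hdZ : d ∈ D.Z := D.U_der v hv u hu
  have hd1 : d ≠ 1 := fun h => hvu (mul_inv_eq_iff_eq_mul.1 (mul_inv_eq_one.1 h))
  have hdgen : Subgroup.zpowers d = D.Z := by
    refine Subgroup.eq_of_le_of_card_ge (Subgroup.zpowers_le.2 hdZ) ?_
    rw [D.card_Z, Nat.card_zpowers, orderOf_eq_prime ((D.mem_U _).1 (D.Z_le_U hdZ)) hd1]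
  rw [← hdgen] at hw
  obtain ⟨k, hk⟩ := (isOfFinOrder_of_finite d).mem_powers_iff_mem_zpowers.2 hw
  refine ⟨v ^ k, pow_mem hv k, ?_⟩
  rw [show w = d ^ k from hk.symm]
  clear hk hw hdgen
  induction k with
  | zero => simp
  | succ k ih =>
    calc v ^ (k + 1) * u * (v ^ (k + 1))⁻¹ = v * (v ^ k * u * (v ^ k)⁻¹) * v⁻¹ := by
          rw [pow_succ']; group
      _ = (v * d ^ k) * u * v⁻¹ := by rw [ih]; group
      _ = (d ^ k * v) * u * v⁻¹ := by rw [D.Z_cen (pow_mem hdZ k)]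
      _ = d ^ k * d * u := by rw [hd]; group
      _ = d ^ (k + 1) * u := by rw [pow_succ]

theorem moved_off_L {g₀ x u : G} (hx : x ∈ D.U) (hg₀ : g₀ * x * g₀⁻¹ * x⁻¹ ∉ D.Z) (hu : u ∈ D.U)
    (huL : u ∉ D.L) : g₀ * u * g₀⁻¹ * u⁻¹ ∉ D.Z := by
  intro h
  obtain ⟨i, l, hl, rfl⟩ := D.mem_decomp hu huL hx
  set π := QuotientGroup.mk' D.Z with hπ
  have hcomm : ∀ v : G, g₀ * v * g₀⁻¹ * v⁻¹ ∈ D.Z → Commute (π g₀) (π v) := fun v hv => by
    refine mul_inv_eq_iff_eq_mul.1 (mul_inv_eq_one.1 ?_)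
    rw [← map_inv, ← map_mul, ← map_mul, ← map_inv, ← map_mul]
    exact (QuotientGroup.eq_one_iff _).2 hv
  refine hg₀ ((QuotientGroup.eq_one_iff _).1 (show π _ = 1 from ?_))
  rw [map_mul, map_mul, map_mul, map_inv, map_inv, map_mul, map_pow,
    (((hcomm u h).pow_right i).mul_right (hcomm l (D.L_comm_mem g₀ hl))).eq,
    mul_inv_cancel_right, mul_inv_cancel]

theorem not_mem_L_of_moved {g x : G} (hg : g * x * g⁻¹ * x⁻¹ ∉ D.Z) : x ∉ D.L :=
  fun h => hg (D.L_comm_mem g h)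

theorem gen_L {e : G} (he : e ∈ D.L) (heZ : e ∉ D.Z) : D.L ≤ D.Z ⊔ Subgroup.zpowers e := by
  have h1 : e ∈ D.Z ⊔ Subgroup.zpowers D.y := he
  have hy := D.gen_of_not_mem ((D.mem_U _).1 D.y_mem) h1 heZ
  exact sup_le le_sup_left (Subgroup.zpowers_le.2 hy)

/-- A moved point is conjugate into `⟨z, u⟩` for every `u` off `L`. -/
theorem conj_to {g₀ x u : G} (hx : x ∈ D.U) (hg₀ : g₀ * x * g₀⁻¹ * x⁻¹ ∉ D.Z) (hu : u ∈ D.U)
    (huL : u ∉ D.L) : ∃ g : G, g * x * g⁻¹ ∈ D.Z ⊔ Subgroup.zpowers u := by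
  set e := g₀ * x * g₀⁻¹ * x⁻¹ with he
  have heL : e ∈ D.L := D.U_comm g₀ x hx
  have hep : e ^ p = 1 := (D.mem_U _).1 (D.L_le_U heL)
  obtain ⟨i, l, hl, hxl⟩ := D.mem_decomp hu huL hx
  obtain ⟨w₀, hw₀, e', he', hle⟩ := Subgroup.mem_sup_of_normal_left.1 (D.gen_L heL hg₀ hl)
  obtain ⟨c, hc⟩ := (isOfFinOrder_of_finite e).mem_powers_iff_mem_zpowers.2 he'
  have hc' : e ^ c = e' := hc
  have hpow : ∀ k : ℕ, ∃ w ∈ D.Z, g₀ ^ k * x * (g₀ ^ k)⁻¹ = e ^ k * x * w := by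
    intro k
    induction k with
    | zero => exact ⟨1, one_mem _, by simp⟩
    | succ k ih =>
      obtain ⟨w, hw, hk⟩ := ih
      set w' := g₀ * e ^ k * g₀⁻¹ * (e ^ k)⁻¹ with hw'
      have hw'Z : w' ∈ D.Z := D.L_comm_mem g₀ (pow_mem heL k)
      refine ⟨w' * w, mul_mem hw'Z hw, ?_⟩
      calc g₀ ^ (k + 1) * x * (g₀ ^ (k + 1))⁻¹ = g₀ * (g₀ ^ k * x * (g₀ ^ k)⁻¹) * g₀⁻¹ := by
            rw [pow_succ']; group
        _ = (g₀ * e ^ k * g₀⁻¹) * (g₀ * x * g₀⁻¹) * ((g₀ * w) * g₀⁻¹) := by rw [hk]; group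
        _ = (w' * e ^ k) * (e * x) * w := by
          rw [D.Z_cen hw g₀, mul_inv_cancel_right, hw', he]
          group
        _ = e ^ (k + 1) * x * (w' * w) := by
          rw [mul_assoc (w' * e ^ k), mul_assoc w', ← D.Z_cen hw'Z, pow_succ]
          simp only [mul_assoc]
          congr 2
          rw [D.Z_cen hw'Z w]
  obtain ⟨w, hw, hk⟩ := hpow (c * (p - 1))
  refine ⟨g₀ ^ (c * (p - 1)), ?_⟩
  rw [hk]
  refine mul_mem ?_ (Subgroup.mem_sup_left hw)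
  set k := c * (p - 1) with hkdef
  have hek : e ^ k * e ^ c = 1 := by
    rw [← pow_add, show k + c = p * c by
      rw [hkdef]
      obtain ⟨q, hq⟩ : ∃ q, p = q + 1 := ⟨p - 1, by have := hp.out.pos; omega⟩
      rw [hq, Nat.add_sub_cancel]
      ring, pow_mul, hep, one_pow]
  have hd := D.U_der _ (D.L_le_U (pow_mem heL k)) _ (pow_mem hu i)
  have hrw : e ^ k * x = (e ^ k * u ^ i * (e ^ k)⁻¹ * (u ^ i)⁻¹) * u ^ i * w₀ := by
    rw [hxl, ← hle, ← hc']
    calc e ^ k * (u ^ i * (w₀ * e ^ c))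
        = (e ^ k * u ^ i * (e ^ k)⁻¹ * (u ^ i)⁻¹) * u ^ i * ((e ^ k * w₀) * e ^ c) := by group
      _ = (e ^ k * u ^ i * (e ^ k)⁻¹ * (u ^ i)⁻¹) * u ^ i * w₀ := by
        rw [D.Z_cen hw₀, mul_assoc w₀, hek, mul_one]
  rw [hrw]
  exact mul_mem (mul_mem (Subgroup.mem_sup_left hd)
    (Subgroup.mem_sup_right (pow_mem (Subgroup.mem_zpowers u) i))) (Subgroup.mem_sup_left hw₀)

/-- The centralizer of an element of `L` has index at most `p`. -/
theorem card_centralizer_le {r q : G} (hr : r ∈ D.L) (hq : q ∈ D.U) (hqZ : q ∉ D.Z) :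
    Nat.card (Subgroup.centralizer ({q} : Set G)) ≤ Nat.card (Subgroup.centralizer ({r} : Set G)) := by
  have h1 : (Subgroup.centralizer ({r} : Set G)).index ≤ p := by
    rw [← D.card_Z, Subgroup.index]
    refine Nat.card_le_card_of_injective (fun c => Quotient.liftOn' c
      (fun g => (⟨g * r * g⁻¹ * r⁻¹, D.L_comm_mem g hr⟩ : D.Z)) fun g h hgh => ?_) ?_
    · rw [QuotientGroup.leftRel_apply, Subgroup.mem_centralizer_singleton_iff] at hgh
      refine Subtype.ext (congrArg (· * r⁻¹) ?_)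
      calc g * r * g⁻¹ = g * (r * (g⁻¹ * h)) * h⁻¹ := by group
        _ = g * ((g⁻¹ * h) * r) * h⁻¹ := by rw [hgh]
        _ = h * r * h⁻¹ := by group
    · intro c c' hcc
      induction c using QuotientGroup.induction_on with
      | H g =>
        induction c' using QuotientGroup.induction_on with
        | H h =>
          have he : g * r * g⁻¹ * r⁻¹ = h * r * h⁻¹ * r⁻¹ := congrArg Subtype.val hcc
          refine QuotientGroup.eq.2 (Subgroup.mem_centralizer_singleton_iff.2 ?_)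
          calc g⁻¹ * h * r = g⁻¹ * (h * r * h⁻¹) * h := by group
            _ = g⁻¹ * (g * r * g⁻¹) * h := by rw [mul_right_cancel he]
            _ = r * (g⁻¹ * h) := by group
  have h2 : p ≤ (Subgroup.centralizer ({q} : Set G)).index := by
    obtain ⟨n, hn⟩ := D.isP.index (Subgroup.centralizer ({q} : Set G))
    rw [hn]
    refine Nat.le_self_pow ?_ p
    rintro rfl
    rw [pow_zero, Subgroup.index_eq_one] at hn
    refine hqZ (D.U_cen q hq fun v _ => ?_)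
    exact Subgroup.mem_centralizer_singleton_iff.1 (hn ▸ Subgroup.mem_top v)
  have h3 := Subgroup.card_mul_index (Subgroup.centralizer ({q} : Set G))
  have h4 := Subgroup.card_mul_index (Subgroup.centralizer ({r} : Set G))
  refine le_of_mul_le_mul_right ?_ hp.out.pos
  calc Nat.card (Subgroup.centralizer ({q} : Set G)) * p
      ≤ Nat.card (Subgroup.centralizer ({q} : Set G)) *
          (Subgroup.centralizer ({q} : Set G)).index := Nat.mul_le_mul le_rfl h2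
    _ = Nat.card (Subgroup.centralizer ({r} : Set G)) *
          (Subgroup.centralizer ({r} : Set G)).index := by rw [h3, h4]
    _ ≤ _ := Nat.mul_le_mul le_rfl h1

end group

section fusion

variable [Finite S] [hp : Fact p.Prime] (D : Data p S) {F : FusionSystem S}

/-- The elements of order dividing `p`, in the ambient group. -/
def Ub : Subgroup Ω := D.U.map S.subtype

theorem Ub_le : D.Ub ≤ S := Subgroup.map_subtype_le _

theorem mem_Ub {t : Ω} : t ∈ D.Ub ↔ t ∈ S ∧ t ^ p = 1 := by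
  constructor
  · rintro ⟨s, hs, rfl⟩
    exact ⟨s.2, by simpa using congrArg Subtype.val ((D.mem_U s).1 hs)⟩
  · rintro ⟨hS, hp'⟩
    exact ⟨⟨t, hS⟩, (D.mem_U _).2 (Subtype.ext hp'), rfl⟩

theorem Ub_sc : F.StronglyClosed D.Ub := by
  refine ⟨D.Ub_le, fun R hR φ hφ x => D.mem_Ub.2 ⟨H85.map_mem hφ x, ?_⟩⟩
  rw [← map_pow, show x ^ p = 1 from Subtype.ext (D.mem_Ub.1 (hR x.2)).2, map_one]

/-- The image in `S` of an element of `U` under a map is in `U`. -/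
theorem image_mem_U {P : Subgroup Ω} {φ : P →* Ω} (hφ : φ ∈ F.Hom P) (x : P)
    (hx : (x : Ω) ^ p = 1) : (⟨φ x, H85.map_mem hφ x⟩ : S) ∈ D.U := by
  refine (D.mem_U _).2 (Subtype.ext ?_)
  show φ x ^ p = 1
  rw [← map_pow, show x ^ p = 1 from Subtype.ext hx, map_one]

theorem pow_p_of_mem {s : S} (hs : s ∈ D.U) : (s : Ω) ^ p = 1 := by
  simpa using congrArg Subtype.val ((D.mem_U s).1 hs)

/-- A map sending `Z` into `Z` sends nothing else there. -/
theorem mem_Z_of_map {T : Subgroup Ω} {ψ : T →* Ω} (hψ : ψ ∈ F.Hom T)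
    (hZT : ∀ w ∈ D.Z, (w : Ω) ∈ T)
    (hmap : ∀ w (hw : w ∈ D.Z), (⟨ψ ⟨(w : Ω), hZT w hw⟩, H85.map_mem hψ _⟩ : S) ∈ D.Z)
    {b : S} (hb : (b : Ω) ∈ T) (hbZ : (⟨ψ ⟨b, hb⟩, H85.map_mem hψ _⟩ : S) ∈ D.Z) : b ∈ D.Z := by
  let f : D.Z → D.Z := fun w => ⟨_, hmap w w.2⟩
  have hinj : Function.Injective f := fun v w h => by
    have h1 : ψ ⟨((v : S) : Ω), hZT v v.2⟩ = ψ ⟨((w : S) : Ω), hZT w w.2⟩ :=
      congrArg (fun q : D.Z => ((q : S) : Ω)) h
    have h2 := congrArg Subtype.val (F.injective_of_mem hψ h1)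
    exact Subtype.ext (Subtype.ext h2)
  obtain ⟨w, hw⟩ := (Finite.injective_iff_surjective.1 hinj) ⟨_, hbZ⟩
  have h1 : ψ ⟨((w : S) : Ω), hZT w w.2⟩ = ψ ⟨b, hb⟩ :=
    congrArg (fun q : D.Z => ((q : S) : Ω)) hw
  have h2 : (w : S) = b := Subtype.ext (congrArg Subtype.val (F.injective_of_mem hψ h1) :)
  exact h2 ▸ w.2

theorem map_Z_of_gen {T : Subgroup Ω} {ψ : T →* Ω} (hψ : ψ ∈ F.Hom T) {c : S} (hcZ : c ∈ D.Z)
    (hc1 : c ≠ 1) (hc : (c : Ω) ∈ T)
    (hψc : (⟨ψ ⟨c, hc⟩, H85.map_mem hψ _⟩ : S) ∈ D.Z) :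
    ∃ hZT : ∀ w ∈ D.Z, (w : Ω) ∈ T,
      ∀ w (hw : w ∈ D.Z), (⟨ψ ⟨(w : Ω), hZT w hw⟩, H85.map_mem hψ _⟩ : S) ∈ D.Z := by
  have hgen : Subgroup.zpowers c = D.Z := by
    refine Subgroup.eq_of_le_of_card_ge (Subgroup.zpowers_le.2 hcZ) ?_
    rw [D.card_Z, Nat.card_zpowers, orderOf_eq_prime ((D.mem_U _).1 (D.Z_le_U hcZ)) hc1]
  have hZT : ∀ w ∈ D.Z, (w : Ω) ∈ T := fun w hw => by
    obtain ⟨i, rfl⟩ := Subgroup.mem_zpowers_iff.1 (hgen.ge hw)
    rw [SubgroupClass.coe_zpow]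
    exact zpow_mem hc i
  refine ⟨hZT, fun w hw => ?_⟩
  obtain ⟨i, rfl⟩ := Subgroup.mem_zpowers_iff.1 (hgen.ge hw)
  have e : (⟨ψ ⟨((c ^ i : S) : Ω), hZT _ hw⟩, H85.map_mem hψ _⟩ : S) =
      (⟨ψ ⟨c, hc⟩, H85.map_mem hψ _⟩ : S) ^ i := by
    refine Subtype.ext ?_
    refine Eq.trans ?_ (SubgroupClass.coe_zpow _ _).symm
    show ψ _ = ψ ⟨c, hc⟩ ^ i
    rw [← map_zpow]
    exact congrArg ψ (Subtype.ext (by simp))
  rw [e]
  exact zpow_mem hψc i

variable (hF : F.IsSaturated p) (hne : ∃ g : S, g ∉ D.U)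

include hF in
theorem exists_back {P : Subgroup Ω} {φ : P →* Ω} (hφ : φ ∈ F.Hom P) {a : S} (ha : (a : Ω) ∈ P)
    (haZ : a ∈ D.Z) {b : S} (hb : (b : Ω) = φ ⟨a, ha⟩) :
    ∃ T : Subgroup Ω, ∃ ψ ∈ F.Hom T, (∀ c : S, c * b = b * c → (c : Ω) ∈ T) ∧
      ∀ hbT : (b : Ω) ∈ T, ψ ⟨b, hbT⟩ = (a : Ω) := by
  obtain ⟨χ, hχ, hχr⟩ := F.inv_mem hφ
  set A := Subgroup.zpowers (b : Ω) with hA
  have hAr : A ≤ φ.range := Subgroup.zpowers_le.2 ⟨⟨a, ha⟩, hb.symm⟩
  have hχ' := H85.restrict hχ hAr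
  set χ' := χ.comp (Subgroup.inclusion hAr) with hχ'def
  have hχb : χ' ⟨b, Subgroup.mem_zpowers _⟩ = (a : Ω) := by
    rw [← hχr ⟨a, ha⟩]
    exact congrArg χ (Subtype.ext hb)
  have hrange : ∀ t ∈ χ'.range, ∃ w : S, w ∈ D.Z ∧ (w : Ω) = t := by
    rintro _ ⟨⟨q, hq⟩, rfl⟩
    obtain ⟨i, hi⟩ := Subgroup.mem_zpowers_iff.1 hq
    refine ⟨a ^ i, zpow_mem haZ i, ?_⟩
    rw [show (⟨q, hq⟩ : A) = (⟨b, Subgroup.mem_zpowers _⟩ : A) ^ i from Subtype.ext
      (by simpa using hi.symm), map_zpow, hχb, SubgroupClass.coe_zpow]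
  have hrc : F.IsFullyCentralized χ'.range := by
    refine ⟨fun t ht => ?_, fun Q _ => ?_⟩
    · obtain ⟨w, -, rfl⟩ := hrange t ht
      exact w.2
    · have : centralizerIn S χ'.range = S := le_antisymm inf_le_left fun s hs =>
        ⟨hs, Subgroup.mem_centralizer_iff.2 fun y hy => by
          obtain ⟨w, hw, rfl⟩ := hrange y hy
          exact congrArg Subtype.val (D.Z_cen hw (⟨s, hs⟩ : S)).symm⟩
      rw [this]
      exact Subgroup.card_le_of_le inf_le_left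
  obtain ⟨ψ, hψ, hψext⟩ :=
    (H85.receptive_of_fullyCentralized D.isP hF hrc).2 A χ' hχ' rfl
  refine ⟨extender S A χ', ψ, hψ, fun c hc => H85.centralizerIn_le_extender A χ'
    ⟨c.2, Subgroup.mem_centralizer_iff.2 ?_⟩, fun hbT => ?_⟩
  · rintro y hy
    obtain ⟨i, rfl⟩ := Subgroup.mem_zpowers_iff.1 hy
    exact ((show Commute (c : Ω) b from congrArg Subtype.val hc).zpow_right i).eq.symm
  · exact (hψext _ (Subgroup.mem_zpowers _) hbT).trans hχb

include hF hne in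
/-- An element outside `Z` fused to an element of `Z` has its centralizer in `U` and is moved off
its `Z`-coset. -/
theorem moved_of_conj {P : Subgroup Ω} {φ : P →* Ω} (hφ : φ ∈ F.Hom P) {a : S} (ha : (a : Ω) ∈ P)
    (haZ : a ∈ D.Z) {b : S} (hb : (b : Ω) = φ ⟨a, ha⟩) (hbZ : b ∉ D.Z) :
    (∀ c : S, c * b = b * c → c ∈ D.U) ∧ ∃ g : S, g * b * g⁻¹ * b⁻¹ ∉ D.Z := by
  have hbU : b ∈ D.U := by
    rw [show b = ⟨φ ⟨a, ha⟩, H85.map_mem hφ _⟩ from Subtype.ext hb]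
    exact D.image_mem_U hφ _ (D.pow_p_of_mem (D.Z_le_U haZ))
  have hcen : ∀ c : S, c * b = b * c → c ∈ D.U := by
    intro c hc
    by_contra hcU
    have hH : ¬ Subgroup.centralizer ({b} : Set S) ≤ D.U := fun hle =>
      hcU (hle (Subgroup.mem_centralizer_singleton_iff.2 hc))
    obtain ⟨h, hhC, hhp, hh1⟩ := D.exists_root hH
    obtain ⟨T, ψ, hψ, hT, hψb⟩ := exists_back D hF hφ ha haZ hb
    have hhT : (h : Ω) ∈ T := hT h (Subgroup.mem_centralizer_singleton_iff.1 hhC)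
    have hbT : (b : Ω) ∈ T := hT b rfl
    have hpT : ((h ^ p : S) : Ω) ∈ T := by rw [SubgroupClass.coe_pow]; exact pow_mem hhT p
    set h' : S := ⟨ψ ⟨h, hhT⟩, H85.map_mem hψ _⟩ with hh'
    have hpow : (⟨ψ ⟨_, hpT⟩, H85.map_mem hψ _⟩ : S) = h' ^ p := by
      refine Subtype.ext ?_
      refine Eq.trans ?_ (SubgroupClass.coe_pow _ _).symm
      show ψ _ = ψ ⟨h, hhT⟩ ^ p
      rw [← map_pow]
      exact congrArg ψ (Subtype.ext (by simp))
    have hpU : h' ^ p ∈ D.U := by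
      rw [← hpow]
      exact D.image_mem_U hψ _ (D.pow_p_of_mem (D.Z_le_U hhp))
    have hpZ : (⟨ψ ⟨_, hpT⟩, H85.map_mem hψ _⟩ : S) ∈ D.Z := by
      rw [hpow]
      exact D.U_cen _ hpU fun v hv => (D.pow_centralizes h' hv).symm
    obtain ⟨hZT, hmap⟩ := D.map_Z_of_gen hψ hhp hh1 hpT hpZ
    refine hbZ (D.mem_Z_of_map hψ hZT hmap hbT ?_)
    rw [show (⟨ψ ⟨b, hbT⟩, H85.map_mem hψ _⟩ : S) = a from Subtype.ext (hψb hbT)]
    exact haZ
  refine ⟨hcen, ?_⟩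
  by_contra hno
  obtain ⟨g, hg⟩ := hne
  obtain ⟨v, hv, hgv⟩ := D.adjust hbU hbZ (g := g) (not_not.1 fun h => hno ⟨g, h⟩)
  have := mul_mem (hcen _ hgv) (inv_mem hv)
  rw [mul_inv_cancel_right] at this
  exact hg this

theorem conj_mem_Ub {g : Ω} (hg : g ∈ S) {t : Ω} (ht : t ∈ D.Ub) : g * t * g⁻¹ ∈ D.Ub := by
  obtain ⟨s, hs, rfl⟩ := ht
  exact ⟨_, D.conj_mem_U hs ⟨g, hg⟩, rfl⟩

include hF in
/-- An automorphism of `U` preserving `L` with exponent `(p+1)/2` on a moved point cannot be in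
the system. -/
theorem extend_contra {β : MulAut D.Ub} (hβ : β ∈ F.autGroup D.Ub)
    (hL : ∀ e : D.Ub, (e : Ω) ∈ D.L.map S.subtype → ((β e : D.Ub) : Ω) ∈ D.L.map S.subtype)
    {x g₀ : S} (hx : x ∈ D.U) (hg₀ : g₀ * x * g₀⁻¹ * x⁻¹ ∉ D.Z)
    (hpow : ((x : Ω) ^ ((p + 1) / 2))⁻¹ *
      ((β ⟨x, mem_map_sub.2 hx⟩ : D.Ub) : Ω) ∈ D.L.map S.subtype) : False := by
  classical
  haveI : Finite D.Ub := H85.finite_of_le D.Ub_le
  haveI : Finite (MulAut D.Ub) := Finite.of_injective _ DFunLike.coe_injective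
  set Zm := D.Z.map S.subtype with hZm
  set Lm := D.L.map S.subtype with hLm
  -- automorphisms preserve the centre
  have hZmem : ∀ (α : MulAut D.Ub) (e : D.Ub), (e : Ω) ∈ Zm → ((α e : D.Ub) : Ω) ∈ Zm := by
    intro α e he
    obtain ⟨w, hw, hwe⟩ := he
    refine ⟨⟨(α e : D.Ub), D.Ub_le (α e).2⟩, D.U_cen _ ?_ ?_, rfl⟩
    · exact mem_map_sub.1 (show ((⟨(α e : D.Ub), D.Ub_le (α e).2⟩ : S) : Ω) ∈ D.Ub from (α e).2)
    · intro v hv
      obtain ⟨v', hv'⟩ := α.surjective ⟨v, mem_map_sub.2 hv⟩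
      have h1 : v' * e = e * v' := Subtype.ext (by
        show (v' : Ω) * (e : Ω) = (e : Ω) * v'
        rw [← hwe]
        exact congrArg Subtype.val (D.Z_cen hw ⟨v', D.Ub_le v'.2⟩))
      have h2 := congrArg α h1
      rw [map_mul, map_mul, hv'] at h2
      exact Subtype.ext (congrArg Subtype.val h2 :)
  have hLinv : ∀ e : D.Ub, (e : Ω) ∈ Lm → ((β⁻¹ e : D.Ub) : Ω) ∈ Lm := by
    have hk : ∀ (k : ℕ) (e : D.Ub), (e : Ω) ∈ Lm → (((β ^ k) e : D.Ub) : Ω) ∈ Lm := by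
      intro k
      induction k with
      | zero => intro e he; exact he
      | succ k ih =>
        intro e he
        rw [pow_succ', MulAut.mul_apply]
        exact hL _ (ih e he)
    obtain ⟨k, hk'⟩ : ∃ k : ℕ, β⁻¹ = β ^ k := ⟨orderOf β - 1, by
      rw [inv_eq_iff_mul_eq_one, ← pow_succ', Nat.sub_add_cancel (orderOf_pos β),
        pow_orderOf_eq_one]⟩
    rw [hk']
    exact hk k
  -- the stabilizer of the series
  let M : Submonoid (MulAut D.Ub) :=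
    { carrier := {α | α ∈ F.autGroup D.Ub ∧ (∀ e : D.Ub, (e : Ω) ∈ Zm → α e = e) ∧
        (∀ e : D.Ub, (e : Ω) ∈ Lm → ((e⁻¹ * α e : D.Ub) : Ω) ∈ Zm) ∧
        ∀ e : D.Ub, ((e⁻¹ * α e : D.Ub) : Ω) ∈ Lm}
      one_mem' := ⟨one_mem _, fun e _ => rfl, fun e _ => by simp, fun e => by simp⟩
      mul_mem' := by
        rintro a b ⟨ha, ha1, ha2, ha3⟩ ⟨hb, hb1, hb2, hb3⟩
        refine ⟨mul_mem ha hb, fun e he => ?_, fun e he => ?_, fun e => ?_⟩
        · rw [MulAut.mul_apply, hb1 e he, ha1 e he]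
        · have h1 : ((b e : D.Ub) : Ω) ∈ Lm := by
            have h := mul_mem he (Subgroup.map_mono D.Z_le_L (hb2 e he))
            rwa [Subgroup.coe_mul, InvMemClass.coe_inv, mul_inv_cancel_left] at h
          have h2 := mul_mem (hb2 e he) (ha2 (b e) h1)
          rw [← Subgroup.coe_mul, show e⁻¹ * b e * ((b e)⁻¹ * a (b e)) = e⁻¹ * (a * b) e by
            rw [MulAut.mul_apply]; group] at h2
          exact h2
        · have h2 := mul_mem (hb3 e) (ha3 (b e))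
          rw [← Subgroup.coe_mul, show e⁻¹ * b e * ((b e)⁻¹ * a (b e)) = e⁻¹ * (a * b) e by
            rw [MulAut.mul_apply]; group] at h2
          exact h2 }
  let K : Subgroup (MulAut D.Ub) :=
    { M with
      inv_mem' := fun {a} ha => by
        have : a⁻¹ = a ^ (orderOf a - 1) := by
          rw [inv_eq_iff_mul_eq_one, ← pow_succ', Nat.sub_add_cancel (orderOf_pos a),
            pow_orderOf_eq_one]
        rw [this]
        exact M.pow_mem ha _ }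
  have hKF : K ≤ F.autGroup D.Ub := fun a ha => ha.1
  have hKp : IsPGroup p K := by
    refine isPGroup_of_coprime_trivial fun a ha => ?_
    obtain ⟨-, h1, h2, h3⟩ := a.2
    refine Subtype.ext (MulEquiv.ext fun e => ?_)
    refine fixed_of_iterate_autComm (D.isP.to_le D.Ub_le) (a : MulAut D.Ub)
      (by rwa [Subgroup.orderOf_coe]) 3 e ?_
    rw [Function.iterate_succ_apply, Function.iterate_succ_apply, Function.iterate_one]
    show (autComm (a : MulAut D.Ub) (autComm (a : MulAut D.Ub) e))⁻¹ * _ = 1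
    rw [show (a : MulAut D.Ub) (autComm (a : MulAut D.Ub) (autComm (a : MulAut D.Ub) e)) =
      autComm (a : MulAut D.Ub) (autComm (a : MulAut D.Ub) e) from h1 _ (h2 _ (h3 e)),
      inv_mul_cancel]
  have hIK : autInducedBy S D.Ub ≤ K := by
    intro a ha
    refine ⟨H85.autInducedBy_le_autGroup F D.Ub_le ha, ?_⟩
    obtain ⟨g, hg, hga⟩ := H85.mem_autInducedBy.1 ha
    refine ⟨fun e he => ?_, fun e he => ?_, fun e => ?_⟩
    · obtain ⟨w, hw, hwe⟩ := he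
      refine Subtype.ext ?_
      rw [hga, ← hwe]
      show g * (w : Ω) * g⁻¹ = w
      rw [show g * (w : Ω) = w * g from congrArg Subtype.val (D.Z_cen hw ⟨g, hg⟩),
        mul_inv_cancel_right]
    · obtain ⟨l, hl, hle⟩ := he
      have h := Subgroup.Normal.conj_mem' (inferInstance : D.Z.Normal) _
        (D.L_comm_mem ⟨g, hg⟩ hl) l
      refine ⟨_, h, ?_⟩
      rw [Subgroup.coe_mul, InvMemClass.coe_inv, hga, ← hle]
      simp [mul_assoc]
    · obtain ⟨u, hu, hue⟩ : (e : Ω) ∈ D.U.map S.subtype := e.2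
      have h := Subgroup.Normal.conj_mem' (inferInstance : D.L.Normal) _
        (D.U_comm ⟨g, hg⟩ u hu) u
      refine ⟨_, h, ?_⟩
      rw [Subgroup.coe_mul, InvMemClass.coe_inv, hga, ← hue]
      simp [mul_assoc]
  have hUfn : F.IsFullyNormalized D.Ub := ⟨D.Ub_le, fun Q _ => by
    rw [show normalizerIn S D.Ub = S from inf_eq_left.2 (sc_normalizer (D.Ub_sc (F := F)))]
    exact Subgroup.card_le_of_le inf_le_left⟩
  obtain ⟨hauto, hrec⟩ := H85.automized_receptive_of_fullyNormalized D.isP hF hUfn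
  have hKeq : K = autInducedBy S D.Ub :=
    ((H85.isFullyAutomized_iff D.isP).1 hauto).2 K hKF hKp hIK
  obtain ⟨θ, hθ, hθext⟩ := H85.receptive_extend hrec ((H85.mem_autGroup D.Ub_le).1 hβ)
  have hSext : S ≤ extender S D.Ub (D.Ub.subtype.comp β.toMonoidHom) := by
    intro g hg
    have hgN : g ∈ normalizerIn S D.Ub := ⟨hg, sc_normalizer (D.Ub_sc (F := F)) hg⟩
    set c := H85.conjAut S D.Ub ⟨g, hgN⟩ with hc
    obtain ⟨hcF, hc1, hc2, hc3⟩ : c ∈ K := hIK (H85.conjAut_range S D.Ub ▸ ⟨_, rfl⟩)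
    have hγ : β * c * β⁻¹ ∈ K := by
      have key : ∀ e : D.Ub, e⁻¹ * (β * c * β⁻¹) e = β ((β⁻¹ e)⁻¹ * c (β⁻¹ e)) := fun e => by
        rw [map_mul, map_inv, MulAut.apply_inv_self]
        rfl
      refine ⟨mul_mem (mul_mem hβ hcF) (inv_mem hβ), fun e he => ?_, fun e he => ?_, fun e => ?_⟩
      · rw [MulAut.mul_apply, MulAut.mul_apply, hc1 _ (hZmem β⁻¹ e he), MulAut.apply_inv_self]
      · rw [key]
        exact hZmem β _ (hc2 _ (hLinv e he))
      · rw [key]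
        exact hL _ (hc3 _)
    rw [hKeq] at hγ
    obtain ⟨h, hh, hhe⟩ := H85.mem_autInducedBy.1 hγ
    refine H85.mem_extender.2 ⟨hg, hgN.2, h, hh, fun e he => ?_⟩
    have h1 := hhe (β e)
    rw [MulAut.mul_apply, MulAut.mul_apply, MulAut.inv_apply_self] at h1
    exact h1
  set θS := θ.comp (Subgroup.inclusion hSext) with hθS
  have hθm : θS ∈ F.Hom S := H85.restrict hθ hSext
  have hr : θS.range = S := by
    refine Subgroup.eq_of_le_of_card_ge (H85.range_le hθm) ?_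
    exact (Nat.card_congr (MonoidHom.ofInjective (F.injective_of_mem hθm)).toEquiv).le
  set γ : MulAut S := H85.isoOf θS hθm hr with hγdef
  have hγx : (γ x : Ω) = ((β ⟨x, mem_map_sub.2 hx⟩ : D.Ub) : Ω) :=
    hθext (x : Ω) (mem_map_sub.2 hx) _
  have hmem : (x ^ ((p + 1) / 2))⁻¹ * γ x ∈ D.L := by
    refine mem_map_sub.1 ?_
    rw [Subgroup.coe_mul, InvMemClass.coe_inv, SubgroupClass.coe_pow, hγx]
    exact hpow
  have h := D.aut_sq γ hx (D.not_mem_L_of_moved hg₀) hg₀ hmem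
  have h5 := D.p5
  obtain ⟨r, hr'⟩ := hp.out.odd_of_ne_two (by omega)
  have h2 : (2 : ZMod p) * (((p + 1) / 2 : ℕ) : ZMod p) = 1 := by
    rw [show (2 : ZMod p) = ((2 : ℕ) : ZMod p) by norm_num, ← Nat.cast_mul,
      show 2 * ((p + 1) / 2) = p + 1 by omega, Nat.cast_add, ZMod.natCast_self, zero_add,
      Nat.cast_one]
  have h3 : ((3 : ℕ) : ZMod p) = 0 := by
    push_cast
    linear_combination ((2 : ZMod p) * (((p + 1) / 2 : ℕ) : ZMod p) + 1) * h2 - 4 * h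
  have := Nat.le_of_dvd (by norm_num) ((ZMod.natCast_eq_zero_iff 3 p).1 h3)
  omega

include hF hne in
theorem Z_sc : F.StronglyClosed (D.Z.map S.subtype) := by
  classical
  refine ⟨Subgroup.map_subtype_le _, fun R hR φ hφ r => ?_⟩
  by_contra hout
  obtain ⟨a, haZ, har⟩ := hR r.2
  change (a : Ω) = r at har
  have haR : (a : Ω) ∈ R := har ▸ r.2
  set b : S := ⟨φ r, H85.map_mem hφ r⟩ with hbdef
  have hba : (b : Ω) = φ ⟨a, haR⟩ := congrArg φ (Subtype.ext har.symm)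
  have hbZ : b ∉ D.Z := fun h => hout ⟨b, h, rfl⟩
  have hbU : b ∈ D.U := D.image_mem_U hφ r (har ▸ D.pow_p_of_mem (D.Z_le_U haZ))
  obtain ⟨-, g₁, hg₁⟩ := moved_of_conj D hF hne hφ haR haZ hba hbZ
  obtain ⟨T, ψ, hψ, hT, hψb⟩ := exists_back D hF hφ haR haZ hba
  have hbT : (b : Ω) ∈ T := hT b rfl
  have hzT : (D.z : Ω) ∈ T := hT D.z (D.z_cen b).symm
  set t : S := ⟨ψ ⟨D.z, hzT⟩, H85.map_mem hψ _⟩ with htdef
  have htZ : t ∉ D.Z := by
    intro h
    obtain ⟨hZT, hmap⟩ := D.map_Z_of_gen hψ (Subgroup.mem_zpowers D.z) D.z_ne hzT h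
    refine hbZ (D.mem_Z_of_map hψ hZT hmap hbT ?_)
    rw [show (⟨ψ ⟨b, hbT⟩, H85.map_mem hψ _⟩ : S) = a from Subtype.ext (hψb hbT)]
    exact haZ
  have htU : t ∈ D.U := D.image_mem_U hψ _ (D.pow_p_of_mem D.z_mem)
  obtain ⟨-, g₂, hg₂⟩ := moved_of_conj D hF hne hψ hzT (Subgroup.mem_zpowers D.z) rfl htZ
  obtain ⟨g, hg⟩ := D.conj_to htU hg₂ hbU (D.not_mem_L_of_moved hg₁)
  set M : Subgroup S := D.Z ⊔ Subgroup.zpowers b with hM
  have hMU : M ≤ D.U := sup_le D.Z_le_U (Subgroup.zpowers_le.2 hbU)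
  have hMcom : ∀ u ∈ M, ∀ v ∈ M, u * v = v * u := by
    intro u hu v hv
    have hb' : M ≤ Subgroup.centralizer {b} := sup_le
      (fun w hw => Subgroup.mem_centralizer_singleton_iff.2 (D.Z_cen hw b).symm)
      (Subgroup.zpowers_le.2 (Subgroup.mem_centralizer_singleton_iff.2 rfl))
    have hv' : M ≤ Subgroup.centralizer {v} := sup_le
      (fun w hw => Subgroup.mem_centralizer_singleton_iff.2 (D.Z_cen hw v).symm)
      (Subgroup.zpowers_le.2 (Subgroup.mem_centralizer_singleton_iff.2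
        (Subgroup.mem_centralizer_singleton_iff.1 (hb' hv)).symm))
    exact Subgroup.mem_centralizer_singleton_iff.1 (hv' hu)
  set E : Subgroup Ω := M.map S.subtype with hE
  have hES : E ≤ S := Subgroup.map_subtype_le _
  haveI : Finite E := H85.finite_of_le hES
  have hET : E ≤ T := by
    rintro _ ⟨u, hu, rfl⟩
    exact hT u (hMcom u hu b (Subgroup.mem_sup_right (Subgroup.mem_zpowers b)))
  have hψE := H85.restrict hψ hET
  set χ : E →* Ω := (Cfsg.conjHom S (g : Ω)).comp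
    ((ψ.comp (Subgroup.inclusion hET)).codRestrict S (fun x => H85.map_mem hψE x)) with hχdef
  have hχ : χ ∈ F.Hom E := F.comp_mem hψE (F.conj_mem le_rfl g.2) _
  have hbM : b ∈ M := Subgroup.mem_sup_right (Subgroup.mem_zpowers b)
  have hzM : D.z ∈ M := Subgroup.mem_sup_left (Subgroup.mem_zpowers D.z)
  have hχb : χ ⟨b, mem_map_sub.2 hbM⟩ = (a : Ω) := by
    show (g : Ω) * ψ ⟨b, _⟩ * (g : Ω)⁻¹ = a
    rw [hψb, show (g : Ω) * (a : Ω) = a * g from congrArg Subtype.val (D.Z_cen haZ g),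
      mul_inv_cancel_right]
  have hχz : χ ⟨D.z, mem_map_sub.2 hzM⟩ = ((g * t * g⁻¹ : S) : Ω) := rfl
  have hval : ∀ e : E, χ e ∈ E := by
    have hle : M ≤ ((E.comap χ).map E.subtype).comap S.subtype := by
      refine sup_le (Subgroup.zpowers_le.2 ?_) (Subgroup.zpowers_le.2 ?_)
      · refine ⟨⟨D.z, mem_map_sub.2 hzM⟩, ?_, rfl⟩
        show χ _ ∈ E
        rw [hχz]
        exact mem_map_sub.2 hg
      · refine ⟨⟨b, mem_map_sub.2 hbM⟩, ?_, rfl⟩
        show χ _ ∈ E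
        rw [hχb]
        exact mem_map_sub.2 (Subgroup.mem_sup_left haZ)
    rintro ⟨_, u, hu, rfl⟩
    obtain ⟨e', he', hee⟩ := hle hu
    exact (Subtype.ext hee : e' = ⟨S.subtype u, u, hu, rfl⟩) ▸ he'
  have hχr : χ.range = E := by
    refine Subgroup.eq_of_le_of_card_ge ?_
      (Nat.card_congr (MonoidHom.ofInjective (F.injective_of_mem hχ)).toEquiv).le
    rintro _ ⟨e, rfl⟩
    exact hval e
  set α : MulAut E := H85.isoOf χ hχ hχr with hα
  have hαF : α ∈ F.autGroup E := (H85.mem_autGroup hES).2 (H85.isFIso_isoOf χ hχ hχr)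
  set x₀ : S := g * t * g⁻¹ with hx₀
  have hx₀M : x₀ ∈ M := hg
  have hx₀U : x₀ ∈ D.U := hMU hx₀M
  have hx₀Z : x₀ ∉ D.Z := fun h => htZ (by
    have h' := (inferInstance : D.Z.Normal).conj_mem _ h g⁻¹
    simpa [hx₀, mul_assoc] using h')
  obtain ⟨-, g₃, hg₃⟩ := moved_of_conj D hF hne hχ (mem_map_sub.2 hzM)
    (Subgroup.mem_zpowers D.z) (b := x₀) hχz.symm hx₀Z
  have hbgen : b ∈ D.Z ⊔ Subgroup.zpowers x₀ := D.gen_of_not_mem ((D.mem_U b).1 hbU) hx₀M hx₀Z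
  -- elements of `E`
  let zE : E := ⟨D.z, mem_map_sub.2 hzM⟩
  let xE : E := ⟨x₀, mem_map_sub.2 hx₀M⟩
  have hαz : α zE = xE := Subtype.ext hχz
  have hEcom : ∀ e f : E, e * f = f * e := by
    rintro ⟨_, u, hu, rfl⟩ ⟨_, v, hv, rfl⟩
    exact Subtype.ext (congrArg Subtype.val (hMcom u hu v hv) :)
  have hEexp : ∀ e : E, e ^ p = 1 := by
    rintro ⟨_, u, hu, rfl⟩
    exact Subtype.ext (by simpa using D.pow_p_of_mem (hMU hu))
  have hext : ∀ δ δ' : MulAut E, δ zE = δ' zE → δ xE = δ' xE → δ = δ' := by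
    intro δ δ' h1 h2
    have hle : M ≤ ((δ.toMonoidHom.eqLocus δ'.toMonoidHom).map E.subtype).comap S.subtype := by
      have hle' : D.Z ⊔ Subgroup.zpowers x₀ ≤
          ((δ.toMonoidHom.eqLocus δ'.toMonoidHom).map E.subtype).comap S.subtype := sup_le
        (Subgroup.zpowers_le.2 ⟨zE, h1, rfl⟩) (Subgroup.zpowers_le.2 ⟨xE, h2, rfl⟩)
      exact sup_le (le_sup_left.trans hle') (Subgroup.zpowers_le.2 (hle' hbgen))
    refine MulEquiv.ext ?_
    rintro ⟨_, u, hu, rfl⟩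
    obtain ⟨e', he', hee⟩ := hle hu
    exact (Subtype.ext hee : e' = ⟨S.subtype u, u, hu, rfl⟩) ▸ he'
  -- conjugations by elements of `U`
  have hEn : ∀ u ∈ D.U, (u : Ω) ∈ normalizerIn S E := by
    intro u hu
    refine ⟨u.2, H85.mem_normalizer_of_conj ?_⟩
    rintro _ ⟨m, hm, rfl⟩
    refine ⟨u * m * u⁻¹, ?_, rfl⟩
    have h := mul_mem (Subgroup.mem_sup_left (D.U_der u hu m (hMU hm)) : _ ∈ M) hm
    rwa [inv_mul_cancel_right] at h
  let cj : ∀ u ∈ D.U, MulAut E := fun u hu => H85.conjAut S E ⟨u, hEn u hu⟩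
  have hcjF : ∀ u (hu : u ∈ D.U), cj u hu ∈ F.autGroup E := fun u hu =>
    H85.autInducedBy_le_autGroup F hES (H85.conjAut_range S E ▸ ⟨_, rfl⟩)
  have hcjz : ∀ u (hu : u ∈ D.U), cj u hu zE = zE := fun u hu => Subtype.ext (by
    show (u : Ω) * (D.z : Ω) * (u : Ω)⁻¹ = D.z
    rw [show (u : Ω) * (D.z : Ω) = D.z * u from congrArg Subtype.val (D.z_cen u),
      mul_inv_cancel_right])
  have hzgen : ∀ e : E, (e : Ω) ∈ D.Z.map S.subtype → e ∈ Subgroup.zpowers zE := by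
    rintro e ⟨w, hw, hwe⟩
    obtain ⟨i, rfl⟩ := Subgroup.mem_zpowers_iff.1 hw
    exact ⟨i, Subtype.ext (by simpa [zE] using hwe)⟩
  have hcjd : ∀ u (hu : u ∈ D.U) (e : E), e⁻¹ * cj u hu e ∈ Subgroup.zpowers zE := by
    rintro u hu ⟨_, m, hm, rfl⟩
    refine hzgen _ ⟨_, Subgroup.Normal.conj_mem' (inferInstance : D.Z.Normal) _
      (D.U_der u hu m (hMU hm)) m, ?_⟩
    show _ = (m : Ω)⁻¹ * ((u : Ω) * m * (u : Ω)⁻¹)
    simp [mul_assoc]
  -- the two transvections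
  set c := cj D.y D.y_mem with hc
  set c' : MulAut E := α * c * α⁻¹ with hc'
  set w : E := α⁻¹ zE with hw
  have hαw : α w = zE := MulAut.apply_inv_self E α zE
  have hwZ : (w : Ω) ∉ D.Z.map S.subtype := by
    intro h
    obtain ⟨i, hi⟩ := Subgroup.mem_zpowers_iff.1 (hzgen w h)
    have h1 : xE ^ i = zE := by rw [← hαz, ← map_zpow, hi, hαw]
    have h1' : x₀ ^ i = D.z := Subtype.ext (by simpa [xE, zE] using congrArg Subtype.val h1)
    refine hx₀Z ?_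
    have hgen : Subgroup.zpowers D.z = Subgroup.zpowers x₀ := by
      refine Subgroup.eq_of_le_of_card_ge
        (Subgroup.zpowers_le.2 (Subgroup.mem_zpowers_iff.2 ⟨i, h1'⟩)) ?_
      rw [Nat.card_zpowers, Nat.card_zpowers, D.z_order,
        orderOf_eq_prime ((D.mem_U _).1 hx₀U) fun h => hx₀Z (h ▸ one_mem _)]
    show x₀ ∈ Subgroup.zpowers D.z
    rw [hgen]
    exact Subgroup.mem_zpowers x₀
  have hcne : ∀ e : E, (e : Ω) ∉ D.Z.map S.subtype → c e ≠ e := by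
    rintro ⟨_, m, hm, rfl⟩ hmZ hfix
    have hmy : D.y * m = m * D.y := Subtype.ext (mul_inv_eq_iff_eq_mul.1
      (congrArg Subtype.val hfix :))
    refine D.not_comm_y hbU (D.not_mem_L_of_moved hg₁) ?_
    have hle : D.Z ⊔ Subgroup.zpowers m ≤ Subgroup.centralizer {D.y} := sup_le
      (fun v hv => Subgroup.mem_centralizer_singleton_iff.2 (D.Z_cen hv D.y).symm)
      (Subgroup.zpowers_le.2 (Subgroup.mem_centralizer_singleton_iff.2 hmy.symm))
    exact Subgroup.mem_centralizer_singleton_iff.1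
      (hle (D.gen_of_not_mem ((D.mem_U b).1 hbU) hm fun h => hmZ ⟨m, h, rfl⟩))
  obtain ⟨⟨δ, hδF⟩, hδz, hδx⟩ := exists_diag D.p5 (F.autGroup E).subtype hEcom hEexp
    (a := (⟨c, hcjF D.y D.y_mem⟩ : F.autGroup E))
    (b := (⟨c', mul_mem (mul_mem hαF (hcjF D.y D.y_mem)) (inv_mem hαF)⟩ : F.autGroup E))
    (z := zE) (x := xE) (hcjz D.y D.y_mem) (hcjd D.y D.y_mem _)
    (hcne xE fun h => hx₀Z (mem_map_sub.1 h))
    (by
      show α (c (α⁻¹ xE)) = xE
      rw [← hαz, MulAut.inv_apply_self]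
      exact congrArg α (hcjz D.y D.y_mem))
    (by
      show zE⁻¹ * α (c w) ∈ Subgroup.zpowers xE
      obtain ⟨i, hi⟩ := Subgroup.mem_zpowers_iff.1 (hcjd D.y D.y_mem w)
      refine ⟨i, ?_⟩
      show xE ^ i = _
      rw [← hαz, ← map_zpow, hi, map_mul, map_inv, hαw])
    (by
      intro h
      exact hcne w hwZ (α.injective (h.trans hαw.symm)))
  change δ zE = zE ^ 2 at hδz
  change δ xE = xE ^ ((p + 1) / 2) at hδx
  -- `E` is fully centralised
  have hEfc : F.IsFullyCentralized E := by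
    refine ⟨hES, fun Q hQ => ?_⟩
    obtain ⟨ε, hε⟩ := H85.isConj_iff.1 hQ
    have hex : ∃ u : S, (u : Ω) ∈ Q ∧ u ∈ D.U ∧ u ∉ D.L := by
      set u₁ : S := ⟨(ε zE : Q), H85.map_mem hε zE⟩ with hu₁
      have hεm : ∀ e : E, (⟨(ε e : Q), H85.map_mem hε e⟩ : S) ∈ D.U := fun e =>
        D.image_mem_U hε e (congrArg Subtype.val (hEexp e))
      by_cases hu₁Z : u₁ ∈ D.Z
      · set u₂ : S := ⟨(ε xE : Q), H85.map_mem hε xE⟩ with hu₂
        have hu₂Z : u₂ ∉ D.Z := by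
          intro h
          obtain ⟨hZE, hmap⟩ := D.map_Z_of_gen hε (Subgroup.mem_zpowers D.z) D.z_ne
            (mem_map_sub.2 hzM) hu₁Z
          exact hx₀Z (D.mem_Z_of_map hε hZE hmap (mem_map_sub.2 hx₀M) h)
        have hcomp := ((H85.mem_autGroup hES).1 hαF).trans hε
        obtain ⟨-, g₄, hg₄⟩ := moved_of_conj D hF hne hcomp (mem_map_sub.2 hzM)
          (Subgroup.mem_zpowers D.z) (b := u₂) (by
            show ((ε xE : Q) : Ω) = ((ε (α zE) : Q) : Ω)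
            rw [hαz]) hu₂Z
        exact ⟨u₂, (ε xE).2, hεm xE, D.not_mem_L_of_moved hg₄⟩
      · obtain ⟨-, g₄, hg₄⟩ := moved_of_conj D hF hne hε (mem_map_sub.2 hzM)
          (Subgroup.mem_zpowers D.z) (b := u₁) rfl hu₁Z
        exact ⟨u₁, (ε zE).2, hεm zE, D.not_mem_L_of_moved hg₄⟩
    obtain ⟨u, huQ, huU, huL⟩ := hex
    obtain ⟨k, hk⟩ := D.conj_to hx₀U hg₃ huU huL
    haveI : Finite (centralizerIn S E) := H85.finite_of_le inf_le_left
    refine Nat.card_le_card_of_injective (fun d : centralizerIn S Q =>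
      (⟨(k : Ω)⁻¹ * d * k, ?_⟩ : centralizerIn S E)) ?_
    · refine H85.mem_centralizerIn.2 ⟨mul_mem (mul_mem (inv_mem k.2) d.2.1) k.2, ?_⟩
      set d' : S := ⟨(d : Ω), d.2.1⟩ with hd'
      have hdu : u * d' = d' * u :=
        Subtype.ext ((H85.mem_centralizerIn.1 d.2).2 u huQ)
      have hle : D.Z ⊔ Subgroup.zpowers u ≤ Subgroup.centralizer {d'} := sup_le
        (fun v hv => Subgroup.mem_centralizer_singleton_iff.2 (D.Z_cen hv d').symm)
        (Subgroup.zpowers_le.2 (Subgroup.mem_centralizer_singleton_iff.2 hdu))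
      have hdx : Commute (k⁻¹ * d' * k) x₀ := by
        have h := Subgroup.mem_centralizer_singleton_iff.1 (hle hk)
        show k⁻¹ * d' * k * x₀ = x₀ * (k⁻¹ * d' * k)
        calc k⁻¹ * d' * k * x₀ = k⁻¹ * (d' * (k * x₀ * k⁻¹)) * k := by group
          _ = k⁻¹ * (k * x₀ * k⁻¹ * d') * k := by rw [h]
          _ = x₀ * (k⁻¹ * d' * k) := by group
      have hMle : M ≤ Subgroup.centralizer {k⁻¹ * d' * k} := by
        have hzc : D.Z ≤ Subgroup.centralizer {k⁻¹ * d' * k} := fun v hv =>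
          Subgroup.mem_centralizer_singleton_iff.2 (D.Z_cen hv _).symm
        refine sup_le hzc (Subgroup.zpowers_le.2 ?_)
        exact (sup_le hzc (Subgroup.zpowers_le.2
          (Subgroup.mem_centralizer_singleton_iff.2 hdx.eq.symm))) hbgen
      rintro _ ⟨m, hm, rfl⟩
      exact congrArg Subtype.val (Subgroup.mem_centralizer_singleton_iff.1 (hMle hm))
    · intro d₁ d₂ h
      have h' := congrArg Subtype.val h
      exact Subtype.ext (mul_left_cancel (mul_right_cancel h'))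
  -- extend to `U`
  obtain ⟨θ, hθ, hθext⟩ := H85.receptive_extend
    (H85.receptive_of_fullyCentralized D.isP hF hEfc) ((H85.mem_autGroup hES).1 hδF)
  have hUext : D.Ub ≤ extender S E (E.subtype.comp δ.toMonoidHom) := by
    rintro _ ⟨u, hu, rfl⟩
    have hu4 : u ^ 4 ∈ D.U := pow_mem hu 4
    refine H85.mem_extender.2 ⟨u.2, (hEn u hu).2, (u : Ω) ^ 4, pow_mem u.2 4, fun e he => ?_⟩
    have hq : δ * cj u hu = cj (u ^ 4) hu4 * δ := by
      refine hext _ _ ?_ ?_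
      · rw [MulAut.mul_apply, MulAut.mul_apply, hcjz u hu, hδz, map_pow, hcjz (u ^ 4) hu4]
      · set d := xE⁻¹ * cj u hu xE with hd
        obtain ⟨i, hi⟩ := Subgroup.mem_zpowers_iff.1 (hcjd u hu xE)
        have hi' : zE ^ i = d := hi
        have h4 : cj (u ^ 4) hu4 xE = xE * d ^ 4 := by
          have e4 : cj (u ^ 4) hu4 = cj u hu ^ 4 := by
            show H85.conjAut S E ⟨((u ^ 4 : S) : Ω), _⟩ = H85.conjAut S E ⟨u, _⟩ ^ 4
            rw [← map_pow]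
            exact congrArg _ (Subtype.ext (by simp))
          rw [e4]
          refine H88.aut_pow_apply_of_fixed _ (by rw [hd]; group) ?_ 4
          rw [← hi', map_zpow, hcjz u hu]
        have hδd : δ d = d ^ 2 := by
          rw [← hi', map_zpow, hδz, ← zpow_natCast zE 2, ← zpow_mul, ← zpow_natCast (zE ^ i) 2,
            ← zpow_mul, mul_comm]
        have hl : cj u hu xE = xE * d := by rw [hd]; group
        rw [MulAut.mul_apply, MulAut.mul_apply, hl, map_mul, hδx, hδd, map_pow, h4,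
          (show Commute xE (d ^ 4) from hEcom _ _).mul_pow, ← pow_mul]
        congr 1
        have hp5 := D.p5
        obtain ⟨r', hr'⟩ := hp.out.odd_of_ne_two (by omega)
        rw [show 4 * ((p + 1) / 2) = p * 2 + 2 by omega, pow_add, pow_mul, hEexp, one_pow, one_mul]
    have h2 := congrArg Subtype.val (DFunLike.congr_fun hq e)
    have hee : cj u hu e = ⟨_, he⟩ := Subtype.ext rfl
    rw [MulAut.mul_apply, MulAut.mul_apply, hee] at h2
    simpa [cj] using h2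
  set θU := θ.comp (Subgroup.inclusion hUext) with hθU
  have hθUm : θU ∈ F.Hom D.Ub := H85.restrict hθ hUext
  haveI : Finite D.Ub := H85.finite_of_le D.Ub_le
  have hUr : θU.range = D.Ub := by
    refine Subgroup.eq_of_le_of_card_ge ?_
      (Nat.card_congr (MonoidHom.ofInjective (F.injective_of_mem hθUm)).toEquiv).le
    rintro _ ⟨e, rfl⟩
    exact (D.Ub_sc (F := F)).2 D.Ub le_rfl _ hθUm e
  set β : MulAut D.Ub := H85.isoOf θU hθUm hUr with hβ
  have hβI : H85.IsFIso F β := H85.isFIso_isoOf θU hθUm hUr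
  have hβx : ((β ⟨x₀, mem_map_sub.2 hx₀U⟩ : D.Ub) : Ω) = (x₀ : Ω) ^ ((p + 1) / 2) := by
    rw [H85.isoOf_apply]
    refine (hθext (x₀ : Ω) (mem_map_sub.2 hx₀M) _).trans ?_
    rw [show (⟨(x₀ : Ω), _⟩ : E) = xE from rfl, hδx]
    rfl
  have hβz : ((β ⟨D.z, mem_map_sub.2 D.z_mem⟩ : D.Ub) : Ω) = (D.z : Ω) ^ 2 := by
    rw [H85.isoOf_apply]
    refine (hθext (D.z : Ω) (mem_map_sub.2 hzM) _).trans ?_
    rw [show (⟨(D.z : Ω), _⟩ : E) = zE from rfl, hδz]
    rfl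
  let yU : D.Ub := ⟨D.y, mem_map_sub.2 D.y_mem⟩
  let zU : D.Ub := ⟨D.z, mem_map_sub.2 D.z_mem⟩
  have hβy : ((β yU : D.Ub) : Ω) ∈ D.L.map S.subtype := by
    by_contra hyL
    set u : S := ⟨(β yU : D.Ub), D.Ub_le (β yU).2⟩ with hu
    have huU : u ∈ D.U := mem_map_sub.1 (β yU).2
    obtain ⟨k, hk⟩ := D.conj_to hx₀U hg₃ huU fun h => hyL ⟨u, h, rfl⟩
    obtain ⟨w₁, hw₁, v, hv, hwv⟩ := Subgroup.mem_sup_of_normal_left.1 hk
    obtain ⟨i, rfl⟩ := Subgroup.mem_zpowers_iff.1 hv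
    obtain ⟨j, hj⟩ := D.exists_z_pow hw₁
    -- `z²` generates `Z`
    obtain ⟨j', hj'⟩ : ∃ j' : ℕ, (D.z ^ 2) ^ j' = w₁ := by
      have hp5 := D.p5
      obtain ⟨r', hr'⟩ := hp.out.odd_of_ne_two (by omega)
      refine ⟨(p + 1) / 2 * j, ?_⟩
      rw [← pow_mul, show 2 * ((p + 1) / 2 * j) = p * j + j by
        rw [← mul_assoc, show 2 * ((p + 1) / 2) = p + 1 by omega]; ring, pow_add, pow_mul,
        (D.mem_U _).1 D.z_mem, one_pow, one_mul, hj]
    set lU : D.Ub := zU ^ j' * yU ^ i with hlU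
    set l : S := D.z ^ j' * D.y ^ i with hl
    have hlv : (lU : Ω) = (l : Ω) := by simp [hlU, hl, zU, yU]
    have hβl : ((β lU : D.Ub) : Ω) = ((k * x₀ * k⁻¹ : S) : Ω) := by
      rw [← hwv, hlU, map_mul, map_pow, map_zpow, Subgroup.coe_mul, SubgroupClass.coe_pow,
        SubgroupClass.coe_zpow, hβz, Subgroup.coe_mul, SubgroupClass.coe_zpow, ← hj',
        SubgroupClass.coe_pow, SubgroupClass.coe_pow]
    have hlZ : l ∉ D.Z := by
      intro h
      refine hx₀Z ?_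
      obtain ⟨n, hn⟩ := D.exists_z_pow h
      have hlU' : lU = zU ^ n := Subtype.ext (by rw [hlv, ← hn]; simp [zU])
      have h1 : k * x₀ * k⁻¹ = (D.z ^ 2) ^ n := by
        refine Subtype.ext ?_
        rw [← hβl, hlU', map_pow, SubgroupClass.coe_pow, hβz, SubgroupClass.coe_pow,
          SubgroupClass.coe_pow]
      have h2 := (inferInstance : D.Z.Normal).conj_mem _
        (show (D.z ^ 2) ^ n ∈ D.Z from pow_mem (pow_mem (Subgroup.mem_zpowers _) _) _) k⁻¹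
      rw [← h1] at h2
      simpa [mul_assoc] using h2
    -- `z ↦ l` in the system
    set ζ : E →* Ω := (Cfsg.conjHom S (k : Ω)).comp (χ.codRestrict S (fun e => H85.map_mem hχ e))
      with hζdef
    have hζ : ζ ∈ F.Hom E := F.comp_mem hχ (F.conj_mem le_rfl k.2) _
    have hζU : ∀ e : E, ζ e ∈ D.Ub := fun e => D.mem_Ub.2 ⟨H85.map_mem hζ e, by
      rw [← map_pow, hEexp, map_one]⟩
    have hη := H85.comp_iso hζ hζU hβI.symm
    obtain ⟨-, g₅, hg₅⟩ := moved_of_conj D hF hne hη (mem_map_sub.2 hzM)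
      (Subgroup.mem_zpowers D.z) (b := l) (by
        show (l : Ω) = ((β.symm ⟨ζ zE, hζU zE⟩ : D.Ub) : Ω)
        rw [show (⟨ζ zE, hζU zE⟩ : D.Ub) = β lU from Subtype.ext (by rw [hβl]; rfl),
          MulEquiv.symm_apply_apply, hlv]) hlZ
    exact hg₅ (D.L_comm_mem g₅ (mul_mem (pow_mem (D.Z_le_L (Subgroup.mem_zpowers D.z)) _)
      (zpow_mem D.y_mem_L _)))
  refine D.extend_contra hF ((H85.mem_autGroup D.Ub_le).2 hβI) ?_ hx₀U hg₃
    (by rw [hβx, inv_mul_cancel]; exact one_mem _)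
  have hle : D.L ≤
      (((D.L.map S.subtype).subgroupOf D.Ub).comap β.toMonoidHom |>.map D.Ub.subtype).comap
        S.subtype := by
    refine sup_le (Subgroup.zpowers_le.2 ⟨zU, ?_, rfl⟩) (Subgroup.zpowers_le.2 ⟨yU, hβy, rfl⟩)
    show ((β zU : D.Ub) : Ω) ∈ D.L.map S.subtype
    rw [hβz]
    exact pow_mem (mem_map_sub.2 (D.Z_le_L (Subgroup.mem_zpowers D.z))) 2
  rintro e ⟨l, hl, hle'⟩
  obtain ⟨e', he', hee⟩ := hle hl
  exact (Subtype.ext (hee.trans hle') : e' = e) ▸ he'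

include hF in
theorem L_sc (hZ : F.StronglyClosed (D.Z.map S.subtype))
    (hbr : ∃ g : S, ∃ x ∈ D.U, g * x * g⁻¹ * x⁻¹ ∉ D.Z) :
    F.StronglyClosed (D.L.map S.subtype) := by
  classical
  refine ⟨Subgroup.map_subtype_le _, fun R hR φ hφ r₀ => ?_⟩
  by_contra hout
  obtain ⟨r, hrL, hr⟩ := hR r₀.2
  change (r : Ω) = r₀ at hr
  set b : S := ⟨φ r₀, H85.map_mem hφ r₀⟩ with hbdef
  have hbL : b ∉ D.L := fun h => hout ⟨b, h, rfl⟩
  have hbU : b ∈ D.U := D.image_mem_U hφ r₀ (hr ▸ D.pow_p_of_mem (D.L_le_U hrL))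
  have hbZ : b ∉ D.Z := fun h => hbL (D.Z_le_L h)
  have hrZ : r ∉ D.Z := fun h => hbZ
    (mem_map_sub.1 (sc_map_mem hZ hφ (x := r₀) (hr ▸ mem_map_sub.2 h)))
  obtain ⟨g₀, x₁, hx₁, hg₁⟩ := hbr
  have hg₀b := D.moved_off_L hx₁ hg₁ hbU hbL
  -- a map `b ↦ r` on the centralizer of `b`
  obtain ⟨χ, hχ, hχr⟩ := F.inv_mem hφ
  set A := Subgroup.zpowers (b : Ω) with hA
  have hAr : A ≤ φ.range := Subgroup.zpowers_le.2 ⟨r₀, rfl⟩
  have hχ' := H85.restrict hχ hAr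
  set χ' := χ.comp (Subgroup.inclusion hAr) with hχ'def
  have hχb : χ' ⟨b, Subgroup.mem_zpowers _⟩ = (r : Ω) := (hχr r₀).trans hr.symm
  have hrmem : (r : Ω) ∈ χ'.range := ⟨_, hχb⟩
  have hrc : F.IsFullyCentralized χ'.range := by
    refine ⟨H85.range_le hχ', fun Q hQ => ?_⟩
    obtain ⟨ε, hε⟩ := H85.isConj_iff.1 hQ
    set q : S := ⟨(ε ⟨r, hrmem⟩ : Q), H85.map_mem hε _⟩ with hq
    have hqU : q ∈ D.U := D.image_mem_U hε _ (D.pow_p_of_mem (D.L_le_U hrL))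
    have hqZ : q ∉ D.Z := fun h => hrZ (mem_map_sub.1
      ((sc_map_mem_iff hZ hε ⟨r, hrmem⟩).1 (mem_map_sub.2 h :)))
    have h1 : Nat.card (centralizerIn S Q) ≤ Nat.card (Subgroup.centralizer ({q} : Set S)) := by
      refine Nat.card_le_card_of_injective (fun d : centralizerIn S Q =>
        (⟨⟨d, d.2.1⟩, Subgroup.mem_centralizer_singleton_iff.2 (Subtype.ext ?_)⟩ :
          Subgroup.centralizer ({q} : Set S))) ?_
      · exact ((H85.mem_centralizerIn.1 d.2).2 _ (ε ⟨r, hrmem⟩).2).symm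
      · intro d₁ d₂ h
        exact Subtype.ext (congrArg (fun t => ((t : S) : Ω)) (congrArg Subtype.val h))
    refine (h1.trans (D.card_centralizer_le hrL hqU hqZ)).trans ?_
    haveI : Finite (centralizerIn S χ'.range) := H85.finite_of_le inf_le_left
    refine Nat.card_le_card_of_injective (fun d : Subgroup.centralizer ({r} : Set S) =>
      (⟨((d : S) : Ω), H85.mem_centralizerIn.2 ⟨(d : S).2, ?_⟩⟩ : centralizerIn S χ'.range)) ?_
    · rintro _ ⟨⟨t, ht⟩, rfl⟩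
      obtain ⟨i, hi⟩ := Subgroup.mem_zpowers_iff.1 ht
      rw [show (⟨t, ht⟩ : A) = (⟨b, Subgroup.mem_zpowers _⟩ : A) ^ i from Subtype.ext
        (by simpa using hi.symm), map_zpow, hχb]
      exact ((show Commute ((d : S) : Ω) r from congrArg Subtype.val
        (Subgroup.mem_centralizer_singleton_iff.1 d.2)).zpow_right i).eq.symm
    · intro d₁ d₂ h
      have h' := congrArg Subtype.val h
      exact Subtype.ext (Subtype.ext h')
  obtain ⟨ψ, hψ, hψext⟩ := (H85.receptive_of_fullyCentralized D.isP hF hrc).2 A χ' hχ' rfl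
  set M : Subgroup S := D.Z ⊔ Subgroup.zpowers b with hM
  have hMU : M ≤ D.U := sup_le D.Z_le_U (Subgroup.zpowers_le.2 hbU)
  have hMb : ∀ u ∈ M, u * b = b * u := fun u hu => Subgroup.mem_centralizer_singleton_iff.1
    ((sup_le (fun w hw => Subgroup.mem_centralizer_singleton_iff.2 (D.Z_cen hw b).symm)
      (Subgroup.zpowers_le.2 (Subgroup.mem_centralizer_singleton_iff.2 rfl)) :
        M ≤ Subgroup.centralizer {b}) hu)
  set E : Subgroup Ω := M.map S.subtype with hE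
  have hES : E ≤ S := Subgroup.map_subtype_le _
  haveI : Finite E := H85.finite_of_le hES
  have hET : E ≤ extender S A χ' := by
    rintro _ ⟨u, hu, rfl⟩
    refine H85.centralizerIn_le_extender A χ' (H85.mem_centralizerIn.2 ⟨u.2, fun t ht => ?_⟩)
    obtain ⟨i, rfl⟩ := Subgroup.mem_zpowers_iff.1 ht
    exact ((show Commute (u : Ω) b from congrArg Subtype.val (hMb u hu)).zpow_right i).eq.symm
  set ψE := ψ.comp (Subgroup.inclusion hET) with hψEdef
  have hψE : ψE ∈ F.Hom E := H85.restrict hψ hET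
  set Lm := D.L.map S.subtype with hLm
  have hLS : Lm ≤ S := Subgroup.map_subtype_le _
  have hbM : b ∈ M := Subgroup.mem_sup_right (Subgroup.mem_zpowers b)
  have hψEb : ψE ⟨b, mem_map_sub.2 hbM⟩ = (r : Ω) :=
    (hψext _ (Subgroup.mem_zpowers _) (hET (mem_map_sub.2 hbM))).trans hχb
  have hψEZ : ∀ e : E, (e : Ω) ∈ D.Z.map S.subtype → ψE e ∈ D.Z.map S.subtype := fun e he =>
    sc_map_mem hZ hψE he
  have hzM : D.z ∈ M := Subgroup.mem_sup_left (Subgroup.mem_zpowers D.z)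
  have hrng : ψE.range = Lm := by
    refine le_antisymm ?_ ?_
    · have hle : M ≤ ((Lm.comap ψE).map E.subtype).comap S.subtype := by
        refine sup_le (Subgroup.zpowers_le.2 ⟨⟨D.z, mem_map_sub.2 hzM⟩, ?_, rfl⟩)
          (Subgroup.zpowers_le.2 ⟨⟨b, mem_map_sub.2 hbM⟩, ?_, rfl⟩)
        · exact Subgroup.map_mono D.Z_le_L
            (hψEZ _ (mem_map_sub.2 (Subgroup.mem_zpowers D.z)))
        · show ψE _ ∈ Lm
          rw [hψEb]
          exact mem_map_sub.2 hrL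
      rintro _ ⟨⟨_, u, hu, rfl⟩, rfl⟩
      obtain ⟨e', he', hee⟩ := hle hu
      exact (Subtype.ext hee : e' = ⟨S.subtype u, u, hu, rfl⟩) ▸ he'
    · have hle : D.Z ⊔ Subgroup.zpowers r ≤ ψE.range.comap S.subtype := by
        refine sup_le ?_ (Subgroup.zpowers_le.2 ⟨_, hψEb⟩)
        have himg := sc_img_eq hZ hψE (Subgroup.map_mono (le_sup_left : D.Z ≤ M))
        exact fun w hw => H85.img_le_range ψE (himg.ge (mem_map_sub.2 hw))
      rintro _ ⟨l, hl, rfl⟩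
      exact hle (D.gen_L hrL hrZ hl)
  have hψI := H85.isFIso_isoOf ψE hψE hrng
  have hLn : ∀ g : S, (g : Ω) ∈ Subgroup.normalizer (Lm : Set Ω) := by
    intro g
    haveI : Finite Lm := H85.finite_of_le hLS
    refine H85.mem_normalizer_of_conj ?_
    rintro _ ⟨l, hl, rfl⟩
    exact ⟨_, (inferInstance : D.L.Normal).conj_mem l hl g, rfl⟩
  have hLfn : F.IsFullyNormalized Lm := ⟨hLS, fun Q _ => by
    rw [show normalizerIn S Lm = S from inf_eq_left.2 fun g hg => hLn ⟨g, hg⟩]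
    exact Subgroup.card_le_of_le inf_le_left⟩
  obtain ⟨θ, hθ, hθext⟩ := H85.receptive_extend
    (H85.receptive_of_fullyNormalized D.isP hF hLfn) hψI
  have hUext : D.Ub ≤ extender S E (Lm.subtype.comp (H85.isoOf ψE hψE hrng).toMonoidHom) := by
    rintro _ ⟨u, hu, rfl⟩
    have hEn : ∀ m ∈ M, u * m * u⁻¹ ∈ M := by
      intro m hm
      have h := mul_mem (Subgroup.mem_sup_left (D.U_der u hu m (hMU hm)) : _ ∈ M) hm
      rwa [inv_mul_cancel_right] at h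
    have hdZ := D.U_der u hu b hbU
    have hdE : ((u * b * u⁻¹ * b⁻¹ : S) : Ω) ∈ E := mem_map_sub.2 (Subgroup.mem_sup_left hdZ)
    obtain ⟨w, hw, hwd⟩ := hψEZ ⟨_, hdE⟩ (mem_map_sub.2 hdZ)
    obtain ⟨h, -, hh⟩ := D.exists_conj_eq (D.L_le_U hrL) hrZ hw
    refine H85.mem_extender.2 ⟨u.2, H85.mem_normalizer_of_conj (P := E) ?_, (h : Ω), h.2,
      fun e he => ?_⟩
    · rintro _ ⟨m, hm, rfl⟩
      exact ⟨_, hEn m hm, rfl⟩
    show ψE ⟨_, he⟩ = (h : Ω) * ψE e * (h : Ω)⁻¹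
    have hle : M ≤ ((MonoidHom.eqLocus
        (ψE.comp ((Cfsg.conjHom E (u : Ω)).codRestrict E fun e => by
          obtain ⟨m, hm, hme⟩ := e.2
          refine ⟨_, hEn m hm, ?_⟩
          show (u : Ω) * (m : Ω) * (u : Ω)⁻¹ = (u : Ω) * (e : Ω) * (u : Ω)⁻¹
          exact congrArg (fun t => (u : Ω) * t * (u : Ω)⁻¹) hme))
        ((MulAut.conj (h : Ω)).toMonoidHom.comp ψE)).map E.subtype).comap S.subtype := by
      refine sup_le (Subgroup.zpowers_le.2 ⟨⟨D.z, mem_map_sub.2 hzM⟩, ?_, rfl⟩)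
        (Subgroup.zpowers_le.2 ⟨⟨b, mem_map_sub.2 hbM⟩, ?_, rfl⟩)
      · obtain ⟨w', hw', hw'e⟩ := hψEZ ⟨D.z, mem_map_sub.2 hzM⟩
          (mem_map_sub.2 (Subgroup.mem_zpowers D.z))
        show ψE ⟨(u : Ω) * (D.z : Ω) * (u : Ω)⁻¹, _⟩ = (h : Ω) * ψE _ * (h : Ω)⁻¹
        rw [← hw'e]
        show _ = (h : Ω) * (w' : Ω) * (h : Ω)⁻¹
        rw [show (h : Ω) * (w' : Ω) = w' * h from congrArg Subtype.val (D.Z_cen hw' h),
          mul_inv_cancel_right]
        refine Eq.trans ?_ hw'e.symm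
        refine congrArg ψE (Subtype.ext ?_)
        show (u : Ω) * (D.z : Ω) * (u : Ω)⁻¹ = D.z
        rw [show (u : Ω) * (D.z : Ω) = D.z * u from congrArg Subtype.val (D.z_cen u),
          mul_inv_cancel_right]
      · show ψE ⟨(u : Ω) * (b : Ω) * (u : Ω)⁻¹, _⟩ =
          (h : Ω) * ψE ⟨b, mem_map_sub.2 hbM⟩ * (h : Ω)⁻¹
        rw [hψEb, show (h : Ω) * (r : Ω) * (h : Ω)⁻¹ = (w : Ω) * r from congrArg Subtype.val hh,
          show (w : Ω) = ψE ⟨_, hdE⟩ from hwd, ← hψEb, ← map_mul]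
        exact congrArg ψE (Subtype.ext (by simp))
    obtain ⟨m, hm, hme⟩ := e.2
    obtain ⟨e', he', hee⟩ := hle hm
    obtain rfl : e' = e := Subtype.ext (hee.trans hme)
    exact he'
  set θU := θ.comp (Subgroup.inclusion hUext) with hθU
  have hθUm : θU ∈ F.Hom D.Ub := H85.restrict hθ hUext
  haveI : Finite D.Ub := H85.finite_of_le D.Ub_le
  have hUr : θU.range = D.Ub := by
    refine Subgroup.eq_of_le_of_card_ge ?_
      (Nat.card_congr (MonoidHom.ofInjective (F.injective_of_mem hθUm)).toEquiv).le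
    rintro _ ⟨e, rfl⟩
    exact (D.Ub_sc (F := F)).2 D.Ub le_rfl _ hθUm e
  set β : MulAut D.Ub := H85.isoOf θU hθUm hUr with hβ
  have hβF : β ∈ F.autGroup D.Ub :=
    (H85.mem_autGroup D.Ub_le).2 (H85.isFIso_isoOf θU hθUm hUr)
  let yU : D.Ub := ⟨D.y, mem_map_sub.2 D.y_mem⟩
  let bU : D.Ub := ⟨b, mem_map_sub.2 hbU⟩
  have hβb : ((β bU : D.Ub) : Ω) = r := by
    rw [H85.isoOf_apply]
    exact (hθext (b : Ω) (mem_map_sub.2 hbM) _).trans hψEb
  have hZinv : ∀ α ∈ F.autGroup D.Ub, ∀ e : D.Ub,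
      (e : Ω) ∈ D.Z.map S.subtype → ((α e : D.Ub) : Ω) ∈ D.Z.map S.subtype := fun α hα e he =>
    sc_map_mem hZ ((H85.mem_autGroup D.Ub_le).1 hα) he
  -- an automorphism preserving `L` when it maps a point of `L ∖ Z` into `L`
  have hkeep : ∀ α ∈ F.autGroup D.Ub, ∀ e₀ : D.Ub, (e₀ : Ω) ∈ Lm →
      (e₀ : Ω) ∉ D.Z.map S.subtype → ((α e₀ : D.Ub) : Ω) ∈ Lm →
      ∀ e : D.Ub, (e : Ω) ∈ Lm → ((α e : D.Ub) : Ω) ∈ Lm := by
    intro α hα e₀ he₀ he₀Z hαe₀
    obtain ⟨l₀, hl₀, hle₀⟩ := he₀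
    have hle : D.Z ⊔ Subgroup.zpowers l₀ ≤
        (((Lm.subgroupOf D.Ub).comap α.toMonoidHom).map D.Ub.subtype).comap S.subtype := by
      refine sup_le (Subgroup.zpowers_le.2
        ⟨⟨D.z, mem_map_sub.2 D.z_mem⟩, ?_, rfl⟩) (Subgroup.zpowers_le.2 ⟨e₀, hαe₀, hle₀.symm⟩)
      exact Subgroup.map_mono D.Z_le_L
        (hZinv α hα _ (mem_map_sub.2 (Subgroup.mem_zpowers D.z)))
    rintro e ⟨l, hl, hle'⟩
    obtain ⟨e', he', hee⟩ := hle (D.gen_L hl₀ (fun h => he₀Z ⟨l₀, h, hle₀⟩) hl)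
    exact (Subtype.ext (hee.trans hle') : e' = e) ▸ he'
  have hyZ : (yU : Ω) ∉ D.Z.map S.subtype := fun h => D.y_out (mem_map_sub.1 h)
  have hyL : (yU : Ω) ∈ Lm := mem_map_sub.2 D.y_mem_L
  have hβy : ((β yU : D.Ub) : Ω) ∉ Lm := by
    intro h
    have hk := hkeep β hβF yU hyL hyZ h
    have hm := H85.map_eq_of_mapsTo (Q := Lm) hk
    obtain ⟨e, he, heb⟩ := hm.ge (show β bU ∈ Lm.subgroupOf D.Ub from by
      rw [Subgroup.mem_subgroupOf, hβb]; exact mem_map_sub.2 hrL)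
    obtain rfl : e = bU := β.injective heb
    exact hbL (mem_map_sub.1 he)
  -- the action on `U/Z`
  set Zu := (D.Z.map S.subtype).subgroupOf D.Ub with hZu
  haveI : Zu.Normal := ⟨fun n hn s => by
    obtain ⟨w, hw, hwn⟩ := hn
    show (s : Ω) * (n : Ω) * (s : Ω)⁻¹ ∈ D.Z.map S.subtype
    rw [show (n : Ω) = w from hwn.symm, show (s : Ω) * (w : Ω) = w * s from
      congrArg Subtype.val (D.Z_cen hw ⟨s, D.Ub_le s.2⟩), mul_inv_cancel_right]
    exact mem_map_sub.2 hw⟩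
  have hmapZ : ∀ α ∈ F.autGroup D.Ub, Zu.map α.toMonoidHom = Zu := fun α hα =>
    H85.map_eq_of_mapsTo (hZinv α hα)
  let f : F.autGroup D.Ub →* MulAut (D.Ub ⧸ Zu) :=
    { toFun := fun α => QuotientGroup.congr Zu Zu (α : MulAut D.Ub) (hmapZ _ α.2)
      map_one' := MulEquiv.ext fun q => by
        induction q using QuotientGroup.induction_on with | H v => rfl
      map_mul' := fun α α' => MulEquiv.ext fun q => by
        induction q using QuotientGroup.induction_on with | H v => rfl }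
  have hfmk : ∀ (α : F.autGroup D.Ub) (v : D.Ub),
      f α (QuotientGroup.mk v) = QuotientGroup.mk ((α : MulAut D.Ub) v) := fun α v => rfl
  have hcom : ∀ v w : D.Ub ⧸ Zu, v * w = w * v := by
    intro v w
    induction v using QuotientGroup.induction_on with | H v =>
    induction w using QuotientGroup.induction_on with | H w =>
    rw [← QuotientGroup.mk_mul, ← QuotientGroup.mk_mul, QuotientGroup.eq]
    obtain ⟨v', hv', hvv⟩ := v.2
    obtain ⟨w', hw', hww⟩ := w.2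
    refine ⟨(v' * w')⁻¹ * (w' * v'), ?_, by simp [← hvv, ← hww]⟩
    have h := D.U_der _ (inv_mem hw') _ (inv_mem hv')
    show _ ∈ Subgroup.zpowers D.z
    simpa [mul_assoc] using h
  have hexp : ∀ v : D.Ub ⧸ Zu, v ^ p = 1 := by
    intro v
    induction v using QuotientGroup.induction_on with | H v =>
    rw [← QuotientGroup.mk_pow, show v ^ p = 1 from Subtype.ext (D.mem_Ub.1 v.2).2,
      QuotientGroup.mk_one]
  have hLbar : ∀ e : D.Ub, (e : Ω) ∈ Lm →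
      (QuotientGroup.mk e : D.Ub ⧸ Zu) ∈ Subgroup.zpowers (QuotientGroup.mk yU) := by
    rintro e ⟨l, hl, hle'⟩
    obtain ⟨w, hw, v, hv, hwv⟩ := Subgroup.mem_sup_of_normal_left.1
      (show l ∈ D.Z ⊔ Subgroup.zpowers D.y from hl)
    obtain ⟨i, rfl⟩ := Subgroup.mem_zpowers_iff.1 hv
    refine ⟨i, ?_⟩
    show (QuotientGroup.mk yU : D.Ub ⧸ Zu) ^ i = _
    rw [← QuotientGroup.mk_zpow, QuotientGroup.eq, Subgroup.mem_subgroupOf]
    refine ⟨w, hw, ?_⟩
    rw [Subgroup.coe_mul, InvMemClass.coe_inv, SubgroupClass.coe_zpow, ← hle', ← hwv]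
    show (w : Ω) = ((D.y : Ω) ^ i)⁻¹ * ((w * D.y ^ i : S) : Ω)
    rw [D.Z_cen hw (D.y ^ i) |>.symm]
    simp
  -- the conjugation
  have hgN : (g₀ : Ω) ∈ normalizerIn S D.Ub := ⟨g₀.2, sc_normalizer (D.Ub_sc (F := F)) g₀.2⟩
  set c := H85.conjAut S D.Ub ⟨g₀, hgN⟩ with hc
  have hcF : c ∈ F.autGroup D.Ub :=
    H85.autInducedBy_le_autGroup F D.Ub_le (H85.conjAut_range S D.Ub ▸ ⟨_, rfl⟩)
  have hcL : ∀ e : D.Ub, ((e⁻¹ * c e : D.Ub) : Ω) ∈ Lm := by
    intro e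
    obtain ⟨u, hu, hue⟩ := e.2
    refine ⟨_, Subgroup.Normal.conj_mem' (inferInstance : D.L.Normal) _
      (D.U_comm g₀ u hu) u, ?_⟩
    show _ = (e : Ω)⁻¹ * ((g₀ : Ω) * e * (g₀ : Ω)⁻¹)
    rw [← hue]
    simp [mul_assoc]
  have hcmove : ∀ e : D.Ub, (e : Ω) ∉ Lm →
      (QuotientGroup.mk (c e) : D.Ub ⧸ Zu) ≠ QuotientGroup.mk e := by
    intro e he heq
    obtain ⟨u, hu, hue⟩ := e.2
    obtain ⟨w, hw, hwe⟩ := QuotientGroup.eq.1 heq.symm
    refine D.moved_off_L hx₁ hg₁ hu (fun h => he ⟨u, h, hue⟩) ?_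
    have : u⁻¹ * (g₀ * u * g₀⁻¹) = w := Subtype.ext (by
      rw [show (w : Ω) = _ from hwe]
      show (u : Ω)⁻¹ * ((g₀ : Ω) * u * (g₀ : Ω)⁻¹) = (e : Ω)⁻¹ * ((g₀ : Ω) * e * (g₀ : Ω)⁻¹)
      rw [show (u : Ω) = e from hue])
    rw [show g₀ * u * g₀⁻¹ = u * w by rw [← this, mul_inv_cancel_left], D.Z_cen hw u,
      mul_inv_cancel_right]
    exact hw
  set w₀ : D.Ub := β⁻¹ yU with hw₀
  have hβw : β w₀ = yU := MulAut.apply_inv_self D.Ub β yU
  have hw₀L : (w₀ : Ω) ∉ Lm := by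
    intro h
    refine hβy (hkeep β hβF w₀ h ?_ (by rw [hβw]; exact hyL) yU hyL)
    intro hZ'
    exact hyZ (hβw ▸ hZinv β hβF w₀ hZ')
  obtain ⟨δ, hδy, hδx⟩ := exists_diag D.p5 f hcom hexp
    (a := (⟨c, hcF⟩ : F.autGroup D.Ub))
    (b := (⟨β * c * β⁻¹, mul_mem (mul_mem hβF hcF) (inv_mem hβF)⟩ : F.autGroup D.Ub))
    (z := QuotientGroup.mk yU) (x := QuotientGroup.mk (β yU))
    (by
      rw [hfmk, QuotientGroup.eq]
      refine ⟨_, Subgroup.Normal.conj_mem' (inferInstance : D.Z.Normal) _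
        (inv_mem (D.y_comm g₀ : g₀ * D.y * g₀⁻¹ * D.y⁻¹ ∈ D.Z)) (g₀ * D.y * g₀⁻¹), ?_⟩
      show _ = ((g₀ : Ω) * D.y * (g₀ : Ω)⁻¹)⁻¹ * (D.y : Ω)
      simp [mul_assoc])
    (by
      rw [hfmk, ← QuotientGroup.mk_inv, ← QuotientGroup.mk_mul]
      exact hLbar _ (hcL _))
    (by rw [hfmk]; exact hcmove _ hβy)
    (by
      rw [hfmk]
      show QuotientGroup.mk (β (c (β⁻¹ (β yU)))) = _
      rw [MulAut.inv_apply_self]
      have h1 : (c yU)⁻¹ * yU ∈ Zu := ⟨_, Subgroup.Normal.conj_mem' (inferInstance : D.Z.Normal) _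
        (inv_mem (D.y_comm g₀ : g₀ * D.y * g₀⁻¹ * D.y⁻¹ ∈ D.Z)) (g₀ * D.y * g₀⁻¹), by
          show _ = ((g₀ : Ω) * D.y * (g₀ : Ω)⁻¹)⁻¹ * (D.y : Ω)
          simp [mul_assoc]⟩
      rw [QuotientGroup.eq, ← map_inv, ← map_mul]
      exact hZinv β hβF _ h1)
    (by
      rw [hfmk, ← QuotientGroup.mk_inv, ← QuotientGroup.mk_mul]
      obtain ⟨i, hi⟩ := Subgroup.mem_zpowers_iff.1 (hLbar _ (hcL w₀))
      refine ⟨i, ?_⟩
      have h2 := congrArg (f ⟨β, hβF⟩) hi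
      rw [map_zpow, hfmk, hfmk] at h2
      show (QuotientGroup.mk (β yU) : D.Ub ⧸ Zu) ^ i = _
      rw [h2]
      show QuotientGroup.mk (β (w₀⁻¹ * c w₀)) = QuotientGroup.mk (yU⁻¹ * β (c w₀))
      rw [map_mul, map_inv, hβw])
    (by
      rw [hfmk]
      intro h
      refine hcmove w₀ hw₀L ((f ⟨β, hβF⟩).injective ?_)
      rw [hfmk, hfmk]
      show QuotientGroup.mk (β (c w₀)) = QuotientGroup.mk (β w₀)
      rw [hβw]
      exact h)
  rw [hfmk] at hδy hδx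
  have hδL : ((((δ : MulAut D.Ub)) yU : D.Ub) : Ω) ∈ Lm := by
    rw [← QuotientGroup.mk_pow, QuotientGroup.eq] at hδy
    have h := Subgroup.map_mono D.Z_le_L (Subgroup.mem_subgroupOf.1 hδy)
    rw [Subgroup.coe_mul, InvMemClass.coe_inv, SubgroupClass.coe_pow] at h
    have h2 := mul_mem (pow_mem hyL 2) (inv_mem h)
    rwa [mul_inv_rev, inv_inv, mul_inv_cancel_left] at h2
  set u₁ : S := ⟨(β yU : D.Ub), D.Ub_le (β yU).2⟩ with hu₁
  have hu₁U : u₁ ∈ D.U := mem_map_sub.1 (β yU).2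
  refine D.extend_contra hF δ.2 (hkeep _ δ.2 yU hyL hyZ hδL) hu₁U
    (D.moved_off_L hx₁ hg₁ hu₁U fun h => hβy ⟨u₁, h, rfl⟩) ?_
  rw [← QuotientGroup.mk_pow] at hδx
  have h := Subgroup.map_mono D.Z_le_L (Subgroup.mem_subgroupOf.1 (QuotientGroup.eq.1 hδx.symm))
  rw [Subgroup.coe_mul, InvMemClass.coe_inv, SubgroupClass.coe_pow] at h
  exact h

end fusion

end Data

/-- Rank two and `p ≥ 5`, with non-abelian `Ω₁` different from the whole group. -/
theorem isNormal_of_data [Finite S] [hp : Fact p.Prime] (D : Data p S) {F : FusionSystem S}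
    (hF : F.IsSaturated p) (hne : ∃ g : S, g ∉ D.U) : F.IsNormal S := by
  have hS : IsPGroup p S := D.isP
  have hp2 : p ≠ 2 := by have := D.p5; omega
  have hSsc : F.StronglyClosed S := ⟨le_rfl, fun R _ φ hφ x => H85.map_mem hφ x⟩
  have hΩ : omegaOne p S = D.Ub := by
    refine le_antisymm ((Subgroup.closure_le _).2 fun t ht => D.mem_Ub.2 ht) fun t ht => ?_
    exact Subgroup.subset_closure (D.mem_Ub.1 ht)
  have hZsc := D.Z_sc hF hne
  have hcen : ⁅D.Z.map S.subtype, S⁆ ≤ (⊥ : Subgroup Ω) := by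
    rw [le_bot_iff, Subgroup.commutator_eq_bot_iff_le_centralizer]
    rintro _ ⟨w, hw, rfl⟩
    exact Subgroup.mem_centralizer_iff.2 fun g hg => congrArg Subtype.val (D.Z_cen hw ⟨g, hg⟩)
  have hstep : ∀ (A B : Subgroup S), B.Normal →
      (∀ g : S, ∀ a ∈ A, g * a * g⁻¹ * a⁻¹ ∈ B) → ⁅A.map S.subtype, S⁆ ≤ B.map S.subtype := by
    intro A B hB h
    rw [Subgroup.commutator_le]
    rintro _ ⟨a, ha, rfl⟩ g hg
    refine ⟨_, inv_mem (h ⟨g, hg⟩ a ha), ?_⟩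
    simp [commutatorElement_def, mul_assoc]
  by_cases hbr : ∃ g : S, ∃ x ∈ D.U, g * x * g⁻¹ * x⁻¹ ∉ D.Z
  · have hLsc := D.L_sc hF hZsc hbr
    refine isNormal_of_omegaChain hS hF hp2 hSsc 3
      ![⊥, D.Z.map S.subtype, D.L.map S.subtype, D.Ub] rfl hΩ.symm
      (fun i => by
        fin_cases i <;> simp [hLsc, hZsc, D.Ub_sc (F := F), H85.stronglyClosed_bot])
      fun i => ?_
    fin_cases i
    · exact hcen
    · exact hstep D.L D.Z inferInstance fun g a ha => D.L_comm_mem g ha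
    · exact hstep D.U D.L inferInstance fun g a ha => D.U_comm g a ha
  · refine isNormal_of_omegaChain hS hF hp2 hSsc 2 ![⊥, D.Z.map S.subtype, D.Ub] rfl hΩ.symm
      (fun i => by
        fin_cases i <;> simp [hZsc, D.Ub_sc (F := F), H85.stronglyClosed_bot])
      fun i => ?_
    fin_cases i
    · exact hcen
    · exact hstep D.U D.Z inferInstance fun g a ha => not_not.1 fun h => hbr ⟨g, a, ha, h⟩

end H88.RankTwo
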