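import Cfsg.Agent.H6.MaxClass
import Cfsg.Agent.H85.Essential
import Cfsg.Agent.H88.CyclicChain
import Cfsg.Agent.H88.RankTwoNormal

/-! In a fusion system on a group of maximal class that moves the centre inside the second centre,
the centralizer of the second centre is essential. -/

set_option autoImplicit false

open Cfsg
open scoped commutatorElement

namespace H88

theorem isEssential_centralizer_upperTwo {Ω : Type*} [Group Ω] {S : Subgroup Ω} [Finite S] (p : ℕ) [Fact p.Prime] (hS : IsPGroup p ↥S) (n : ℕ) (hn : Nat.card S = p ^ n) (h4 : 4 ≤ n) (hmax : Subgroup.lowerCentralSeries S (n - 2) ≠ ⊥) (F : Cfsg.FusionSystem S) (hF : F.IsSaturated p) (hp : 5 ≤ p) (φ : ↥((Subgroup.upperCentralSeries ↥S 2).map S.subtype) →* Ω) (hφ : φ ∈ F.Hom ((Subgroup.upperCentralSeries ↥S 2).map S.subtype)) (hφZ : φ.range = ((Subgroup.upperCentralSeries ↥S 2).map S.subtype)) (hmove : ∃ (z : Ω) (hz : z ∈ ((Subgroup.upperCentralSeries ↥S 2).map S.subtype)), z ∈ ((Subgroup.center ↥S).map S.subtype) ∧ φ ⟨z, hz⟩ ∉ ((Subgroup.center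 ↥S).map S.subtype)) : F.IsEssential p (S ⊓ Subgroup.centralizer (((Subgroup.upperCentralSeries ↥S 2).map S.subtype) : Set Ω)) := by
  classical
  have hpr : p.Prime := Fact.out
  haveI : Group.IsNilpotent S := hS.isNilpotent
  -- maximal class
  have hcls : Group.nilpotencyClass S = n - 1 := by
    refine le_antisymm (H6.nilpotencyClass_le_pred n S hn (by omega)) ?_
    by_contra hlt
    refine hmax ?_
    have h0 : (⊤ : Subgroup S).lowerCentralSeries (n - 2) = ⊥ :=
      Subgroup.lowerCentralSeries_eq_bot_iff_nilpotencyClass_le.2 (by omega)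
    have h1 := congrArg (Subgroup.map S.subtype) h0
    rwa [Subgroup.map_lowerCentralSeries, ← MonoidHom.range_eq_map, Subgroup.range_subtype,
      Subgroup.map_bot] at h1
  obtain ⟨hZc, hQc, hQcls⟩ := H6.maximalClass_center (by omega) hn hcls
  obtain ⟨hZQ, -, -⟩ := H6.maximalClass_center (n := n - 1) (by omega) hQc hQcls
  let U2 : Subgroup S := Subgroup.upperCentralSeries S 2
  set Z : Subgroup S := Subgroup.center S with hZdef
  have hU2iff : ∀ x : S, x ∈ U2 ↔ ∀ g : S, ⁅x, g⁆ ∈ Z := fun x => by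
    show x ∈ Subgroup.upperCentralSeries S 2 ↔ _
    rw [Subgroup.mem_upperCentralSeries_succ_iff, Subgroup.upperCentralSeries_one]
  have hZU : Z ≤ U2 := fun x hx => (hU2iff x).2 fun g => by
    rw [commutatorElement_eq_one_iff_mul_comm.2 (Subgroup.mem_center_iff.1 hx g).symm]
    exact one_mem _
  have hcen : ∀ x : S, QuotientGroup.mk' Z x ∈ Subgroup.center (S ⧸ Z) ↔ x ∈ U2 := by
    intro x
    rw [Subgroup.mem_center_iff, hU2iff]
    constructor
    · intro h g
      rw [← QuotientGroup.eq_one_iff (N := Z), ← QuotientGroup.mk'_apply, map_commutatorElement,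
        commutatorElement_eq_one_iff_mul_comm]
      exact (h _).symm
    · intro h q
      obtain ⟨g, rfl⟩ := QuotientGroup.mk'_surjective Z q
      refine (commutatorElement_eq_one_iff_mul_comm.1 ?_).symm
      rw [← map_commutatorElement]
      exact (QuotientGroup.eq_one_iff _).2 (h g)
  obtain ⟨w, hwU, hwZ⟩ : ∃ w ∈ U2, w ∉ Z := by
    by_contra hno
    push Not at hno
    have h1 : Subgroup.center (S ⧸ Z) = ⊥ := by
      rw [eq_bot_iff]
      intro q hq
      obtain ⟨g, rfl⟩ := QuotientGroup.mk'_surjective Z q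
      exact Subgroup.mem_bot.2 ((QuotientGroup.eq_one_iff g).2 (hno g ((hcen g).1 hq)))
    rw [h1, Subgroup.card_bot] at hZQ
    exact hpr.one_lt.ne hZQ
  have hgen : U2 ≤ Z ⊔ Subgroup.zpowers w := by
    intro x hx
    have h1 : QuotientGroup.mk' Z w ≠ 1 := fun h => hwZ ((QuotientGroup.eq_one_iff _).1 h)
    haveI : Fact (Nat.card (Subgroup.center (S ⧸ Z))).Prime := ⟨hZQ.symm ▸ hpr⟩
    obtain ⟨i, hi⟩ := Subgroup.mem_zpowers_iff.1 (mem_zpowers_of_prime_card (p := p) hZQ
      (g := (⟨_, (hcen w).2 hwU⟩ : Subgroup.center (S ⧸ Z)))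
      (g' := ⟨_, (hcen x).2 hx⟩) (fun h => h1 (congrArg Subtype.val h)))
    have h2 : QuotientGroup.mk' Z (w ^ i) = QuotientGroup.mk' Z x := by
      rw [map_zpow]
      exact congrArg Subtype.val hi
    obtain ⟨z, hz, hzx⟩ := (QuotientGroup.mk'_eq_mk' Z).1 h2
    rw [← hzx]
    exact mul_mem (Subgroup.mem_sup_right ⟨i, rfl⟩) (Subgroup.mem_sup_left hz)
  -- the centralizer
  let V : Subgroup Ω := U2.map S.subtype
  set C : Subgroup Ω := S ⊓ Subgroup.centralizer (V : Set Ω) with hC
  have hVS : V ≤ S := Subgroup.map_subtype_le _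
  haveI : Finite V := H85.finite_of_le hVS
  haveI : Finite C := H85.finite_of_le (inf_le_left : C ≤ S)
  have hVn : ∀ g ∈ S, g ∈ Subgroup.normalizer (V : Set Ω) := fun g hg => by
    refine H85.mem_normalizer_of_conj ?_
    rintro _ ⟨x, hx, rfl⟩
    exact ⟨_, (inferInstance : (Subgroup.upperCentralSeries S 2).Normal).conj_mem x hx ⟨g, hg⟩, rfl⟩
  have hVfn : F.IsFullyNormalized V := ⟨hVS, fun Q _ => by
    rw [show Cfsg.FusionSystem.normalizerIn S V = S from inf_eq_left.2 hVn]
    exact Subgroup.card_le_of_le inf_le_left⟩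
  have hCn : ∀ g ∈ S, g ∈ Subgroup.normalizer (C : Set Ω) := fun g hg => by
    refine H85.mem_normalizer_of_conj fun c hc => ⟨S.mul_mem (S.mul_mem hg hc.1) (S.inv_mem hg), ?_⟩
    refine Subgroup.mem_centralizer_iff.2 fun v hv => ?_
    have h1 := Subgroup.mem_centralizer_iff.1 hc.2 (g⁻¹ * v * g)
      (by simpa using H85.conj_mem_of_mem_normalizer (hVn g⁻¹ (inv_mem hg)) hv)
    calc v * (g * c * g⁻¹) = g * (g⁻¹ * v * g * c) * g⁻¹ := by group
      _ = g * (c * (g⁻¹ * v * g)) * g⁻¹ := by rw [h1]
      _ = g * c * g⁻¹ * v := by group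
  have hCfn : F.IsFullyNormalized C := ⟨inf_le_left, fun Q _ => by
    rw [show Cfsg.FusionSystem.normalizerIn S C = S from inf_eq_left.2 hCn]
    exact Subgroup.card_le_of_le inf_le_left⟩
  have hCeq : C.subgroupOf S = Subgroup.centralizer ({w} : Set S) := by
    ext c
    rw [Subgroup.mem_subgroupOf, Subgroup.mem_centralizer_singleton_iff]
    constructor
    · exact fun h => (Subtype.ext (Subgroup.mem_centralizer_iff.1 h.2 _ ⟨w, hwU, rfl⟩)).symm
    · intro h
      refine ⟨c.2, Subgroup.mem_centralizer_iff.2 ?_⟩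
      rintro _ ⟨x, hx, rfl⟩
      have hle : Z ⊔ Subgroup.zpowers w ≤ Subgroup.centralizer {c} := sup_le
        (fun z hz => Subgroup.mem_centralizer_singleton_iff.2 (Subgroup.mem_center_iff.1 hz c).symm)
        (Subgroup.zpowers_le.2 (Subgroup.mem_centralizer_singleton_iff.2 h.symm))
      exact congrArg Subtype.val (Subgroup.mem_centralizer_singleton_iff.1 (hle (hgen hx)))
  have hidx : (C.subgroupOf S).index = p := by
    have hle : (C.subgroupOf S).index ≤ p := by
      rw [hCeq, ← hZc, Subgroup.index]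
      refine Nat.card_le_card_of_injective (fun c => Quotient.liftOn' c
        (fun g : S => (⟨⁅w, g⁆⁻¹, inv_mem ((hU2iff w).1 hwU g)⟩ : Z)) fun g h hgh => ?_) ?_
      · rw [QuotientGroup.leftRel_apply, Subgroup.mem_centralizer_singleton_iff] at hgh
        refine Subtype.ext (inv_inj.2 ?_)
        simp only [commutatorElement_def]
        calc w * g * w⁻¹ * g⁻¹ = w * g * (w⁻¹ * (g⁻¹ * h)) * h⁻¹ := by group
          _ = w * g * ((g⁻¹ * h) * w⁻¹) * h⁻¹ := by
            rw [(show Commute (g⁻¹ * h) w from hgh).inv_right.eq]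
          _ = w * h * w⁻¹ * h⁻¹ := by group
      · intro c c' hcc
        induction c using QuotientGroup.induction_on with
        | H g =>
          induction c' using QuotientGroup.induction_on with
          | H h =>
            have he := inv_inj.1 (congrArg Subtype.val hcc)
            rw [commutatorElement_def, commutatorElement_def, mul_assoc, mul_assoc, mul_assoc,
              mul_assoc] at he
            have he' : g * (w⁻¹ * g⁻¹) = h * (w⁻¹ * h⁻¹) := mul_left_cancel he
            refine QuotientGroup.eq.2 (Subgroup.mem_centralizer_singleton_iff.2 ?_)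
            calc g⁻¹ * h * w = g⁻¹ * (h * (w⁻¹ * h⁻¹))⁻¹ * h := by group
              _ = g⁻¹ * (g * (w⁻¹ * g⁻¹))⁻¹ * h := by rw [he']
              _ = w * (g⁻¹ * h) := by group
    obtain ⟨k, hk⟩ := hS.index (C.subgroupOf S)
    rw [hk] at hle ⊢
    obtain rfl | rfl | hk2 : k = 0 ∨ k = 1 ∨ 2 ≤ k := by omega
    · exfalso
      rw [pow_zero, Subgroup.index_eq_one] at hk
      rw [hCeq] at hk
      exact hwZ (Subgroup.mem_center_iff.2 fun g => Subgroup.mem_centralizer_singleton_iff.1
        (hk ▸ Subgroup.mem_top g))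
    · exact pow_one p
    · exfalso
      have h1 : p ^ 2 ≤ p := le_trans (Nat.pow_le_pow_right hpr.pos hk2) hle
      have h2 := hpr.two_le
      nlinarith
  have hCS : C < S := lt_of_le_of_ne inf_le_left fun h => by
    rw [h, Subgroup.subgroupOf_self, Subgroup.index_top] at hidx
    exact hpr.one_lt.ne hidx
  by_contra hne
  have hgenF := H85.autGroup_le_closure_extSet hS hF hCS hCfn hne
  -- every automorphism of `C` preserves the centre of `S`
  set Zm : Subgroup Ω := Z.map S.subtype with hZm
  have hpres : ∀ α ∈ F.autGroup C, ∀ c : C, ((α c : C) : Ω) ∈ Zm ↔ (c : Ω) ∈ Zm := by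
    intro α hα
    refine Subgroup.closure_induction ?_ (fun c => Iff.rfl) (fun a b _ _ ha hb c => ?_)
      (fun a _ ha c => ?_) (hgenF hα)
    · rintro a ⟨Q, hCQ, ψ, hψ, hψa⟩ c
      have hQS := H85.source_le hψ
      have hQ : Q = S := by
        refine le_antisymm hQS ?_
        have hdvd := Subgroup.index_dvd_of_le (show C.subgroupOf S ≤ Q.subgroupOf S from
          fun x hx => hCQ.le hx)
        rw [hidx] at hdvd
        rcases (Nat.dvd_prime hpr).1 hdvd with h1 | h1
        · exact Subgroup.subgroupOf_eq_top.1 (Subgroup.index_eq_one.1 h1)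
        · exfalso
          refine hCQ.ne ?_
          have h2 : C.subgroupOf S = Q.subgroupOf S := by
            refine Subgroup.eq_of_le_of_card_ge (fun x hx => hCQ.le hx) ?_
            have h3 := Subgroup.card_mul_index (C.subgroupOf S)
            have h4 := Subgroup.card_mul_index (Q.subgroupOf S)
            rw [hidx] at h3
            rw [h1] at h4
            exact (Nat.eq_of_mul_eq_mul_right hpr.pos (h4.trans h3.symm)).le
          rwa [Subgroup.subgroupOf_inj, inf_eq_left.2 (inf_le_left : C ≤ S),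
            inf_eq_left.2 hQS] at h2
      have hr : ψ.range = S := by
        subst hQ
        exact H88.range_eq_top_source hψ
      subst hQ
      let γ : MulAut Q := H85.isoOf ψ hψ hr
      have hγc : ∀ x : Q, (γ x : Ω) ∈ Zm ↔ (x : Ω) ∈ Zm := by
        intro x
        rw [hZm, H88.RankTwo.mem_map_sub, H88.RankTwo.mem_map_sub, hZdef, Subgroup.mem_center_iff,
          Subgroup.mem_center_iff]
        constructor
        · intro h g
          exact γ.injective (by rw [map_mul, map_mul]; exact h _)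
        · intro h g
          obtain ⟨g', rfl⟩ := γ.surjective g
          rw [← map_mul, ← map_mul, h]
      rw [← hψa c]
      exact hγc (Subgroup.inclusion hCQ.le c)
    · rw [MulAut.mul_apply]; exact (ha _).trans (hb c)
    · have := ha (a⁻¹ c)
      rw [MulAut.apply_inv_self] at this
      exact this.symm
  -- but the given map moves it
  obtain ⟨ψ, hψ, hext⟩ := (H85.receptive_of_fullyNormalized hS hF hVfn).2 V φ hφ hφZ
  have hCext : C ≤ Cfsg.FusionSystem.extender S V φ := H85.centralizerIn_le_extender V φ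
  have hVT : V ≤ Cfsg.FusionSystem.extender S V φ := H85.le_extender hVS fun x => H85.map_mem hφ x
  set ψC := ψ.comp (Subgroup.inclusion hCext) with hψC
  have hψCm : ψC ∈ F.Hom C := H85.restrict hψ hCext
  have hr : ψC.range = C := by
    refine Subgroup.eq_of_le_of_card_ge ?_
      (Nat.card_congr (MonoidHom.ofInjective (F.injective_of_mem hψCm)).toEquiv).le
    rintro _ ⟨c, rfl⟩
    exact H85.extend_maps_centralizer (e := H85.isoOf φ hφ hφZ) hVT
      (fun x => hext x x.2 _) (H85.map_mem hψ _) c.2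
  obtain ⟨z, hzV, hzZ, hz⟩ := hmove
  have hzC : z ∈ C := by
    obtain ⟨x, hx, rfl⟩ := hzZ
    refine ⟨x.2, Subgroup.mem_centralizer_iff.2 fun v hv => ?_⟩
    exact congrArg Subtype.val (Subgroup.mem_center_iff.1 hx ⟨v, hVS hv⟩)
  have h := (hpres (H85.isoOf ψC hψCm hr)
    ((H85.mem_autGroup inf_le_left).2 (H85.isFIso_isoOf ψC hψCm hr)) ⟨z, hzC⟩).2 hzZ
  refine hz ?_
  rwa [H85.isoOf_apply, hψC, MonoidHom.comp_apply, show Subgroup.inclusion hCext ⟨z, hzC⟩ =
    ⟨z, hCext hzC⟩ from rfl, hext z hzV] at h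

end H88
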