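import Cfsg.Agent.H88.PStable
import Cfsg.Agent.H88.CocycleSplit
import Cfsg.Agent.H88.FocalComplement

/-! Triviality of normalizer systems of subgroups between `S'` and `Φ(S)`. -/

set_option autoImplicit false

open Cfsg Cfsg.FusionSystem
open scoped commutatorElement

namespace H88

variable {Ω : Type*} [Group Ω] {S : Subgroup Ω} {p : ℕ}

/-- The automorphisms in `Aut_F(R)` mapping `Q` into itself. -/
def stabAut [Finite S] (F : FusionSystem S) (R Q : Subgroup Ω) (hR : R ≤ S) : Subgroup (MulAut R) where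
  carrier := {α | α ∈ F.autGroup R ∧ ∀ x : R, (x : Ω) ∈ Q → ((α x : R) : Ω) ∈ Q}
  one_mem' := ⟨one_mem _, fun x hx => by simpa using hx⟩
  mul_mem' := fun {a b} ha hb => ⟨mul_mem ha.1 hb.1, fun x hx => ha.2 _ (hb.2 x hx)⟩
  inv_mem' := fun {a} ha => by
    refine ⟨inv_mem ha.1, fun x hx => ?_⟩
    haveI : Finite R := H85.finite_of_le hR
    have hinj : Function.Injective (fun y : Q.subgroupOf R => (⟨a y, ha.2 y y.2⟩ : Q.subgroupOf R)) :=
      fun y z h => Subtype.ext (a.injective (congrArg Subtype.val h))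
    obtain ⟨y, hy⟩ := (Finite.surjective_of_injective hinj) ⟨x, hx⟩
    have : a⁻¹ x = (y : R) := by
      rw [← show a y = x from congrArg Subtype.val hy, MulAut.inv_apply_self]
    rw [this]
    exact y.2

theorem le_normalizer_of_commutator_le [Finite S] {Q R : Subgroup Ω}
    (h1 : (commutator S).map S.subtype ≤ Q) (hQR : Q ≤ R) (hR : R ≤ S) :
    S ≤ Subgroup.normalizer (R : Set Ω) := by
  haveI : Finite R := H85.finite_of_le hR
  intro g hg
  refine H85.mem_normalizer_of_conj fun x hx => ?_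
  have hc : ⁅g, x⁆ ∈ Q := h1 ⟨⁅(⟨g, hg⟩ : S), (⟨x, hR hx⟩ : S)⁆,
    Subgroup.commutator_mem_commutator (Subgroup.mem_top _) (Subgroup.mem_top _), rfl⟩
  have := mul_mem (hQR hc) hx
  simpa [commutatorElement_def, mul_assoc] using this

theorem conj_mod_mem {Q : Subgroup Ω} (h1 : (commutator S).map S.subtype ≤ Q) {g x : Ω}
    (hg : g ∈ S) (hx : x ∈ S) : x⁻¹ * (g * x * g⁻¹) ∈ Q := by
  have : x⁻¹ * (g * x * g⁻¹) = ⁅x⁻¹, g⁆ := by rw [commutatorElement_def]; group
  rw [this]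
  exact h1 ⟨⁅(⟨x, hx⟩ : S)⁻¹, (⟨g, hg⟩ : S)⁆,
    Subgroup.commutator_mem_commutator (Subgroup.mem_top _) (Subgroup.mem_top _), rfl⟩

/-- The inductive step: `Q`-stabilizing automorphisms of `R` are inner in `S`. -/
theorem stabAut_le_induced [Finite S] [hp : Fact p.Prime] (hS : IsPGroup p S) {F : FusionSystem S}
    (hF : F.IsSaturated p) {Q R : Subgroup Ω} (h1 : (commutator S).map S.subtype ≤ Q)
    (h2 : Q ≤ (frattini S).map S.subtype) (hQR : Q ≤ R) (hR : R < S)
    (ih : ∀ T : Subgroup Ω, R < T → ∀ ψ ∈ F.Hom T, H85.img ψ Q = Q →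
      ∃ s ∈ S, ∀ x : T, ψ x = s * (x : Ω) * s⁻¹) :
    stabAut F R Q hR.le ≤ autInducedBy S R := by
  classical
  haveI : Finite R := H85.finite_of_le hR.le
  haveI : Finite (MulAut R) := Finite.of_injective _ DFunLike.coe_injective
  have hSN : S ≤ Subgroup.normalizer (R : Set Ω) := le_normalizer_of_commutator_le h1 hQR hR.le
  have hRn : F.IsFullyNormalized R := ⟨hR.le, fun X _ => by
    rw [show normalizerIn S R = S from inf_eq_left.2 hSN]
    exact Nat.card_le_card_of_injective _ (Subgroup.inclusion_injective inf_le_left)⟩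
  set H := stabAut F R Q hR.le with hH
  have hT0H : autInducedBy S R ≤ H := fun α hα => by
    refine ⟨H85.autInducedBy_le_autGroup F hR.le hα, fun x hx => ?_⟩
    obtain ⟨g, hg, h⟩ := H85.mem_autInducedBy.1 hα
    rw [h x]
    have := mul_mem hx (conj_mod_mem h1 hg (hR.le x.2))
    simpa using this
  -- extensions
  have hext : ∀ h ∈ H, ∀ (g : Ω) (hg : g ∈ S), (∃ g' ∈ S, ∀ x : R,
      ((h ((H85.conjAut S R ⟨g, hg, hSN hg⟩) (h⁻¹ x)) : R) : Ω) = g' * (x : Ω) * g'⁻¹) →
      (g ∈ R ∨ ∃ s ∈ S, ∀ x : R, ((h x : R) : Ω) = s * (x : Ω) * s⁻¹) ∧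
      ∃ d ∈ S, (g⁻¹ * d ∈ Q ∨ g ∈ R) ∧ ∀ x : R,
        ((h ((H85.conjAut S R ⟨g, hg, hSN hg⟩) (h⁻¹ x)) : R) : Ω) = d * (x : Ω) * d⁻¹ := by
    intro h hh g hg ⟨g', hg', hgg'⟩
    have hφ : H85.IsFIso F h := (H85.mem_autGroup hR.le).1 hh.1
    obtain ⟨ψ, hψ, hψx⟩ := H85.receptive_extend (H85.receptive_of_fullyNormalized hS hF hRn) hφ
    have hgT : g ∈ extender S R (R.subtype.comp h.toMonoidHom) := by
      refine H85.mem_extender.2 ⟨hg, hSN hg, g', hg', fun x hx => ?_⟩
      have key := hgg' (h x)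
      rw [MulAut.inv_apply_self] at key
      exact key
    have hRT : R ≤ extender S R (R.subtype.comp h.toMonoidHom) :=
      H85.le_extender hR.le fun x => hR.le (h x).2
    have hψQ : H85.img ψ Q = Q := by
      refine le_antisymm ?_ ?_
      · intro y hy
        obtain ⟨x, hx, rfl⟩ := H85.mem_img.1 hy
        rw [show x = ⟨(x : Ω), x.2⟩ from rfl, hψx x (hQR hx) x.2]
        exact hh.2 ⟨x, hQR hx⟩ hx
      · intro y hy
        have hy' : ((h⁻¹ ⟨y, hQR hy⟩ : R) : Ω) ∈ Q := (inv_mem hh).2 _ hy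
        refine H85.mem_img.2 ⟨⟨_, hRT (h⁻¹ ⟨y, hQR hy⟩).2⟩, hy', ?_⟩
        rw [hψx _ (h⁻¹ ⟨y, hQR hy⟩).2 (hRT (h⁻¹ ⟨y, hQR hy⟩).2)]
        simp
    refine ⟨?_, ψ ⟨g, hgT⟩, H85.map_mem hψ _, ?_, fun x => ?_⟩
    · rcases eq_or_lt_of_le hRT with he | hlt
      · exact Or.inl (he ▸ hgT)
      · obtain ⟨s, hs, hsx⟩ := ih _ hlt ψ hψ hψQ
        exact Or.inr ⟨s, hs, fun x => (hψx x x.2 (hRT x.2)).symm.trans (hsx _)⟩
    · rcases eq_or_lt_of_le hRT with he | hlt
      · exact Or.inr (he ▸ hgT)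
      · obtain ⟨s, hs, hsx⟩ := ih _ hlt ψ hψ hψQ
        rw [hsx]
        exact Or.inl (conj_mod_mem h1 hs hg)
    · have hx : g * ((h⁻¹ x : R) : Ω) * g⁻¹ ∈ R :=
        H85.conj_mem_of_mem_normalizer (hSN hg) (h⁻¹ x).2
      have key := H85.extend_conj hRT (fun y => hψx y y.2 _) (g := ⟨g, hgT⟩) (x := h⁻¹ x) hx
      rw [MulAut.apply_inv_self] at key
      exact key
  -- non-centric case
  by_cases hcen : ∀ g ∈ centralizerIn S R, g ∈ R
  swap
  · push Not at hcen
    obtain ⟨g, hgC, hgR⟩ := hcen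
    intro h hh
    have hc1 : H85.conjAut S R ⟨g, hgC.1, hSN hgC.1⟩ = 1 :=
      MonoidHom.mem_ker.1 (H85.mem_conjAut_ker.2 hgC)
    have := (hext h hh g hgC.1 ⟨1, one_mem _, fun x => by simp [hc1]⟩).1
    exact H85.mem_autInducedBy.2 (this.resolve_left hgR)
  -- the Sylow subgroup
  obtain ⟨-, R₀, hR₀⟩ := H85.fullyAutomized_of_fullyNormalized hS hF hRn
  have hHle : H ≤ F.autGroup R := fun α hα => hα.1
  obtain ⟨U, hU⟩ : ∃ U : Sylow p H, (U : Subgroup H) = (autInducedBy S R).subgroupOf H := by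
    have hp0 : IsPGroup p ((autInducedBy S R).subgroupOf H) :=
      (H85.autInducedBy_isPGroup hS R).comap_of_injective H.subtype H.subtype_injective
    obtain ⟨U, hU⟩ := hp0.exists_le_sylow
    refine ⟨U, le_antisymm ?_ hU⟩
    have h3 : IsPGroup p ((U : Subgroup H).map (Subgroup.inclusion hHle)) := U.isPGroup'.map _
    have h4 : (R₀ : Subgroup (F.autGroup R)) ≤ (U : Subgroup H).map (Subgroup.inclusion hHle) := by
      intro a ha
      rw [hR₀, Subgroup.mem_subgroupOf] at ha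
      exact ⟨⟨a, hT0H ha⟩, hU (Subgroup.mem_subgroupOf.2 ha), Subtype.ext rfl⟩
    intro u hu
    have h5 : Subgroup.inclusion hHle u ∈ (R₀ : Subgroup (F.autGroup R)) := by
      rw [← R₀.is_maximal' h3 h4]
      exact ⟨u, hu, rfl⟩
    rw [hR₀] at h5
    exact h5
  have hconjU : ∀ x : S, (⟨H85.conjAut S R ⟨x, x.2, hSN x.2⟩, hT0H
      (H85.mem_autInducedBy.2 ⟨x, x.2, fun y => rfl⟩)⟩ : H) ∈ (U : Subgroup H) := by
    intro x
    rw [hU]
    exact Subgroup.mem_subgroupOf.2 (H85.mem_autInducedBy.2 ⟨x, x.2, fun y => rfl⟩)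
  -- all of `H` is trivial modulo `Q`
  have hmodQ : ∀ h ∈ H, ∀ x : R, (x : Ω)⁻¹ * ((h x : R) : Ω) ∈ Q := by
    let K1 : Subgroup H :=
      { carrier := {α | ∀ x : R, (x : Ω)⁻¹ * ((α : MulAut R) x : R) ∈ Q}
        one_mem' := fun x => by simp
        mul_mem' := fun {a b} ha hb x => by
          have := mul_mem (hb x) (ha ((b : MulAut R) x))
          simpa [mul_assoc] using this
        inv_mem' := fun {a} ha x => by
          have := inv_mem (ha ((a : MulAut R)⁻¹ x))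
          simpa using this }
    haveI : K1.Normal := by
      constructor
      intro a ha b x
      have h3 : (((b : MulAut R)⁻¹ x)⁻¹ * (a : MulAut R) ((b : MulAut R)⁻¹ x) : R).1 ∈ Q := ha _
      have h4 := b.2.2 _ h3
      simpa [MulAut.mul_apply] using h4
    have hUK : (U : Subgroup H) ≤ K1 := by
      intro a ha x
      rw [hU] at ha
      obtain ⟨g, hg, hga⟩ := H85.mem_autInducedBy.1 (Subgroup.mem_subgroupOf.1 ha)
      rw [hga x]
      exact conj_mod_mem h1 hg (hR.le x.2)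
    obtain ⟨t, ht, htR⟩ := exists_mem_normalizerIn_not_mem hS hR
    intro h hh
    have hmem : (⟨h, hh⟩ : H) ∈ Subgroup.normalizer ((U : Subgroup H) : Set H) ⊔ K1 := by
      have htop : Subgroup.normalizer ((U : Subgroup H) : Set H) ⊔ K1 = ⊤ := U.normalizer_sup_eq_top' hUK
      rw [htop]; trivial
    obtain ⟨n, hn, k, hk, hnk⟩ := Subgroup.mem_sup_of_normal_right.1 hmem
    suffices hn' : n ∈ K1 by
      have := mul_mem hn' hk
      rw [hnk] at this
      exact this
    apply hUK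
    rw [hU]
    refine Subgroup.mem_subgroupOf.2 (H85.mem_autInducedBy.2 ?_)
    have h6 := (Subgroup.mem_normalizer_iff.1 hn _).1 (hconjU ⟨t, ht.1⟩)
    rw [hU] at h6
    obtain ⟨g', hg', hgg'⟩ := H85.mem_autInducedBy.1 (Subgroup.mem_subgroupOf.1 h6)
    exact ((hext (n : MulAut R) n.2 t ht.1 ⟨g', hg', fun x => hgg' x⟩).1).resolve_left htR
  -- a normal complement
  have hcompl : HasNormalPComplement p H := by
    refine hasNormalPComplement_of_fusion_le_frattini U fun a ha g hga => ?_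
    rw [hU, Subgroup.mem_subgroupOf] at ha hga
    obtain ⟨x, hx, hxa⟩ := H85.mem_autInducedBy.1 ha
    obtain ⟨g', hg', hgg'⟩ := H85.mem_autInducedBy.1 hga
    have ea : (a : MulAut R) = H85.conjAut S R ⟨x, hx, hSN hx⟩ :=
      MulEquiv.ext fun y => Subtype.ext (hxa y)
    have hcond : ∀ y : R, (((g : MulAut R) ((H85.conjAut S R ⟨x, hx, hSN hx⟩)
        ((g : MulAut R)⁻¹ y)) : R) : Ω) = g' * (y : Ω) * g'⁻¹ := fun y => by
      rw [← ea]; exact hgg' y
    obtain ⟨-, d, hd, hdQ, hdx⟩ := hext (g : MulAut R) g.2 x hx ⟨g', hg', hcond⟩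
    -- `x⁻¹ d` lies in `Q` modulo the centralizer of `R`
    obtain ⟨q, hqQ, hq⟩ : ∃ q ∈ Q, ∀ y : R, (((a : MulAut R)⁻¹ ((g : MulAut R) ((a : MulAut R)
        ((g : MulAut R)⁻¹ y)))) : R) = q * (y : Ω) * q⁻¹ := by
      have hval : ∀ y : R, (((a : MulAut R)⁻¹ ((g : MulAut R) ((a : MulAut R)
          ((g : MulAut R)⁻¹ y)))) : R) = x⁻¹ * (d * (y : Ω) * d⁻¹) * x := fun y => by
        set z := (g : MulAut R) ((a : MulAut R) ((g : MulAut R)⁻¹ y)) with hz
        have h7 := hxa ((a : MulAut R)⁻¹ z)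
        rw [MulAut.apply_inv_self] at h7
        have h8 : (z : Ω) = d * (y : Ω) * d⁻¹ := by
          rw [hz, ea]; exact hdx y
        rw [← h8, h7]
        group
      rcases hdQ with hq | hxR
      · exact ⟨x⁻¹ * d, hq, fun y => by rw [hval]; group⟩
      · refine ⟨x⁻¹ * ((g : MulAut R) ⟨x, hxR⟩ : R), hmodQ _ g.2 ⟨x, hxR⟩, fun y => ?_⟩
        have h9 : (((g : MulAut R) ((a : MulAut R) ((g : MulAut R)⁻¹ y))) : Ω) =
            ((g : MulAut R) ⟨x, hxR⟩ : R) * (y : Ω) * (((g : MulAut R) ⟨x, hxR⟩ : R) : Ω)⁻¹ := by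
          have e : (a : MulAut R) ((g : MulAut R)⁻¹ y) =
              (⟨x, hxR⟩ : R) * (g : MulAut R)⁻¹ y * (⟨x, hxR⟩ : R)⁻¹ := Subtype.ext (hxa _)
          rw [e, map_mul, map_mul, map_inv, MulAut.apply_inv_self]
          rfl
        have h7 := hxa ((a : MulAut R)⁻¹ ((g : MulAut R) ((a : MulAut R) ((g : MulAut R)⁻¹ y))))
        rw [MulAut.apply_inv_self, h9] at h7
        calc _ = x⁻¹ * (x * (((a : MulAut R)⁻¹ ((g : MulAut R) ((a : MulAut R)
              ((g : MulAut R)⁻¹ y)))) : R) * x⁻¹) * x := by group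
          _ = _ := by rw [← h7]; group
    -- hence it is the image of an element of the Frattini subgroup
    let f : S →* (U : Subgroup H) :=
      { toFun := fun s => ⟨_, hconjU s⟩
        map_one' := Subtype.ext (Subtype.ext (MulEquiv.ext fun y => Subtype.ext (by simp)))
        map_mul' := fun s t => Subtype.ext (Subtype.ext (MulEquiv.ext fun y => Subtype.ext (by
          simp [mul_assoc]))) }
    have hf : Function.Surjective f := by
      intro b
      have hb : ((b : H) : MulAut R) ∈ autInducedBy S R := by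
        exact Subgroup.mem_subgroupOf.1 (hU.le b.2)
      obtain ⟨s, hs, hsb⟩ := H85.mem_autInducedBy.1 hb
      exact ⟨⟨s, hs⟩, Subtype.ext (Subtype.ext (MulEquiv.ext fun y => Subtype.ext (hsb y).symm))⟩
    obtain ⟨s, hs, hsq⟩ := h2 hqQ
    refine ⟨f s, frattini_le_comap_frattini_of_surjective hf hs, Subtype.ext (MulEquiv.ext fun y =>
      Subtype.ext ?_)⟩
    show (s : Ω) * (y : Ω) * (s : Ω)⁻¹ = _
    rw [show (s : Ω) = q from hsq, ← hq y]
    simp [MulAut.mul_apply]
  -- the complement is trivial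
  set K := (pResidual p H).map H.subtype with hK
  have hKH : K ≤ H := Subgroup.map_subtype_le _
  have hKcop : (Nat.card K).Coprime (Nat.card R) := by
    obtain ⟨n, hn⟩ := IsPGroup.iff_card.1 (hS.to_le hR.le)
    rw [hn, hK, Subgroup.card_map_of_injective H.subtype_injective]
    exact (((Nat.Prime.coprime_iff_not_dvd hp.out).2
      (H5.hasNormalPComplement_iff_not_dvd.1 hcompl)).pow_left n).symm
  have hKT0 : ∀ k ∈ K, k ∈ autInducedBy S R → k = 1 := by
    intro k hk hk'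
    obtain ⟨n, hn⟩ := H85.autInducedBy_isPGroup hS R ⟨k, hk'⟩
    have h3 : orderOf k ∣ p ^ n := orderOf_dvd_of_pow_eq_one (congrArg Subtype.val hn)
    have h4 : orderOf k ∣ Nat.card K := by
      rw [← Subgroup.orderOf_mk k hk]; exact orderOf_dvd_natCard _
    have h5 : ¬ p ∣ Nat.card K := by
      rw [hK, Subgroup.card_map_of_injective H.subtype_injective]
      exact H5.hasNormalPComplement_iff_not_dvd.1 hcompl
    exact orderOf_eq_one_iff.1 (Nat.eq_one_of_dvd_coprimes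
      (((Nat.Prime.coprime_iff_not_dvd hp.out).2 h5).pow_left n).symm h4 h3)
  have hnormH : ∀ b ∈ H, ∀ k ∈ K, b * k * b⁻¹ ∈ K := by
    rintro b hb _ ⟨k, hk, rfl⟩
    exact ⟨⟨b, hb⟩ * k * ⟨b, hb⟩⁻¹, (inferInstance : (pResidual p H).Normal).conj_mem k hk _, rfl⟩
  have hcentral : ∀ k ∈ K, ∀ r : R, r⁻¹ * k r ∈ Subgroup.center R := by
    intro k hk r
    have hr : MulAut.conj r ∈ autInducedBy S R :=
      H85.inn_le_autInducedBy hR.le ⟨r, rfl⟩
    have hrk : k * MulAut.conj r * k⁻¹ = MulAut.conj (k r) := by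
      refine MulEquiv.ext fun y => ?_
      simp [MulAut.mul_apply]
    have h3 : k * MulAut.conj r * k⁻¹ * (MulAut.conj r)⁻¹ = 1 := by
      refine hKT0 _ ?_ ?_
      · have h4 := mul_mem hk (hnormH _ (hT0H hr) _ (inv_mem hk))
        simpa [mul_assoc] using h4
      · rw [hrk]
        exact mul_mem (H85.inn_le_autInducedBy hR.le ⟨k r, rfl⟩) (inv_mem hr)
    rw [mul_inv_eq_one, hrk] at h3
    refine Subgroup.mem_center_iff.2 fun y => ?_
    have h4 := DFunLike.congr_fun h3 y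
    simp only [MulAut.conj_apply] at h4
    calc y * (r⁻¹ * k r) = r⁻¹ * (r * y * r⁻¹) * k r := by group
      _ = r⁻¹ * (k r * y * (k r)⁻¹) * k r := by rw [h4]
      _ = _ := by group
  -- transfer to the group `S`
  haveI hRnS : (R.subgroupOf S).Normal :=
    ⟨fun a ha g => Subgroup.mem_subgroupOf.2 (H85.conj_mem_of_mem_normalizer (hSN g.2) ha)⟩
  let e : R ≃* R.subgroupOf S := (Subgroup.subgroupOfEquivOfLe hR.le).symm
  have hconjN : ∀ t : S, MulAut.conjNormal t =
      MulAut.congr e (H85.conjAut S R ⟨t, t.2, hSN t.2⟩) := by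
    intro t
    refine MulEquiv.ext fun y => Subtype.ext (Subtype.ext ?_)
    obtain ⟨z, rfl⟩ := e.surjective y
    rw [MulAut.conjNormal_apply]
    show (t : Ω) * (z : Ω) * (t : Ω)⁻¹ = ((e ((H85.conjAut S R ⟨t, t.2, hSN t.2⟩) (e.symm (e z))) :
      R.subgroupOf S) : S).1
    rw [MulEquiv.symm_apply_apply]
    rfl
  have hbot : K.map (MulAut.congr e : MulAut R →* MulAut (R.subgroupOf S)) = ⊥ := by
    refine eq_bot_of_free_central _ ?_ ?_ ?_ ?_ ?_
    · rw [Subgroup.card_map_of_injective (MulAut.congr e).injective,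
        Nat.card_congr (Subgroup.subgroupOfEquivOfLe hR.le).toEquiv]
      exact hKcop
    · rintro t _ ⟨k, hk, rfl⟩
      rw [hconjN, MonoidHom.coe_coe, ← map_mul, ← map_inv, ← map_mul]
      exact Subgroup.mem_map_of_mem _
        (hnormH _ (hT0H (H85.mem_autInducedBy.2 ⟨t, t.2, fun y => rfl⟩)) k hk)
    · rintro _ ⟨k, hk, rfl⟩ r
      obtain ⟨z, rfl⟩ := e.surjective r
      have h3 := Subgroup.mem_center_iff.1 (hcentral k hk z)
      have e1 : disp (MulAut.congr e k) (e z) = e (z⁻¹ * k z) := by simp [disp]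
      rw [MonoidHom.coe_coe, e1]
      refine Subgroup.mem_center_iff.2 fun y => ?_
      obtain ⟨w, rfl⟩ := e.surjective y
      rw [← map_mul, ← map_mul, h3 w]
    · rintro _ ⟨k, hk, rfl⟩ hk1 t ht heq
      rw [hconjN, MonoidHom.coe_coe, ← map_mul, ← map_inv, ← map_mul] at heq
      have h3 := (MulAut.congr e).injective heq
      apply hk1
      rw [MonoidHom.coe_coe]
      have hcond : ∀ y : R, ((k ((H85.conjAut S R ⟨t, t.2, hSN t.2⟩) (k⁻¹ y)) : R) : Ω) =
          (t : Ω) * (y : Ω) * (t : Ω)⁻¹ := by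
        intro y
        have h4 : k * H85.conjAut S R ⟨t, t.2, hSN t.2⟩ * k⁻¹ = H85.conjAut S R ⟨t, t.2, hSN t.2⟩ := by
          rw [mul_inv_eq_iff_eq_mul]
          exact (mul_inv_eq_iff_eq_mul.1 h3).symm
        exact congrArg Subtype.val (DFunLike.congr_fun h4 y)
      have h5 := ((hext k (hKH hk) t t.2 ⟨t, t.2, hcond⟩).1).resolve_left
        (fun h => ht (Subgroup.mem_subgroupOf.2 h))
      rw [hKT0 k hk (H85.mem_autInducedBy.2 h5), map_one]
    · rintro _ ⟨k, hk, rfl⟩ r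
      obtain ⟨z, rfl⟩ := e.surjective r
      obtain ⟨w, hw, hwz⟩ := h2 (hmodQ k (hKH hk) z)
      have e1 : ((disp (MulAut.congr e k) (e z) : R.subgroupOf S) : S) = w := by
        refine Subtype.ext ?_
        rw [show disp (MulAut.congr e k) (e z) = e (z⁻¹ * k z) by simp [disp]]
        exact hwz.symm
      rw [MonoidHom.coe_coe, e1]
      exact hw
  intro h hh
  have hHp : IsPGroup p H := by
    refine isPGroup_of_coprime_trivial fun b hb => ?_
    have hbK : (b : MulAut R) ∈ K := ⟨b, Subgroup.subset_closure hb, rfl⟩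
    have h3 : MulAut.congr e (b : MulAut R) ∈ K.map (MulAut.congr e : MulAut R →* _) :=
      ⟨_, hbK, rfl⟩
    rw [hbot, Subgroup.mem_bot] at h3
    exact Subtype.ext ((MulAut.congr e).map_eq_one_iff.1 h3)
  have htop : (U : Subgroup H) = ⊤ := (U.is_maximal' (hHp.to_subgroup ⊤) le_top).symm
  have : (⟨h, hh⟩ : H) ∈ (U : Subgroup H) := by rw [htop]; trivial
  rw [hU] at this
  exact this

/-- The maps stabilizing `Q` are induced by `S`. -/
theorem map_inner_of_stab [Finite S] [Fact p.Prime] (hS : IsPGroup p S) {F : FusionSystem S}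
    (hF : F.IsSaturated p) (hAut : F.autGroup S ≤ autInducedBy S S) {Q : Subgroup Ω}
    (h1 : (commutator S).map S.subtype ≤ Q) (h2 : Q ≤ (frattini S).map S.subtype)
    {R : Subgroup Ω} (hQR : Q ≤ R) {ψ : R →* Ω} (hψ : ψ ∈ F.Hom R) (hψQ : H85.img ψ Q = Q) :
    ∃ s ∈ S, ∀ x : R, ψ x = s * (x : Ω) * s⁻¹ := by
  suffices h : ∀ (k : ℕ) (R : Subgroup Ω), Nat.card S - Nat.card R < k → Q ≤ R →
      ∀ ψ ∈ F.Hom R, H85.img ψ Q = Q → ∃ s ∈ S, ∀ x : R, ψ x = s * (x : Ω) * s⁻¹ from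
    h _ R (Nat.lt_succ_self _) hQR ψ hψ hψQ
  intro k
  induction k with
  | zero => intro R h; exact absurd h (Nat.not_lt_zero _)
  | succ k ih =>
    intro R hk hQR ψ hψ hψQ
    have hRS := H85.source_le hψ
    have top : ∀ χ ∈ F.Hom S, ∃ s ∈ S, ∀ x : S, χ x = s * (x : Ω) * s⁻¹ := by
      intro χ hχ
      have hr : χ.range = S := Subgroup.eq_of_le_of_card_ge (H85.range_le hχ)
        (le_of_eq (Nat.card_congr (MonoidHom.ofInjective (F.injective_of_mem hχ)).toEquiv))
      obtain ⟨s, hs, hsx⟩ := H85.mem_autInducedBy.1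
        (hAut ((H85.mem_autGroup le_rfl).2 (H85.isFIso_isoOf χ hχ hr)))
      exact ⟨s, hs, fun x => (H85.isoOf_apply χ hχ hr x).symm.trans (hsx x)⟩
    rcases eq_or_lt_of_le hRS with rfl | hlt
    · exact top ψ hψ
    have hSN := le_normalizer_of_commutator_le h1 hQR hRS
    have hQR' : Q ≤ ψ.range := hψQ.symm.le.trans (H85.img_le_range ψ)
    have hSN' := le_normalizer_of_commutator_le h1 hQR' (H85.range_le hψ)
    have hRn : F.IsFullyNormalized R := ⟨hRS, fun X _ => by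
      rw [show normalizerIn S R = S from inf_eq_left.2 hSN]
      exact Nat.card_le_card_of_injective _ (Subgroup.inclusion_injective inf_le_left)⟩
    obtain ⟨χ, hχ, -, hχR⟩ := H85.exists_map_to_fullyNormalized hS hF hRn
      (H85.isConj_symm (⟨ψ, hψ, rfl⟩ : F.IsConj R ψ.range))
    obtain ⟨s, hs, hsx⟩ := top _ (H85.restrict hχ (le_inf le_rfl hSN'))
    have hrange : ψ.range = R := by
      haveI : Finite ψ.range := H85.finite_of_le (H85.range_le hψ)
      refine (Subgroup.eq_of_le_of_card_ge ?_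
        (H85.isConj_card (⟨ψ, hψ, rfl⟩ : F.IsConj R ψ.range)).symm.le).symm
      intro y hy
      obtain ⟨x, hx, rfl⟩ := H85.mem_img.1 (hχR.ge hy)
      have e := hsx ⟨x, x.2.1⟩
      rw [show χ x = s * (x : Ω) * s⁻¹ from e]
      exact H85.conj_mem_of_mem_normalizer (hSN' hs) hx
    have hmem : (H85.isoOf ψ hψ hrange : MulAut R) ∈ stabAut F R Q hRS := by
      refine ⟨(H85.mem_autGroup hRS).2 (H85.isFIso_isoOf ψ hψ hrange), fun x hx => ?_⟩
      exact hψQ.le (H85.apply_mem_img (φ := ψ) hx)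
    obtain ⟨t, ht, htx⟩ := H85.mem_autInducedBy.1
      (stabAut_le_induced hS hF h1 h2 hQR hlt (fun T hT χ hχ hχQ => by
        haveI : Finite T := H85.finite_of_le (H85.source_le hχ)
        have h3 := card_lt_card_of_lt_sub hT
        have h4 : Nat.card T ≤ Nat.card S :=
          Nat.card_le_card_of_injective _ (Subgroup.inclusion_injective (H85.source_le hχ))
        exact ih T (by omega) (hQR.trans hT.le) χ hχ hχQ) hmem)
    exact ⟨t, ht, fun x => (H85.isoOf_apply ψ hψ hrange x).symm.trans (htx x)⟩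

theorem normalizer_trivial [Finite S] [Fact p.Prime] (hS : IsPGroup p S) {F : FusionSystem S}
    (hF : F.IsSaturated p)
    (hN : ∀ N : FusionSystem (normalizerIn S S), F.IsNormalizerSystem S N →
      ∀ P : Subgroup Ω, N.Hom P = (innerFusionSystem (normalizerIn S S)).Hom P)
    (Q : Subgroup Ω) (h1 : (commutator S).map S.subtype ≤ Q)
    (h2 : Q ≤ (frattini S).map S.subtype) :
    ∀ N : FusionSystem (normalizerIn S Q), F.IsNormalizerSystem Q N →
      ∀ P : Subgroup Ω, N.Hom P = (innerFusionSystem (normalizerIn S Q)).Hom P := by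
  have hQS : Q ≤ S := h2.trans (Subgroup.map_subtype_le _)
  have hnS : normalizerIn S S = S := inf_eq_left.2 Subgroup.le_normalizer
  have hAut : F.autGroup S ≤ autInducedBy S S := by
    intro α hα
    have hα' := (H85.mem_autGroup le_rfl).1 hα
    have hmem : S.subtype.comp α.toMonoidHom ∈ (H85.normalizerSystem F S le_rfl).Hom S := by
      refine H85.mem_normalizerHom.2 ⟨hα', hnS.ge, fun x => hnS.ge (α x).2, _,
        H85.restrict hα' (sup_le le_rfl le_rfl), fun x => rfl, ?_⟩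
      refine le_antisymm ?_ ?_
      · intro y hy
        obtain ⟨x, -, rfl⟩ := H85.mem_img.1 hy
        exact (α _).2
      · intro y hy
        refine H85.mem_img.2 ⟨⟨(α⁻¹ ⟨y, hy⟩ : S), Subgroup.mem_sup_left (α⁻¹ ⟨y, hy⟩).2⟩,
          (α⁻¹ ⟨y, hy⟩).2, ?_⟩
        show ((α (α⁻¹ ⟨y, hy⟩) : S) : Ω) = y
        rw [MulAut.apply_inv_self]
    rw [hN _ (H85.normalizerSystem_spec F S le_rfl)] at hmem
    obtain ⟨-, g, hg, h⟩ := hmem
    exact H85.mem_autInducedBy.2 ⟨g, hg.1, h⟩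
  have hSQ : normalizerIn S Q = S :=
    inf_eq_left.2 (le_normalizer_of_commutator_le h1 le_rfl hQS)
  intro N hNQ P
  refine le_antisymm (fun φ hφ => ?_) ?_
  · rw [hNQ P] at hφ
    obtain ⟨-, hPN, -, ψ, hψ, hext, himg⟩ := H85.mem_normalizerHom.1 hφ
    obtain ⟨s, hs, hsx⟩ := map_inner_of_stab hS hF hAut h1 h2 le_sup_right hψ himg
    exact ⟨hPN, s, hSQ.ge hs, fun x => (hext x).symm.trans (hsx _)⟩
  · rintro φ ⟨hP, g, hg, h⟩
    exact H85.hom_congr (N.conj_mem hP hg) fun x => (h x).symm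

end H88
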