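import Cfsg.Agent.H6.OmegaOdd
import Cfsg.Agent.H2.UniqueSubgroup
import Cfsg.Agent.H83.PGroupBasic
import Mathlib.GroupTheory.SpecificGroups.Cyclic
import Mathlib.NumberTheory.Multiplicity
import Mathlib.Tactic.Group
import Mathlib.Tactic.LinearCombination

/-!
`p`-groups of rank two (`p ≥ 5`) in which the elements of order `p` form an extraspecial group
`U` of order `p³`: every automorphism acts on the part of `U/Z(U)` moved by the group with
exponent `±1`.
-/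

set_option autoImplicit false
set_option linter.style.haveILetI false

namespace H88.RankTwo

open scoped commutatorElement

variable {G : Type*} [Group G] {p : ℕ}

/-- The data: `U` the elements of order dividing `p`, `z` central, `y` central modulo `⟨z⟩`. -/
structure Data (p : ℕ) (G : Type*) [Group G] where
  U : Subgroup G
  z : G
  y : G
  p5 : 5 ≤ p
  isP : IsPGroup p G
  mem_U : ∀ g : G, g ∈ U ↔ g ^ p = 1
  card_U : Nat.card U = p ^ 3
  z_mem : z ∈ U
  z_ne : z ≠ 1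
  z_cen : ∀ g : G, g * z = z * g
  y_mem : y ∈ U
  y_out : y ∉ Subgroup.zpowers z
  y_comm : ∀ g : G, g * y * g⁻¹ * y⁻¹ ∈ Subgroup.zpowers z
  U_comm : ∀ g : G, ∀ u ∈ U, g * u * g⁻¹ * u⁻¹ ∈ Subgroup.zpowers z ⊔ Subgroup.zpowers y
  U_der : ∀ u ∈ U, ∀ v ∈ U, u * v * u⁻¹ * v⁻¹ ∈ Subgroup.zpowers z
  U_cen : ∀ u ∈ U, (∀ v ∈ U, v * u = u * v) → u ∈ Subgroup.zpowers z

namespace Data

variable (D : Data p G)

/-- The centre of `U`. -/
def Z : Subgroup G := Subgroup.zpowers D.z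

/-- The normal subgroup of order `p²` between. -/
def L : Subgroup G := Subgroup.zpowers D.z ⊔ Subgroup.zpowers D.y

theorem Z_cen {w : G} (hw : w ∈ D.Z) (g : G) : g * w = w * g := by
  obtain ⟨i, rfl⟩ := Subgroup.mem_zpowers_iff.1 hw
  exact (Commute.zpow_right (show Commute g D.z from D.z_cen g) i).eq

instance zNormal : D.Z.Normal :=
  ⟨fun w hw g => by rw [D.Z_cen hw g, mul_inv_cancel_right]; exact hw⟩

theorem Z_le_U : D.Z ≤ D.U := Subgroup.zpowers_le.2 D.z_mem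

theorem Z_le_L : D.Z ≤ D.L := le_sup_left

theorem y_mem_L : D.y ∈ D.L := Subgroup.mem_sup_right (Subgroup.mem_zpowers _)

theorem L_le_U : D.L ≤ D.U :=
  sup_le (Subgroup.zpowers_le.2 D.z_mem) (Subgroup.zpowers_le.2 D.y_mem)

theorem conj_mem_U {u : G} (hu : u ∈ D.U) (g : G) : g * u * g⁻¹ ∈ D.U := by
  rw [D.mem_U, conj_pow, (D.mem_U u).1 hu, mul_one, mul_inv_cancel]

theorem L_comm_mem (g : G) {l : G} (hl : l ∈ D.L) : g * l * g⁻¹ * l⁻¹ ∈ D.Z := by
  have hle : D.L ≤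
      ((Subgroup.center (G ⧸ D.Z)).comap (QuotientGroup.mk' D.Z)) := by
    refine sup_le (Subgroup.zpowers_le.2 ?_) (Subgroup.zpowers_le.2 ?_)
    · refine Subgroup.mem_center_iff.2 fun q => ?_
      obtain ⟨h, rfl⟩ := QuotientGroup.mk'_surjective _ q
      rw [← map_mul, ← map_mul, D.z_cen]
    · refine Subgroup.mem_center_iff.2 fun q => ?_
      obtain ⟨h, rfl⟩ := QuotientGroup.mk'_surjective _ q
      refine mul_inv_eq_iff_eq_mul.1 (mul_inv_eq_one.1 ?_)
      rw [← map_inv, ← map_mul, ← map_mul, ← map_inv, ← map_mul]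
      exact (QuotientGroup.eq_one_iff _).2 (D.y_comm h)
  refine (QuotientGroup.eq_one_iff _).1 (show QuotientGroup.mk' D.Z (g * l * g⁻¹ * l⁻¹) = 1 from ?_)
  rw [map_mul, map_mul, map_mul, map_inv, map_inv, Subgroup.mem_center_iff.1 (hle hl) _,
    mul_inv_cancel_right, mul_inv_cancel]

instance lNormal : D.L.Normal := ⟨fun l hl g => by
  have h := mul_mem (D.Z_le_L (D.L_comm_mem g hl)) hl
  rwa [inv_mul_cancel_right] at h⟩

theorem y_cen_L (l : G) (hl : l ∈ D.L) : D.y * l = l * D.y := by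
  have hle : D.L ≤ Subgroup.centralizer {D.y} := sup_le
    (Subgroup.zpowers_le.2 (Subgroup.mem_centralizer_singleton_iff.2 (D.z_cen D.y).symm))
    (Subgroup.zpowers_le.2 (Subgroup.mem_centralizer_singleton_iff.2 rfl))
  exact (Subgroup.mem_centralizer_singleton_iff.1 (hle hl)).symm

theorem L_comm {a b : G} (ha : a ∈ D.L) (hb : b ∈ D.L) : a * b = b * a := by
  have hle : D.L ≤ Subgroup.centralizer {b} := sup_le
    (Subgroup.zpowers_le.2 (Subgroup.mem_centralizer_singleton_iff.2 (D.z_cen b).symm))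
    (Subgroup.zpowers_le.2 (Subgroup.mem_centralizer_singleton_iff.2 (D.y_cen_L b hb)))
  exact Subgroup.mem_centralizer_singleton_iff.1 (hle ha)

variable [hp : Fact p.Prime]

theorem z_order : orderOf D.z = p := orderOf_eq_prime ((D.mem_U _).1 D.z_mem) D.z_ne

theorem card_Z : Nat.card D.Z = p := (Nat.card_zpowers _).trans D.z_order

theorem exists_z_pow {w : G} (hw : w ∈ D.Z) : ∃ i : ℕ, D.z ^ i = w :=
  (IsOfFinOrder.mem_powers_iff_mem_zpowers
    (isOfFinOrder_iff_pow_eq_one.2 ⟨p, hp.out.pos, (D.mem_U _).1 D.z_mem⟩)).2 hw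

theorem z_pow_eq {i j : ℕ} (h : D.z ^ i = D.z ^ j) : (i : ZMod p) = j := by
  rw [pow_eq_pow_iff_modEq, D.z_order] at h
  exact (ZMod.natCast_eq_natCast_iff i j p).2 h

variable [Finite G]

theorem card_L : Nat.card D.L = p ^ 2 := by
  obtain ⟨i, hi, hie⟩ := (Nat.dvd_prime_pow hp.out).1
    (D.card_U ▸ Subgroup.card_dvd_of_le D.L_le_U)
  have hlt : p < Nat.card D.L := by
    refine lt_of_le_of_ne (D.card_Z.symm.trans_le (Subgroup.card_le_of_le D.Z_le_L))
      fun h => D.y_out ?_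
    show D.y ∈ D.Z
    rw [Subgroup.eq_of_le_of_card_ge D.Z_le_L (by rw [D.card_Z]; exact h.ge)]
    exact D.y_mem_L
  have hne : D.L ≠ D.U := by
    intro h
    refine D.y_out (D.U_cen _ D.y_mem fun v hv => (D.y_cen_L v (h ▸ hv)).symm)
  have hlt' : Nat.card D.L < p ^ 3 := by
    rw [← D.card_U]
    exact lt_of_not_ge fun h => hne (Subgroup.eq_of_le_of_card_ge D.L_le_U h)
  rw [hie] at hlt hlt' ⊢
  have h1 := (Nat.pow_lt_pow_iff_right hp.out.one_lt).1 hlt'
  have h2 : 1 < i := (Nat.pow_lt_pow_iff_right hp.out.one_lt).1 (by rwa [pow_one])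
  rw [show i = 2 by omega]

theorem mem_decomp {x : G} (hx : x ∈ D.U) (hxL : x ∉ D.L) {u : G} (hu : u ∈ D.U) :
    ∃ i : ℕ, ∃ l ∈ D.L, u = x ^ i * l := by
  have htop : Subgroup.zpowers x ⊔ D.L = D.U := by
    have hle : Subgroup.zpowers x ⊔ D.L ≤ D.U := sup_le (Subgroup.zpowers_le.2 hx) D.L_le_U
    obtain ⟨i, hi, hie⟩ := (Nat.dvd_prime_pow hp.out).1 (D.card_U ▸ Subgroup.card_dvd_of_le hle)
    refine Subgroup.eq_of_le_of_card_ge hle ?_
    rw [D.card_U, hie]
    refine Nat.pow_le_pow_right hp.out.pos ?_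
    by_contra h
    refine hxL ?_
    rw [Subgroup.eq_of_le_of_card_ge (le_sup_right : D.L ≤ Subgroup.zpowers x ⊔ D.L)
      (by rw [D.card_L, hie]; exact Nat.pow_le_pow_right hp.out.pos (by omega))]
    exact Subgroup.mem_sup_left (Subgroup.mem_zpowers x)
  rw [← htop] at hu
  obtain ⟨a, ha, l, hl, hal⟩ := Subgroup.mem_sup_of_normal_right.1 hu
  obtain ⟨i, hi⟩ := (isOfFinOrder_of_finite x).mem_powers_iff_mem_zpowers.2 ha
  exact ⟨i, l, hl, by rw [← hal]; exact congrArg (· * l) hi.symm⟩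

theorem not_comm_y {x : G} (hx : x ∈ D.U) (hxL : x ∉ D.L) : x * D.y ≠ D.y * x := by
  intro h
  refine D.y_out (D.U_cen _ D.y_mem fun v hv => ?_)
  obtain ⟨i, l, hl, rfl⟩ := D.mem_decomp hx hxL hv
  exact ((show Commute D.y x from h.symm).pow_right i |>.mul_right (D.y_cen_L l hl)).eq.symm

/-- An element moving `u` inside `u Z` can be corrected by an element of `U` to centralise `u`. -/
theorem adjust {u : G} (hu : u ∈ D.U) (huZ : u ∉ D.Z) {g : G} (hg : g * u * g⁻¹ * u⁻¹ ∈ D.Z) :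
    ∃ v ∈ D.U, (g * v) * u = u * (g * v) := by
  obtain ⟨w, hw, hwu⟩ : ∃ w ∈ D.U, w * u ≠ u * w := by
    by_contra h
    exact huZ (D.U_cen u hu fun v hv => not_not.1 fun h' => h ⟨v, hv, h'⟩)
  set d := w * u * w⁻¹ * u⁻¹ with hd
  have hdZ : d ∈ D.Z := D.U_der w hw u hu
  have hd1 : d ≠ 1 := fun h => hwu (mul_inv_eq_iff_eq_mul.1 (mul_inv_eq_one.1 h))
  have hdgen : Subgroup.zpowers d = D.Z := by
    refine Subgroup.eq_of_le_of_card_ge (Subgroup.zpowers_le.2 hdZ) ?_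
    rw [D.card_Z, Nat.card_zpowers, orderOf_eq_prime ((D.mem_U _).1 (D.Z_le_U hdZ)) hd1]
  have hmem : (g * u * g⁻¹ * u⁻¹)⁻¹ ∈ Subgroup.zpowers d := hdgen ▸ inv_mem hg
  obtain ⟨k, hk⟩ := (isOfFinOrder_of_finite d).mem_powers_iff_mem_zpowers.2 hmem
  have hconj : ∀ k : ℕ, w ^ k * u * (w ^ k)⁻¹ = d ^ k * u := by
    intro k
    induction k with
    | zero => simp
    | succ k ih =>
      calc w ^ (k + 1) * u * (w ^ (k + 1))⁻¹ = w * (w ^ k * u * (w ^ k)⁻¹) * w⁻¹ := by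
            rw [pow_succ']; group
        _ = (w * d ^ k) * u * w⁻¹ := by rw [ih]; group
        _ = (d ^ k * w) * u * w⁻¹ := by rw [D.Z_cen (pow_mem hdZ k)]
        _ = d ^ k * d * u := by rw [hd]; group
        _ = d ^ (k + 1) * u := by rw [pow_succ]
  refine ⟨w ^ k, pow_mem hw k, ?_⟩
  refine mul_inv_eq_iff_eq_mul.1 ?_
  calc g * w ^ k * u * (g * w ^ k)⁻¹ = g * (w ^ k * u * (w ^ k)⁻¹) * g⁻¹ := by group
    _ = (g * d ^ k) * u * g⁻¹ := by rw [hconj]; group
    _ = (d ^ k * g) * u * g⁻¹ := by rw [D.Z_cen (pow_mem hdZ k)]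
    _ = d ^ k * (g * u * g⁻¹ * u⁻¹) * u := by group
    _ = u := by
      have hk' : d ^ k = (g * u * g⁻¹ * u⁻¹)⁻¹ := hk
      rw [hk', inv_mul_cancel, one_mul]

/-- `p`-th powers centralise `U`. -/
theorem pow_centralizes (g : G) {u : G} (hu : u ∈ D.U) : g ^ p * u = u * g ^ p := by
  set l := u⁻¹ * (g * u * g⁻¹) with hl
  have hlL : l ∈ D.L := by
    have h := Subgroup.Normal.conj_mem' (inferInstance : D.L.Normal) _ (D.U_comm g u hu) u
    simpa [hl, mul_assoc] using h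
  set w := l⁻¹ * (g * l * g⁻¹) with hw
  have hwZ : w ∈ D.Z := by
    have h := Subgroup.Normal.conj_mem' (inferInstance : D.Z.Normal) _ (D.L_comm_mem g hlL) l
    simpa [hw, mul_assoc] using h
  have hlw : l * w = w * l := D.Z_cen hwZ l
  have hgw : g * w * g⁻¹ = w := by rw [D.Z_cen hwZ g, mul_inv_cancel_right]
  have hgl : ∀ k : ℕ, g * l ^ k * g⁻¹ = l ^ k * w ^ k := fun k => by
    rw [← conj_pow, show g * l * g⁻¹ = l * w by rw [hw]; group, (show Commute l w from hlw).mul_pow]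
  have key : ∀ k : ℕ, ∃ t : ℕ, 2 * t + k = k * k ∧
      g ^ k * u * (g ^ k)⁻¹ = u * l ^ k * w ^ t := by
    intro k
    induction k with
    | zero => exact ⟨0, rfl, by simp⟩
    | succ k ih =>
      obtain ⟨t, ht, hk⟩ := ih
      refine ⟨t + k, by nlinarith, ?_⟩
      have hgwt : g * w ^ t * g⁻¹ = w ^ t := by rw [← conj_pow, hgw]
      calc g ^ (k + 1) * u * (g ^ (k + 1))⁻¹ = g * (g ^ k * u * (g ^ k)⁻¹) * g⁻¹ := by
            rw [pow_succ']; group
        _ = (g * u * g⁻¹) * (g * l ^ k * g⁻¹) * (g * w ^ t * g⁻¹) := by rw [hk]; group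
        _ = (u * l) * (l ^ k * w ^ k) * w ^ t := by
          rw [hgl, hgwt, show g * u * g⁻¹ = u * l by rw [hl]; group]
        _ = u * l ^ (k + 1) * w ^ (t + k) := by
          rw [pow_succ' l, add_comm t k, pow_add]
          group
  obtain ⟨t, ht, hkey⟩ := key p
  have h2 : ¬ p ∣ 2 := fun h => by
    have := Nat.le_of_dvd two_pos h
    have := D.p5
    omega
  have hpt : p ∣ t := (hp.out.dvd_mul.1 (show p ∣ 2 * t from
    (Nat.dvd_add_left (dvd_refl p)).1 (ht ▸ dvd_mul_right p p))).resolve_left h2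
  obtain ⟨t', rfl⟩ := hpt
  rw [(D.mem_U l).1 (D.L_le_U hlL), pow_mul, (D.mem_U w).1 (D.Z_le_U hwZ), one_pow, mul_one,
    mul_one] at hkey
  exact mul_inv_eq_iff_eq_mul.1 hkey

/-- An element outside `U` has a power whose `p`-th power generates `Z`. -/
theorem exists_root {H : Subgroup G} (hH : ¬ H ≤ D.U) : ∃ h ∈ H, h ^ p ∈ D.Z ∧ h ^ p ≠ 1 := by
  obtain ⟨g, hgH, hgU⟩ := SetLike.not_le_iff_exists.1 hH
  obtain ⟨n, hn⟩ := IsPGroup.iff_orderOf.1 D.isP g
  have h2 : 2 ≤ n := by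
    by_contra h
    refine hgU ((D.mem_U g).2 (orderOf_dvd_iff_pow_eq_one.1 (hn ▸ ?_)))
    exact (Nat.pow_dvd_pow p (by omega : n ≤ 1)).trans (by rw [pow_one])
  set h := g ^ p ^ (n - 2) with hh
  have h1 : h ^ p = g ^ p ^ (n - 1) := by
    rw [hh, ← pow_mul, ← pow_succ, show n - 2 + 1 = n - 1 by omega]
  have hpp : (h ^ p) ^ p = 1 := by
    rw [h1, ← pow_mul, ← pow_succ, show n - 1 + 1 = n by omega, ← hn, pow_orderOf_eq_one]
  refine ⟨h, pow_mem hgH _, D.U_cen _ ((D.mem_U _).2 hpp) fun v hv =>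
    (D.pow_centralizes h hv).symm, fun hc => ?_⟩
  rw [h1] at hc
  have := orderOf_dvd_of_pow_eq_one hc
  rw [hn, Nat.pow_dvd_pow_iff_le_right hp.out.one_lt] at this
  omega

/-- An element moving a point off `L` trivially modulo `Z` lies in `C(U) U`. -/
theorem exists_centralizing {x : G} (hx : x ∈ D.U) (hxL : x ∉ D.L) {g : G}
    (hg : g * x * g⁻¹ * x⁻¹ ∈ D.Z) : ∃ v ∈ D.U, ∀ u ∈ D.U, (g * v) * u = u * (g * v) := by
  have hxZ : x ∉ D.Z := fun h => hxL (D.Z_le_L h)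
  obtain ⟨v, hv, hvx⟩ := D.adjust hx hxZ hg
  set d := x * D.y * x⁻¹ * D.y⁻¹ with hd
  have hdZ : d ∈ D.Z := D.y_comm x
  have hd1 : d ≠ 1 := fun h => D.not_comm_y hx hxL (mul_inv_eq_iff_eq_mul.1 (mul_inv_eq_one.1 h))
  have hdgen : Subgroup.zpowers d = D.Z := by
    refine Subgroup.eq_of_le_of_card_ge (Subgroup.zpowers_le.2 hdZ) ?_
    rw [D.card_Z, Nat.card_zpowers, orderOf_eq_prime ((D.mem_U _).1 (D.Z_le_U hdZ)) hd1]
  set e := g * v * D.y * (g * v)⁻¹ * D.y⁻¹ with he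
  have hmem : e⁻¹ ∈ Subgroup.zpowers d := hdgen ▸ inv_mem (D.y_comm (g * v))
  obtain ⟨k, hk⟩ := (isOfFinOrder_of_finite d).mem_powers_iff_mem_zpowers.2 hmem
  have hconj : ∀ k : ℕ, x ^ k * D.y * (x ^ k)⁻¹ = d ^ k * D.y := by
    intro k
    induction k with
    | zero => simp
    | succ k ih =>
      calc x ^ (k + 1) * D.y * (x ^ (k + 1))⁻¹ = x * (x ^ k * D.y * (x ^ k)⁻¹) * x⁻¹ := by
            rw [pow_succ']; group
        _ = (x * d ^ k) * D.y * x⁻¹ := by rw [ih]; group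
        _ = (d ^ k * x) * D.y * x⁻¹ := by rw [D.Z_cen (pow_mem hdZ k)]
        _ = d ^ k * d * D.y := by rw [hd]; group
        _ = d ^ (k + 1) * D.y := by rw [pow_succ]
  refine ⟨v * x ^ k, mul_mem hv (pow_mem hx k), ?_⟩
  have hy' : (g * (v * x ^ k)) * D.y = D.y * (g * (v * x ^ k)) := by
    refine mul_inv_eq_iff_eq_mul.1 ?_
    calc g * (v * x ^ k) * D.y * (g * (v * x ^ k))⁻¹
        = (g * v) * (x ^ k * D.y * (x ^ k)⁻¹) * (g * v)⁻¹ := by group
      _ = ((g * v) * d ^ k) * D.y * (g * v)⁻¹ := by rw [hconj]; group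
      _ = (d ^ k * (g * v)) * D.y * (g * v)⁻¹ := by rw [D.Z_cen (pow_mem hdZ k)]
      _ = d ^ k * e * D.y := by rw [he]; group
      _ = D.y := by
        rw [show d ^ k = e⁻¹ from hk, inv_mul_cancel, one_mul]
  have hx' : Commute (g * (v * x ^ k)) x := by
    rw [← mul_assoc]
    exact (show Commute (g * v) x from hvx).mul_left ((Commute.refl x).pow_left k)
  intro u hu
  obtain ⟨i, l, hl, rfl⟩ := D.mem_decomp hx hxL hu
  have hl' : Commute (g * (v * x ^ k)) l := by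
    have hle : D.L ≤ Subgroup.centralizer {g * (v * x ^ k)} := sup_le
      (Subgroup.zpowers_le.2 (Subgroup.mem_centralizer_singleton_iff.2 (D.z_cen _).symm))
      (Subgroup.zpowers_le.2 (Subgroup.mem_centralizer_singleton_iff.2 hy'.symm))
    exact (Subgroup.mem_centralizer_singleton_iff.1 (hle hl)).symm
  exact ((hx'.pow_right i).mul_right hl').eq

/-- If some element moves `x` off `xZ`, the elements of `U` moved inside their `Z`-coset are
exactly those of `L`. -/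
theorem mem_L_iff (hbr : ∃ g : G, ∃ x ∈ D.U, g * x * g⁻¹ * x⁻¹ ∉ D.Z) {u : G} (hu : u ∈ D.U) :
    (∀ g : G, g * u * g⁻¹ * u⁻¹ ∈ D.Z) ↔ u ∈ D.L := by
  refine ⟨fun h => ?_, fun h g => D.L_comm_mem g h⟩
  by_contra huL
  obtain ⟨g, x, hx, hgx⟩ := hbr
  obtain ⟨i, l, hl, rfl⟩ := D.mem_decomp hu huL hx
  refine hgx ((QuotientGroup.eq_one_iff _).1 (show QuotientGroup.mk' D.Z _ = 1 from ?_))
  have hcu : Commute (QuotientGroup.mk' D.Z g) (QuotientGroup.mk' D.Z u) := by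
    refine mul_inv_eq_iff_eq_mul.1 (mul_inv_eq_one.1 ?_)
    rw [← map_inv, ← map_mul, ← map_mul, ← map_inv, ← map_mul]
    exact (QuotientGroup.eq_one_iff _).2 (h g)
  have hcl : Commute (QuotientGroup.mk' D.Z g) (QuotientGroup.mk' D.Z l) := by
    refine mul_inv_eq_iff_eq_mul.1 (mul_inv_eq_one.1 ?_)
    rw [← map_inv, ← map_mul, ← map_mul, ← map_inv, ← map_mul]
    exact (QuotientGroup.eq_one_iff _).2 (D.L_comm_mem g hl)
  have hc := (hcu.pow_right i).mul_right hcl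
  rw [← map_pow, ← map_mul] at hc
  rw [map_mul, map_mul, map_mul, map_inv, map_inv, hc.eq, mul_inv_cancel_right, mul_inv_cancel]

end Data

/-- A unit of `ℤ/pⁿ` congruent to `1` mod `p` with `p`-th power `1` is `1` mod `p^{n-1}`. -/
theorem dvd_of_pow_prime {p : ℕ} (hodd : Odd p) (hp : p.Prime) {N d : ℤ}
    (hd : (p : ℤ) ∣ d) (h : N ∣ (1 + d) ^ p - 1) (hN : ∃ n : ℕ, N = (p : ℤ) ^ n) :
    N ∣ (p : ℤ) * d := by
  obtain ⟨b, rfl⟩ := hd
  have h1 := geom_sum₂_mul (1 + (p : ℤ) * b) 1 p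
  rw [one_pow, add_sub_cancel_left] at h1
  obtain ⟨w, hw⟩ := odd_sq_dvd_geom_sum₂_sub (a := (1 : ℤ)) (b := b) hodd
  rw [one_pow, mul_one] at hw
  set σ := ∑ i ∈ Finset.range p, (1 + (p : ℤ) * b) ^ i * 1 ^ (p - 1 - i) with hσ
  have hS : σ = (p : ℤ) * (1 + p * w) := by linear_combination hw
  rw [← h1, hS] at h
  obtain ⟨n, rfl⟩ := hN
  have hcop : IsCoprime ((p : ℤ) ^ n) (1 + (p : ℤ) * w) :=
    IsCoprime.pow_left (IsCoprime.add_mul_left_right isCoprime_one_right w)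
  rw [show (p : ℤ) * (1 + p * w) * ((p : ℤ) * b) = (p : ℤ) * (p * b) * (1 + p * w) by ring] at h
  exact hcop.dvd_of_dvd_mul_right h

namespace Data

variable [Finite G] [hp : Fact p.Prime] (D : Data p G)

/-- The centraliser of `U`. -/
def C : Subgroup G := Subgroup.centralizer (D.U : Set G)

instance cNormal : D.C.Normal := ⟨fun c hc g => Subgroup.mem_centralizer_iff.2 fun u hu => by
  have h := Subgroup.mem_centralizer_iff.1 hc _ (D.conj_mem_U hu g⁻¹)
  rw [inv_inv] at h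
  calc u * (g * c * g⁻¹) = g * ((g⁻¹ * u * g) * c) * g⁻¹ := by group
    _ = g * (c * (g⁻¹ * u * g)) * g⁻¹ := by rw [h]
    _ = g * c * g⁻¹ * u := by group⟩

theorem C_cyclic : IsCyclic D.C := by
  have hsmall : ∀ c ∈ D.C, c ^ p = 1 → c ∈ D.Z := fun c hc hcp =>
    D.U_cen c ((D.mem_U c).2 hcp) fun v hv => (Subgroup.mem_centralizer_iff.1 hc v hv)
  rcases H2.cyclic_or_quaternion_of_unique (p := p) (D.isP.to_subgroup D.C) (fun H K hH hK => by
    have key : ∀ H : Subgroup D.C, Nat.card H = p → H.map D.C.subtype = D.Z := by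
      intro H hH
      have hc : Nat.card (H.map D.C.subtype) = p :=
        (Subgroup.card_map_of_injective D.C.subtype_injective).trans hH
      refine Subgroup.eq_of_le_of_card_ge ?_ (by rw [hc, D.card_Z])
      rintro _ ⟨c, hcH, rfl⟩
      refine hsmall _ c.2 ?_
      have h1 : (⟨c, hcH⟩ : H) ^ p = 1 := by
        have h2 := pow_card_eq_one' (x := (⟨c, hcH⟩ : H))
        rwa [hH] at h2
      exact congrArg (fun t : H => ((t : D.C) : G)) h1
    exact Subgroup.map_injective D.C.subtype_injective ((key H hH).trans (key K hK).symm)) with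
    h | ⟨h2, -⟩
  · exact h
  · have := D.p5
    omega

theorem Z_le_C : D.Z ≤ D.C := fun w hw => Subgroup.mem_centralizer_iff.2 fun u _ => D.Z_cen hw u

/-- Commutators with `C(U)` lie in `Z`. -/
theorem comm_C (g : G) {c : G} (hc : c ∈ D.C) : g * c * g⁻¹ * c⁻¹ ∈ D.Z := by
  obtain ⟨⟨c₀, hc₀C⟩, hgen⟩ := D.C_cyclic.exists_generator
  have hgenG : ∀ a ∈ D.C, a ∈ Subgroup.zpowers c₀ := fun a ha => by
    obtain ⟨i, hi⟩ := Subgroup.mem_zpowers_iff.1 (hgen ⟨a, ha⟩)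
    exact ⟨i, by simpa using congrArg Subtype.val hi⟩
  obtain ⟨k, hk⟩ := Subgroup.mem_zpowers_iff.1
    (hgenG _ ((inferInstance : D.C.Normal).conj_mem c₀ hc₀C g))
  obtain ⟨n, hn⟩ := IsPGroup.iff_orderOf.1 D.isP c₀
  have hodd : Odd p := hp.out.odd_of_ne_two (by have := D.p5; omega)
  have hiter : ∀ j : ℕ, g ^ j * c₀ * (g ^ j)⁻¹ = c₀ ^ (k ^ j) := by
    intro j
    induction j with
    | zero => simp
    | succ j ih =>
      calc g ^ (j + 1) * c₀ * (g ^ (j + 1))⁻¹ = g * (g ^ j * c₀ * (g ^ j)⁻¹) * g⁻¹ := by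
            rw [pow_succ']; group
        _ = (g * c₀ * g⁻¹) ^ (k ^ j) := by rw [ih, conj_zpow]
        _ = c₀ ^ (k ^ (j + 1)) := by rw [← hk, ← zpow_mul, pow_succ']
  have hpow : c₀ ^ (k ^ p) = c₀ := by
    have hgp : g ^ p ∈ D.C := Subgroup.mem_centralizer_iff.2 fun u hu =>
      (D.pow_centralizes g hu).symm
    obtain ⟨i, hi⟩ := Subgroup.mem_zpowers_iff.1 (hgenG _ hgp)
    rw [← hiter p, ← hi, ← ((Commute.refl c₀).zpow_right i).eq, mul_inv_cancel_right]
  have hdvd : (orderOf c₀ : ℤ) ∣ k ^ p - 1 := by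
    rw [orderOf_dvd_iff_zpow_eq_one, zpow_sub, hpow, zpow_one, mul_inv_cancel]
  have hkey : (orderOf c₀ : ℤ) ∣ (p : ℤ) * (k - 1) := by
    rcases Nat.eq_zero_or_pos n with rfl | hpos
    · rw [hn]; simp
    refine dvd_of_pow_prime hodd hp.out (d := k - 1) ?_ (by rwa [add_sub_cancel])
      ⟨n, by rw [hn]; push_cast; rfl⟩
    have h1 : ((k ^ p - 1 : ℤ) : ZMod p) = 0 := by
      rw [ZMod.intCast_zmod_eq_zero_iff_dvd]
      refine dvd_trans ?_ hdvd
      rw [hn]
      exact_mod_cast dvd_pow_self p hpos.ne'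
    rw [Int.cast_sub, Int.cast_pow, ZMod.pow_card, Int.cast_one] at h1
    exact (ZMod.intCast_zmod_eq_zero_iff_dvd (k - 1) p).1 (by push_cast; exact h1)
  obtain ⟨i, rfl⟩ := Subgroup.mem_zpowers_iff.1 (hgenG c hc)
  have h1 : g * c₀ ^ i * g⁻¹ * (c₀ ^ i)⁻¹ = c₀ ^ ((k - 1) * i) := by
    rw [← conj_zpow, ← hk, ← zpow_mul, ← zpow_neg, ← zpow_add]
    congr 1
    ring
  rw [h1]
  refine D.U_cen _ ((D.mem_U _).2 ?_) fun v hv =>
    Subgroup.mem_centralizer_iff.1 (zpow_mem hc₀C _) v hv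
  rw [← zpow_natCast, ← zpow_mul, ← orderOf_dvd_iff_zpow_eq_one]
  calc (orderOf c₀ : ℤ) ∣ (p : ℤ) * (k - 1) := hkey
    _ ∣ (p : ℤ) * (k - 1) * i := dvd_mul_right _ _
    _ = (k - 1) * i * (p : ℤ) := by ring

/-- Every element is `g₀^i c v` when `g₀` moves a point off `L` nontrivially modulo `Z`. -/
theorem exists_decomp {x g₀ : G} (hx : x ∈ D.U) (hxL : x ∉ D.L)
    (hg₀ : g₀ * x * g₀⁻¹ * x⁻¹ ∉ D.Z) (g : G) :
    ∃ i : ℕ, ∃ c ∈ D.C, ∃ v ∈ D.U, g = g₀ ^ i * c * v := by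
  set e := g₀ * x * g₀⁻¹ * x⁻¹ with he
  have heL : e ∈ D.L := D.U_comm g₀ x hx
  have hgenL : Subgroup.zpowers e ⊔ D.Z = D.L := by
    refine Subgroup.eq_of_le_of_card_ge (sup_le (Subgroup.zpowers_le.2 heL) D.Z_le_L) ?_
    rw [D.card_L]
    have hle : Subgroup.zpowers e ⊔ D.Z ≤ D.L := sup_le (Subgroup.zpowers_le.2 heL) D.Z_le_L
    obtain ⟨i, hi, hie⟩ := (Nat.dvd_prime_pow hp.out).1 (D.card_L ▸ Subgroup.card_dvd_of_le hle)
    rw [hie]
    refine Nat.pow_le_pow_right hp.out.pos ?_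
    by_contra h
    refine hg₀ ?_
    rw [Subgroup.eq_of_le_of_card_ge (le_sup_right : D.Z ≤ Subgroup.zpowers e ⊔ D.Z) (by
      rw [D.card_Z, hie]
      calc p ^ i ≤ p ^ 1 := Nat.pow_le_pow_right hp.out.pos (by omega)
        _ = p := pow_one p)]
    exact Subgroup.mem_sup_left (Subgroup.mem_zpowers e)
  have hge : g * x * g⁻¹ * x⁻¹ ∈ Subgroup.zpowers e ⊔ D.Z := by
    rw [hgenL]; exact D.U_comm g x hx
  obtain ⟨a, ha, w, hw, haw⟩ := Subgroup.mem_sup_of_normal_right.1 hge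
  obtain ⟨i, hi⟩ := (isOfFinOrder_of_finite e).mem_powers_iff_mem_zpowers.2 ha
  set π := QuotientGroup.mk' D.Z with hπ
  have hecen : ∀ h : G, Commute (π h) (π e) := fun h => by
    refine mul_inv_eq_iff_eq_mul.1 (mul_inv_eq_one.1 ?_)
    rw [← map_inv, ← map_mul, ← map_mul, ← map_inv, ← map_mul]
    exact (QuotientGroup.eq_one_iff _).2 (D.L_comm_mem h heL)
  have hg0i : ∀ j : ℕ, π g₀ ^ j * π x * (π g₀ ^ j)⁻¹ = π e ^ j * π x := by
    intro j
    induction j with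
    | zero => simp
    | succ j ih =>
      calc π g₀ ^ (j + 1) * π x * (π g₀ ^ (j + 1))⁻¹
          = π g₀ * (π g₀ ^ j * π x * (π g₀ ^ j)⁻¹) * (π g₀)⁻¹ := by rw [pow_succ']; group
        _ = (π g₀ * π e ^ j) * π x * (π g₀)⁻¹ := by rw [ih]; group
        _ = π e ^ j * (π g₀ * π x * (π g₀)⁻¹) := by rw [((hecen g₀).pow_right j).eq]; group
        _ = π e ^ (j + 1) * π x := by
          rw [show π g₀ * π x * (π g₀)⁻¹ = π e * π x by
            simp only [he, map_mul, map_inv]; group, ← mul_assoc, ← pow_succ]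
  have hgx : π g * π x * (π g)⁻¹ = π e ^ i * π x := by
    have h1 : π (g * x * g⁻¹ * x⁻¹) = π e ^ i := by
      rw [← haw, map_mul, show π w = 1 from (QuotientGroup.eq_one_iff _).2 hw, mul_one, ← map_pow]
      exact congrArg π hi.symm
    rw [← h1]
    simp only [map_mul, map_inv]
    group
  have ht : ((g₀ ^ i)⁻¹ * g) * x * ((g₀ ^ i)⁻¹ * g)⁻¹ * x⁻¹ ∈ D.Z := by
    refine (QuotientGroup.eq_one_iff _).1 (show π _ = 1 from ?_)
    simp only [map_mul, map_inv, map_pow]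
    rw [mul_inv_eq_one, mul_inv_rev, inv_inv]
    calc (π g₀ ^ i)⁻¹ * π g * π x * ((π g)⁻¹ * π g₀ ^ i)
        = (π g₀ ^ i)⁻¹ * (π g * π x * (π g)⁻¹) * π g₀ ^ i := by group
      _ = (π g₀ ^ i)⁻¹ * (π g₀ ^ i * π x * (π g₀ ^ i)⁻¹) * π g₀ ^ i := by rw [hgx, hg0i]
      _ = π x := by group
  obtain ⟨v, hv, hvc⟩ := D.exists_centralizing hx hxL ht
  exact ⟨i, (g₀ ^ i)⁻¹ * g * v, Subgroup.mem_centralizer_iff.2 fun u hu => (hvc u hu).symm, v⁻¹,
    inv_mem hv, by group⟩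

/-- The `p`-th power map is a homomorphism. -/
theorem pow_hom {x g₀ : G} (hx : x ∈ D.U) (hxL : x ∉ D.L)
    (hg₀ : g₀ * x * g₀⁻¹ * x⁻¹ ∉ D.Z) (a b : G) : (a * b) ^ p = a ^ p * b ^ p := by
  have hder : commutator G ≤ D.L := by
    rw [commutator_def, Subgroup.commutator_le]
    intro a _ b _
    refine (QuotientGroup.eq_one_iff _).1 (show QuotientGroup.mk' D.L ⁅a, b⁆ = 1 from ?_)
    rw [map_commutatorElement, commutatorElement_eq_one_iff_mul_comm]
    set π := QuotientGroup.mk' D.L with hπ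
    have hUc : ∀ (h : G) (v : G), v ∈ D.U → Commute (π h) (π v) := fun h v hv => by
      refine mul_inv_eq_iff_eq_mul.1 (mul_inv_eq_one.1 ?_)
      rw [← map_inv, ← map_mul, ← map_mul, ← map_inv, ← map_mul]
      exact (QuotientGroup.eq_one_iff _).2 (D.U_comm h v hv)
    have hCc : ∀ (h : G) (c : G), c ∈ D.C → Commute (π h) (π c) := fun h c hc => by
      refine mul_inv_eq_iff_eq_mul.1 (mul_inv_eq_one.1 ?_)
      rw [← map_inv, ← map_mul, ← map_mul, ← map_inv, ← map_mul]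
      exact (QuotientGroup.eq_one_iff _).2 (D.Z_le_L (D.comm_C h hc))
    obtain ⟨i, c, hc, v, hv, rfl⟩ := D.exists_decomp hx hxL hg₀ a
    obtain ⟨j, c', hc', v', hv', rfl⟩ := D.exists_decomp hx hxL hg₀ b
    simp only [map_mul, map_pow]
    refine (Commute.mul_left (Commute.mul_left ?_ ?_) ?_).eq
    · exact ((Commute.pow_pow_self (π g₀) i j).mul_right ((hCc g₀ c' hc').pow_left i)).mul_right
        ((hUc g₀ v' hv').pow_left i)
    · refine ((Commute.pow_right ?_ j).mul_right (hCc c c' hc')).mul_right (hUc c v' hv')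
      exact (hCc g₀ c hc).symm
    · refine ((Commute.pow_right ?_ j).mul_right (hCc v c' hc')).mul_right (hUc v v' hv')
      exact (hUc g₀ v hv).symm
  refine H6.power_hom_small_class hp.out (Or.inr ⟨by have := D.p5; omega, ?_⟩) ?_ a b
  · rw [Subgroup.commutator_top_right_eq_bot_iff_le_center]
    refine le_trans (?_ : ⁅commutator G, ⊤⁆ ≤ D.Z) fun w hw =>
      Subgroup.mem_center_iff.2 fun g => D.Z_cen hw g
    rw [Subgroup.commutator_le]
    intro l hl g _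
    have h := inv_mem (D.L_comm_mem g (hder hl))
    simpa [commutatorElement_def, mul_assoc] using h
  · exact fun w hw => Subgroup.subset_closure ((D.mem_U w).1 (D.L_le_U (hder hw)))

theorem conj_pow_pow {x y w : G} (h : x * y * x⁻¹ * y⁻¹ = w) (hxw : x * w = w * x)
    (hyw : y * w = w * y) (a b : ℕ) :
    x ^ a * y ^ b * (x ^ a)⁻¹ * (y ^ b)⁻¹ = w ^ (a * b) := by
  have h1 : ∀ a : ℕ, x ^ a * y * (x ^ a)⁻¹ = w ^ a * y := by
    intro a
    induction a with
    | zero => simp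
    | succ a ih =>
      calc x ^ (a + 1) * y * (x ^ (a + 1))⁻¹ = x * (x ^ a * y * (x ^ a)⁻¹) * x⁻¹ := by
            rw [pow_succ']; group
        _ = (x * w ^ a) * y * x⁻¹ := by rw [ih]; group
        _ = w ^ a * (x * y * x⁻¹) := by rw [((show Commute x w from hxw).pow_right a).eq]; group
        _ = w ^ a * (w * y) := by rw [← h]; group
        _ = w ^ (a + 1) * y := by rw [← mul_assoc, ← pow_succ]
  rw [← conj_pow, h1, ((show Commute y w from hyw).symm.pow_left a).mul_pow, ← pow_mul,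
    mul_inv_cancel_right]

/-- Automorphisms act with exponent `±1` on a point of `U` moved off its `Z`-coset. -/
theorem aut_sq (θ : MulAut G) {x g₀ : G} (hx : x ∈ D.U) (hxL : x ∉ D.L)
    (hg₀ : g₀ * x * g₀⁻¹ * x⁻¹ ∉ D.Z) {a : ℕ} (ha : (x ^ a)⁻¹ * θ x ∈ D.L) :
    (a : ZMod p) ^ 2 = 1 := by
  have hθU : ∀ u ∈ D.U, θ u ∈ D.U := fun u hu => by
    rw [D.mem_U, ← map_pow, (D.mem_U u).1 hu, map_one]
  have hθU' : ∀ u ∈ D.U, θ.symm u ∈ D.U := fun u hu => by
    rw [D.mem_U, ← map_pow, (D.mem_U u).1 hu, map_one]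
  have hθZ : ∀ w ∈ D.Z, θ w ∈ D.Z := fun w hw => D.U_cen _ (hθU w (D.Z_le_U hw)) fun v _ => by
    conv_lhs => rw [← θ.apply_symm_apply v, ← map_mul, D.Z_cen hw, map_mul, θ.apply_symm_apply]
  obtain ⟨m, hm⟩ := D.exists_z_pow (hθZ _ (Subgroup.mem_zpowers _))
  have hθy : θ D.y ∈ D.L := (D.mem_L_iff ⟨g₀, x, hx, hg₀⟩ (hθU _ D.y_mem)).1 fun g => by
    obtain ⟨g', rfl⟩ := θ.surjective g
    rw [← map_mul, ← map_inv, ← map_mul, ← map_inv, ← map_mul]
    exact hθZ _ (D.y_comm _)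
  obtain ⟨w', hw', y', hy', hwy⟩ := Subgroup.mem_sup_of_normal_left.1
    (show θ D.y ∈ D.Z ⊔ Subgroup.zpowers D.y from hθy)
  obtain ⟨b, hb⟩ := (isOfFinOrder_of_finite D.y).mem_powers_iff_mem_zpowers.2 hy'
  have hb' : D.y ^ b = y' := hb
  subst hb'
  -- the commutator of `x` and `y`
  obtain ⟨e, he⟩ := D.exists_z_pow (D.y_comm x)
  have he0 : (e : ZMod p) ≠ 0 := by
    intro h
    refine D.not_comm_y hx hxL (mul_inv_eq_iff_eq_mul.1 (mul_inv_eq_one.1 ?_))
    obtain ⟨e', rfl⟩ := (ZMod.natCast_eq_zero_iff e p).1 h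
    rw [← he, pow_mul, (D.mem_U _).1 D.z_mem, one_pow]
  set l := (x ^ a)⁻¹ * θ x with hl
  have hθx : θ x = x ^ a * l := by rw [hl, mul_inv_cancel_left]
  have hmab : (m : ZMod p) = (a : ZMod p) * b := by
    have h1 : θ (x * D.y * x⁻¹ * D.y⁻¹) = D.z ^ (m * e) := by
      rw [← he, map_pow, ← hm, pow_mul]
    have h2 : θ (x * D.y * x⁻¹ * D.y⁻¹) = D.z ^ (e * (a * b)) := by
      rw [map_mul, map_mul, map_mul, map_inv, map_inv, hθx, ← hwy]
      have hly : l * (w' * D.y ^ b) = (w' * D.y ^ b) * l :=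
        D.L_comm ha (mul_mem (D.Z_le_L hw') (pow_mem D.y_mem_L b))
      calc x ^ a * l * (w' * D.y ^ b) * (x ^ a * l)⁻¹ * (w' * D.y ^ b)⁻¹
          = x ^ a * (l * (w' * D.y ^ b)) * l⁻¹ * (x ^ a)⁻¹ * (w' * D.y ^ b)⁻¹ := by group
        _ = x ^ a * ((w' * D.y ^ b) * l) * l⁻¹ * (x ^ a)⁻¹ * (w' * D.y ^ b)⁻¹ := by rw [hly]
        _ = (x ^ a * w') * D.y ^ b * (x ^ a)⁻¹ * (D.y ^ b)⁻¹ * w'⁻¹ := by group
        _ = w' * (x ^ a * D.y ^ b * (x ^ a)⁻¹ * (D.y ^ b)⁻¹) * w'⁻¹ := by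
          rw [D.Z_cen hw' (x ^ a)]; group
        _ = D.z ^ (e * (a * b)) := by
          rw [conj_pow_pow he.symm ((show Commute x D.z from D.z_cen x).pow_right e).eq
            ((show Commute D.y D.z from D.z_cen _).pow_right e).eq, ← pow_mul,
            D.Z_cen (pow_mem (Subgroup.mem_zpowers D.z) _) w', mul_inv_cancel_right]
    have h3 := D.z_pow_eq (h1.symm.trans h2)
    push_cast at h3
    exact mul_right_cancel₀ he0 (h3.trans (by ring))
  have hb0 : (b : ZMod p) ≠ 0 := by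
    intro h
    obtain ⟨b', rfl⟩ := (ZMod.natCast_eq_zero_iff b p).1 h
    rw [pow_mul, (D.mem_U _).1 D.y_mem, one_pow, mul_one] at hwy
    refine D.y_out (D.U_cen _ D.y_mem fun v hv => θ.injective ?_)
    rw [map_mul, map_mul, ← hwy, D.Z_cen hw']
  -- the image of `g₀`
  obtain ⟨μ, c', hc', v', hv', hμ⟩ := D.exists_decomp hx hxL hg₀ (θ g₀)
  have hbμ : (b : ZMod p) = (μ : ZMod p) * a := by
    set π := QuotientGroup.mk' D.Z with hπ
    obtain ⟨w, hw, y₁, hy₁, hwy₁⟩ := Subgroup.mem_sup_of_normal_left.1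
      (show g₀ * x * g₀⁻¹ * x⁻¹ ∈ D.Z ⊔ Subgroup.zpowers D.y from D.U_comm g₀ x hx)
    obtain ⟨α, hα⟩ := (isOfFinOrder_of_finite D.y).mem_powers_iff_mem_zpowers.2 hy₁
    have hα' : D.y ^ α = y₁ := hα
    subst hα'
    have hπw : π w = 1 := (QuotientGroup.eq_one_iff _).2 hw
    have hycen : ∀ h : G, Commute (π h) (π D.y) := fun h => by
      refine mul_inv_eq_iff_eq_mul.1 (mul_inv_eq_one.1 ?_)
      rw [← map_inv, ← map_mul, ← map_mul, ← map_inv, ← map_mul]
      exact (QuotientGroup.eq_one_iff _).2 (D.y_comm h)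
    have hcx : ∀ h ∈ D.C, Commute (π h) (π x) := fun h hh =>
      ((show Commute h x from (Subgroup.mem_centralizer_iff.1 hh x hx).symm).map π)
    have hUU : ∀ u ∈ D.U, ∀ v ∈ D.U, Commute (π u) (π v) := fun u hu v hv => by
      refine mul_inv_eq_iff_eq_mul.1 (mul_inv_eq_one.1 ?_)
      rw [← map_inv, ← map_mul, ← map_mul, ← map_inv, ← map_mul]
      exact (QuotientGroup.eq_one_iff _).2 (D.U_der u hu v hv)
    have hLc : ∀ h : G, ∀ l' ∈ D.L, Commute (π h) (π l') := fun h l' hl' => by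
      refine mul_inv_eq_iff_eq_mul.1 (mul_inv_eq_one.1 ?_)
      rw [← map_inv, ← map_mul, ← map_mul, ← map_inv, ← map_mul]
      exact (QuotientGroup.eq_one_iff _).2 (D.L_comm_mem h hl')
    have hA : π g₀ * π x * (π g₀)⁻¹ * (π x)⁻¹ = π D.y ^ α := by
      have h1 := congrArg π hwy₁
      simp only [map_mul, map_inv, map_pow, hπw, one_mul] at h1
      exact h1.symm
    have hL : π (θ (g₀ * x * g₀⁻¹ * x⁻¹)) = π D.y ^ (b * α) := by
      rw [← hwy₁, map_mul θ, map_mul π, map_pow θ, ← hwy,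
        show π (θ w) = 1 from (QuotientGroup.eq_one_iff _).2 (hθZ w hw), one_mul, map_pow,
        map_mul, show π w' = 1 from (QuotientGroup.eq_one_iff _).2 hw', one_mul, map_pow, ← pow_mul]
    have hR : π (θ (g₀ * x * g₀⁻¹ * x⁻¹)) = π D.y ^ (α * (μ * a)) := by
      simp only [map_mul, map_inv, hμ, hθx, map_pow]
      have e1 : Commute (π c' * π v') (π x ^ a * π l) :=
        (((hcx c' hc').mul_left (hUU v' hv' x hx)).pow_right a).mul_right
          ((hLc c' l ha).mul_left (hLc v' l ha))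
      calc π g₀ ^ μ * π c' * π v' * (π x ^ a * π l) * (π g₀ ^ μ * π c' * π v')⁻¹ *
            (π x ^ a * π l)⁻¹
          = π g₀ ^ μ * ((π c' * π v') * (π x ^ a * π l)) * (π c' * π v')⁻¹ * (π g₀ ^ μ)⁻¹ *
            (π x ^ a * π l)⁻¹ := by group
        _ = π g₀ ^ μ * ((π x ^ a * π l) * (π c' * π v')) * (π c' * π v')⁻¹ * (π g₀ ^ μ)⁻¹ *
            (π x ^ a * π l)⁻¹ := by rw [e1.eq]
        _ = π g₀ ^ μ * π x ^ a * (π l * (π g₀ ^ μ)⁻¹) * (π l)⁻¹ * (π x ^ a)⁻¹ := by group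
        _ = π g₀ ^ μ * π x ^ a * ((π g₀ ^ μ)⁻¹ * π l) * (π l)⁻¹ * (π x ^ a)⁻¹ := by
          rw [((hLc g₀ l ha).pow_left μ).inv_left.eq]
        _ = π g₀ ^ μ * π x ^ a * (π g₀ ^ μ)⁻¹ * (π x ^ a)⁻¹ := by group
        _ = π D.y ^ (α * (μ * a)) := by
          rw [conj_pow_pow hA ((hycen g₀).pow_right α).eq ((hycen x).pow_right α).eq, ← pow_mul]
    have hy1 : π D.y ≠ 1 := fun h => D.y_out (show D.y ∈ D.Z from (QuotientGroup.eq_one_iff _).1 h)
    have hord : orderOf (π D.y) = p := orderOf_eq_prime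
      (by rw [← map_pow, (D.mem_U _).1 D.y_mem, map_one]) hy1
    have h3 : b * α ≡ α * (μ * a) [MOD p] := by
      have := hL.symm.trans hR
      rwa [pow_eq_pow_iff_modEq, hord] at this
    have hα0 : (α : ZMod p) ≠ 0 := by
      intro h
      refine hg₀ ((QuotientGroup.eq_one_iff _).1 (show π _ = 1 from ?_))
      obtain ⟨α', rfl⟩ := (ZMod.natCast_eq_zero_iff α p).1 h
      rw [← hwy₁, map_mul, hπw, pow_mul, (D.mem_U _).1 D.y_mem, one_pow, map_one, mul_one]
    have h4 := (ZMod.natCast_eq_natCast_iff _ _ p).2 h3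
    push_cast at h4
    exact mul_right_cancel₀ hα0 (h4.trans (by ring))
  -- powers
  have hmμ : (m : ZMod p) = μ := by
    obtain ⟨⟨c₀, hc₀C⟩, hgen⟩ := D.C_cyclic.exists_generator
    have hgenG : ∀ q ∈ D.C, ∃ i : ℤ, c₀ ^ i = q := fun q hq => by
      obtain ⟨i, hi⟩ := Subgroup.mem_zpowers_iff.1 (hgen ⟨q, hq⟩)
      exact ⟨i, by simpa using congrArg Subtype.val hi⟩
    have hθC : ∀ q ∈ D.C, θ q ∈ D.C := fun q hq => Subgroup.mem_centralizer_iff.2 fun u hu => by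
      have h := congrArg θ (Subgroup.mem_centralizer_iff.1 hq _ (hθU' u hu))
      rwa [map_mul, map_mul, θ.apply_symm_apply] at h
    obtain ⟨k, hk⟩ := hgenG _ (hθC c₀ hc₀C)
    obtain ⟨j, hj⟩ := hgenG _ (show g₀ ^ p ∈ D.C from Subgroup.mem_centralizer_iff.2 fun u hu =>
      (D.pow_centralizes g₀ hu).symm)
    obtain ⟨i, hi⟩ := hgenG _ hc'
    obtain ⟨s, hs⟩ := hgenG _ (D.Z_le_C (Subgroup.mem_zpowers D.z))
    have hpd : (p : ℤ) ∣ (orderOf c₀ : ℤ) := by
      have h1 : orderOf D.z ∣ orderOf c₀ := by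
        refine orderOf_dvd_iff_pow_eq_one.2 ?_
        rw [← hs, ← zpow_natCast, ← zpow_mul, mul_comm, zpow_mul, zpow_natCast,
          pow_orderOf_eq_one, one_zpow]
      rw [D.z_order] at h1
      exact_mod_cast h1
    have hkm : (k : ZMod p) = m := by
      have h1 : D.z ^ (m : ℤ) = D.z ^ k := by
        rw [zpow_natCast, hm, ← hs, map_zpow, ← hk, ← zpow_mul, ← zpow_mul, mul_comm]
      rw [zpow_eq_zpow_iff_modEq, D.z_order] at h1
      have := (ZMod.intCast_eq_intCast_iff _ _ p).2 h1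
      simpa using this.symm
    have hexp : c₀ ^ (k * j) = c₀ ^ (j * μ + p * i) := by
      have h1 : θ (g₀ ^ p) = (θ g₀) ^ p := map_pow θ g₀ p
      rw [← hj, map_zpow, ← hk, ← zpow_mul, hμ, D.pow_hom hx hxL hg₀, D.pow_hom hx hxL hg₀,
        (D.mem_U v').1 hv', mul_one, ← pow_mul, mul_comm μ p, pow_mul, ← hj, ← hi] at h1
      rw [h1, ← zpow_natCast (c₀ ^ j), ← zpow_natCast (c₀ ^ i), ← zpow_mul, ← zpow_mul,
        ← zpow_add]
      congr 1
      ring
    rw [zpow_eq_zpow_iff_modEq] at hexp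
    have h2 : ((k * j : ℤ) : ZMod p) = ((j * μ + p * i : ℤ) : ZMod p) :=
      (ZMod.intCast_eq_intCast_iff _ _ p).2 (Int.ModEq.of_dvd hpd hexp)
    push_cast at h2
    rw [ZMod.natCast_self, zero_mul, add_zero, hkm] at h2
    have hj0 : (j : ZMod p) ≠ 0 := by
      intro h
      obtain ⟨j', rfl⟩ := (ZMod.intCast_zmod_eq_zero_iff_dvd j p).1 h
      have h3 : (g₀ * (c₀ ^ j')⁻¹) ^ p = 1 := by
        rw [D.pow_hom hx hxL hg₀, inv_pow, ← zpow_natCast (c₀ ^ j') p, ← zpow_mul, mul_comm j',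
          hj, mul_inv_cancel]
      have h4 := (D.mem_U _).2 h3
      refine hg₀ ((QuotientGroup.eq_one_iff _).1 (show QuotientGroup.mk' D.Z _ = 1 from ?_))
      have h5 : Commute (QuotientGroup.mk' D.Z g₀) (QuotientGroup.mk' D.Z x) := by
        have e : g₀ = g₀ * (c₀ ^ j')⁻¹ * c₀ ^ j' := by rw [inv_mul_cancel_right]
        rw [e, map_mul]
        refine Commute.mul_left ?_ ((show Commute (c₀ ^ j') x from
          (Subgroup.mem_centralizer_iff.1 (zpow_mem hc₀C _) x hx).symm).map _)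
        refine mul_inv_eq_iff_eq_mul.1 (mul_inv_eq_one.1 ?_)
        rw [← map_inv, ← map_mul, ← map_mul, ← map_inv, ← map_mul]
        exact (QuotientGroup.eq_one_iff _).2 (D.U_der _ h4 x hx)
      rw [map_mul, map_mul, map_mul, map_inv, map_inv, h5.eq, mul_inv_cancel_right, mul_inv_cancel]
    exact mul_right_cancel₀ hj0 (h2.trans (mul_comm _ _))
  refine mul_right_cancel₀ hb0 ?_
  calc (a : ZMod p) ^ 2 * b = (a : ZMod p) * b * a := by ring
    _ = (μ : ZMod p) * a := by rw [← hmab, hmμ]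
    _ = 1 * (b : ZMod p) := by rw [← hbμ, one_mul]

end Data

/-- The data exist in a rank-two group with extraspecial `Ω₁`. -/
theorem exists_data [Finite G] [hp : Fact p.Prime] (hp5 : 5 ≤ p) (hG : IsPGroup p G)
    (hmul : ∀ x y : G, x ^ p = 1 → y ^ p = 1 → (x * y) ^ p = 1)
    (hrk : ∀ E : Subgroup G, Cfsg.IsElementaryAbelian p E → Nat.card E ≤ p ^ 2)
    (hna : ∃ x y : G, x ^ p = 1 ∧ y ^ p = 1 ∧ x * y ≠ y * x) : Nonempty (Data p G) := by
  classical
  let U : Subgroup G :=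
    { carrier := {g | g ^ p = 1}
      one_mem' := one_pow p
      mul_mem' := fun {a b} ha hb => hmul a b ha hb
      inv_mem' := fun {a} ha => by
        show a⁻¹ ^ p = 1
        rw [inv_pow, show a ^ p = 1 from ha, inv_one] }
  haveI hUn : U.Normal := ⟨fun u hu g => by
    show (g * u * g⁻¹) ^ p = 1
    rw [conj_pow, show u ^ p = 1 from hu, mul_one, mul_inv_cancel]⟩
  obtain ⟨x, y, hx, hy, hxy⟩ := hna
  have hUp : IsPGroup p U := hG.to_subgroup U
  have hexp : ∀ u : U, u ^ p = 1 := fun u => Subtype.ext u.2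
  have hnaU : ¬ IsMulCommutative U := fun h =>
    hxy (congrArg Subtype.val (h.1.1 (⟨x, hx⟩ : U) ⟨y, hy⟩))
  have hle3 : Nat.card U ≤ p ^ 3 := by
    refine H6.card_le_cube_of_exponent hUp hexp fun E hE => ?_
    rw [← Subgroup.card_map_of_injective U.subtype_injective]
    refine hrk _ ⟨⟨⟨fun a b => ?_⟩⟩, ?_⟩
    · obtain ⟨a', ha', ha⟩ := a.2
      obtain ⟨b', hb', hb⟩ := b.2
      refine Subtype.ext ?_
      show (a : G) * b = b * a
      rw [← ha, ← hb, ← map_mul, ← map_mul]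
      exact congrArg U.subtype (congrArg Subtype.val (hE.1.1.1 ⟨a', ha'⟩ ⟨b', hb'⟩))
    · rintro _ ⟨a, ha, rfl⟩
      rw [← map_pow, hexp a, map_one]
  obtain ⟨k, hk⟩ := hUp.exists_card_eq
  have hk3 : k = 3 := by
    rw [hk] at hle3
    have h1 := (Nat.pow_le_pow_iff_right hp.out.one_lt).1 hle3
    by_contra h
    refine hnaU ⟨⟨fun a b => ?_⟩⟩
    obtain rfl | rfl | rfl : k = 0 ∨ k = 1 ∨ k = 2 := by omega
    · haveI : Subsingleton U := (Nat.card_eq_one_iff_unique.1 (by rw [hk, pow_zero])).1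
      exact Subsingleton.elim _ _
    · haveI := isCyclic_of_prime_card (α := U) (p := p) (by rw [hk, pow_one])
      letI := IsCyclic.commGroup (α := U)
      exact mul_comm a b
    · exact IsPGroup.commutative_of_card_eq_prime_sq hk a b
  rw [hk3] at hk
  -- the centre of `U`
  have hUne : U ≠ ⊥ := by
    intro h
    rw [h, Subgroup.card_bot] at hk
    exact absurd hk.symm (Nat.one_lt_pow (by norm_num) hp.out.one_lt).ne'
  obtain ⟨z, hzU, hz1, hzp, hzc⟩ := H83.exists_central_order_p hG U hUne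
  set Z := Subgroup.zpowers z with hZ
  have hZc : ∀ w ∈ Z, ∀ g : G, g * w = w * g := by
    intro w hw g
    obtain ⟨i, rfl⟩ := Subgroup.mem_zpowers_iff.1 hw
    exact (Commute.zpow_right (show Commute g z from hzc g) i).eq
  have hzord : orderOf z = p := orderOf_eq_prime hzp hz1
  haveI hZn : Z.Normal := ⟨fun w hw g => by rw [hZc w hw g, mul_inv_cancel_right]; exact hw⟩
  have hZU : Z ≤ U := Subgroup.zpowers_le.2 hzU
  have hUcen : ∀ u ∈ U, (∀ v ∈ U, v * u = u * v) → u ∈ Z := by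
    intro u hu hc
    by_contra huZ
    refine hnaU ⟨⟨fun a b => ?_⟩⟩
    -- `U/Z(U)` would be cyclic
    set M := U ⊓ Subgroup.centralizer (U : Set G) with hM
    have hM2 : p ^ 2 ≤ Nat.card M := by
      obtain ⟨i, -, hie⟩ := (Nat.dvd_prime_pow hp.out).1 (hk ▸ Subgroup.card_dvd_of_le (inf_le_left : M ≤ U))
      have hlt : p < Nat.card M := by
        have hZM : Z ≤ M := fun w hw => ⟨hZU hw, Subgroup.mem_centralizer_iff.2 fun v _ => hZc w hw v⟩
        refine lt_of_le_of_ne (hzord ▸ Nat.card_zpowers z ▸ Subgroup.card_le_of_le hZM) fun h => huZ ?_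
        rw [Subgroup.eq_of_le_of_card_ge hZM (by rw [hZ, Nat.card_zpowers, hzord, h])]
        exact ⟨hu, Subgroup.mem_centralizer_iff.2 hc⟩
      rw [hie] at hlt ⊢
      refine Nat.pow_le_pow_right hp.out.pos ?_
      by_contra h
      exact absurd hlt (not_lt.2 (le_trans (Nat.pow_le_pow_right hp.out.pos (by omega : i ≤ 1))
        (le_of_eq (pow_one p))))
    let M' : Subgroup U := M.subgroupOf U
    have hM'c : M' ≤ Subgroup.center U := fun w hw => Subgroup.mem_center_iff.2 fun v =>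
      Subtype.ext (Subgroup.mem_centralizer_iff.1 (Subgroup.mem_subgroupOf.1 hw).2 v v.2)
    have hidx : M'.index ∣ p := by
      have h1 := Subgroup.card_mul_index M'
      rw [Nat.card_congr (Subgroup.subgroupOfEquivOfLe (inf_le_left : M ≤ U)).toEquiv, hk] at h1
      obtain ⟨i, hi, hie⟩ := (Nat.dvd_prime_pow hp.out).1 (Dvd.intro_left _ h1)
      rw [hie]
      refine (Nat.pow_dvd_pow p (show i ≤ 1 from ?_)).trans (pow_one p).dvd
      by_contra h
      have h3 : p ^ 2 * p ^ 2 ≤ p ^ 3 := by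
        rw [← h1, hie]
        exact Nat.mul_le_mul hM2 (Nat.pow_le_pow_right hp.out.pos (by omega))
      rw [← pow_add] at h3
      have := (Nat.pow_le_pow_iff_right hp.out.one_lt).1 h3
      omega
    haveI : M'.Normal := ⟨fun w hw v => by
      rw [Subgroup.mem_center_iff.1 (hM'c hw) v, mul_inv_cancel_right]; exact hw⟩
    haveI : IsCyclic (U ⧸ M') := isCyclic_of_card_dvd_prime (p := p) (by
      rw [← Subgroup.index_eq_card]; exact hidx)
    exact commutative_of_cyclic_center_quotient (QuotientGroup.mk' M')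
      (by rw [QuotientGroup.ker_mk']; exact hM'c) a b
  have hne : ¬ U ≤ Z := fun h => hnaU ⟨⟨fun a b => Subtype.ext (hZc b (h b.2) a)⟩⟩
  obtain ⟨u₀, hu₀U, hu₀Z, -, hu₀c⟩ := H83.exists_central_step hG (E := Z) (W := U) hne
  set L := Z ⊔ Subgroup.zpowers u₀ with hL
  have hLU : L ≤ U := sup_le hZU (Subgroup.zpowers_le.2 hu₀U)
  have hLn : L.Normal := by
    refine ⟨fun l hl g => ?_⟩
    have hle : L ≤ L.comap (MulAut.conj g).toMonoidHom := by
      refine sup_le (fun w hw => ?_) (Subgroup.zpowers_le.2 ?_)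
      · show g * w * g⁻¹ ∈ L
        rw [hZc w hw g, mul_inv_cancel_right]
        exact Subgroup.mem_sup_left hw
      · show g * u₀ * g⁻¹ ∈ L
        have h := mul_mem (Subgroup.mem_sup_left (hu₀c g) : _ ∈ L)
          (Subgroup.mem_sup_right (Subgroup.mem_zpowers u₀) : u₀ ∈ L)
        rwa [inv_mul_cancel_right] at h
    exact hle hl
  have hLne : ¬ U ≤ L := by
    intro h
    refine hu₀Z (hUcen u₀ hu₀U fun v hv => ?_)
    have hle : L ≤ Subgroup.centralizer {u₀} := sup_le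
      (fun w hw => Subgroup.mem_centralizer_singleton_iff.2 (hZc w hw u₀).symm)
      (Subgroup.zpowers_le.2 (Subgroup.mem_centralizer_singleton_iff.2 rfl))
    exact Subgroup.mem_centralizer_singleton_iff.1 (hle (h hv))
  haveI := hLn
  obtain ⟨u₁, hu₁U, hu₁L, -, hu₁c⟩ := H83.exists_central_step hG (E := L) (W := U) hLne
  -- `U = ⟨u₁⟩ L`
  have hLc : Nat.card L = p ^ 2 ∧ Subgroup.zpowers u₁ ⊔ L = U := by
    obtain ⟨i, hi, hie⟩ := (Nat.dvd_prime_pow hp.out).1 (hk ▸ Subgroup.card_dvd_of_le hLU)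
    have h1 : p < Nat.card L := by
      refine lt_of_le_of_ne (hzord ▸ Nat.card_zpowers z ▸ Subgroup.card_le_of_le le_sup_left)
        fun h => hu₀Z ?_
      rw [Subgroup.eq_of_le_of_card_ge (le_sup_left : Z ≤ L) (by rw [hZ, Nat.card_zpowers, hzord, ← h])]
      exact Subgroup.mem_sup_right (Subgroup.mem_zpowers u₀)
    have h2 : i = 2 := by
      have h3 : i ≠ 3 := fun h => hLne
        (Subgroup.eq_of_le_of_card_ge hLU (by rw [hk, hie, h])).ge
      rw [hie] at h1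
      have : 1 < i := (Nat.pow_lt_pow_iff_right hp.out.one_lt).1 (by rwa [pow_one])
      omega
    refine ⟨by rw [hie, h2], ?_⟩
    have hle : Subgroup.zpowers u₁ ⊔ L ≤ U := sup_le (Subgroup.zpowers_le.2 hu₁U) hLU
    obtain ⟨j, hj, hje⟩ := (Nat.dvd_prime_pow hp.out).1 (hk ▸ Subgroup.card_dvd_of_le hle)
    refine Subgroup.eq_of_le_of_card_ge hle ?_
    rw [hk, hje]
    refine Nat.pow_le_pow_right hp.out.pos ?_
    by_contra h
    refine hu₁L ?_
    rw [Subgroup.eq_of_le_of_card_ge (le_sup_right : L ≤ Subgroup.zpowers u₁ ⊔ L)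
      (by rw [hie, h2, hje]; exact Nat.pow_le_pow_right hp.out.pos (by omega))]
    exact Subgroup.mem_sup_left (Subgroup.mem_zpowers u₁)
  haveI := hLn
  have hUcomm : ∀ g : G, ∀ u ∈ U, g * u * g⁻¹ * u⁻¹ ∈ L := by
    intro g u hu
    refine (QuotientGroup.eq_one_iff _).1 (show QuotientGroup.mk' L _ = 1 from ?_)
    rw [← hLc.2] at hu
    obtain ⟨a, ha, l, hl, rfl⟩ := Subgroup.mem_sup_of_normal_right.1 hu
    obtain ⟨i, rfl⟩ := Subgroup.mem_zpowers_iff.1 ha
    have h1 : Commute (QuotientGroup.mk' L g) (QuotientGroup.mk' L u₁) := by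
      refine mul_inv_eq_iff_eq_mul.1 (mul_inv_eq_one.1 ?_)
      rw [← map_inv, ← map_mul, ← map_mul, ← map_inv, ← map_mul]
      exact (QuotientGroup.eq_one_iff _).2 (hu₁c g)
    have hl' : QuotientGroup.mk' L l = 1 := (QuotientGroup.eq_one_iff _).2 hl
    simp only [map_mul, map_inv, map_zpow, hl', mul_one]
    rw [(h1.zpow_right i).eq, mul_inv_cancel_right, mul_inv_cancel]
  have hUder : ∀ u ∈ U, ∀ v ∈ U, u * v * u⁻¹ * v⁻¹ ∈ Z := by
    intro u hu v hv
    rw [← hLc.2] at hu hv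
    refine (QuotientGroup.eq_one_iff _).1 (show QuotientGroup.mk' Z _ = 1 from ?_)
    obtain ⟨a, ha, l, hl, rfl⟩ := Subgroup.mem_sup_of_normal_right.1 hu
    obtain ⟨a', ha', l', hl', rfl⟩ := Subgroup.mem_sup_of_normal_right.1 hv
    obtain ⟨i, rfl⟩ := Subgroup.mem_zpowers_iff.1 ha
    obtain ⟨j, rfl⟩ := Subgroup.mem_zpowers_iff.1 ha'
    set π := QuotientGroup.mk' Z with hπ
    have hcenL : ∀ w ∈ L, ∀ g : G, Commute (π g) (π w) := by
      intro w hw g
      have hle : L ≤ (Subgroup.centralizer {π g}).comap π := by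
        refine sup_le (fun w' hw' => ?_) (Subgroup.zpowers_le.2 ?_)
        · rw [Subgroup.mem_comap]
          rw [show π w' = 1 from (QuotientGroup.eq_one_iff _).2 hw']
          exact one_mem _
        · refine Subgroup.mem_centralizer_singleton_iff.2 ?_
          refine (mul_inv_eq_iff_eq_mul.1 (mul_inv_eq_one.1 ?_)).symm
          rw [← map_inv, ← map_mul, ← map_mul, ← map_inv, ← map_mul]
          exact (QuotientGroup.eq_one_iff _).2 (hu₀c g)
      exact (Subgroup.mem_centralizer_singleton_iff.1 (hle hw)).symm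
    simp only [map_mul, map_inv, map_zpow]
    have hc : Commute (π u₁ ^ i * π l) (π u₁ ^ j * π l') :=
      (((Commute.refl (π u₁)).zpow_zpow i j).mul_right ((hcenL l' hl' u₁).zpow_left i)).mul_left
        (((hcenL l hl u₁).symm.zpow_right j).mul_right (hcenL l' hl' l))
    rw [hc.eq, mul_inv_cancel_right, mul_inv_cancel]
  exact ⟨⟨U, z, u₀, hp5, hG, fun g => Iff.rfl, hk, hzU, hz1, hzc, hu₀U, hu₀Z, hu₀c,
    fun g u hu => hUcomm g u hu, hUder, hUcen⟩⟩

end H88.RankTwo
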