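import Cfsg.Agent.H88.OmegaNormal
import Cfsg.Agent.H85.Normal
import Cfsg.Agent.H83.PGroupBasic
import Mathlib.GroupTheory.FixedPointFree

/-!
A strongly closed subgroup whose elements of order dividing `p` (`p` odd) form an elementary
abelian subgroup of order at most `p²` is normal in the saturated fusion system.
-/

set_option autoImplicit false
set_option linter.style.haveILetI false

open Cfsg Cfsg.FusionSystem

namespace H88

/-- Two transvections with different centres generate inversion. -/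
theorem exists_inversion_mem {G : Type*} [Group G] {p : ℕ} [Fact p.Prime] (hcom : ∀ a b : G, a * b = b * a)
    (hcard : Nat.card G = p ^ 2) (hexp : ∀ a : G, a ^ p = 1) {A : Subgroup (MulAut G)}
    {a b : MulAut G} (ha : a ∈ A) (hb : b ∈ A) {z x : G} (hz : z ≠ 1) (hx : x ≠ 1)
    (hzx : x ∉ Subgroup.zpowers z) (haz : a z = z)
    (hax : x⁻¹ * a x ∈ Subgroup.zpowers z) (hax1 : a x ≠ x)
    (hbx : b x = x) (hbz : z⁻¹ * b z ∈ Subgroup.zpowers x) (hbz1 : b z ≠ z) :
    ∃ w ∈ A, ∀ g : G, w g = g⁻¹ := by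
  haveI : Finite G := Nat.finite_of_card_ne_zero (by
    rw [hcard]; exact pow_ne_zero _ (Fact.out : p.Prime).ne_zero)
  have key : ∀ (c : MulAut G) (u v : G), c u = u → v⁻¹ * c v ∈ Subgroup.zpowers u → c v ≠ v →
      ∀ t ∈ Subgroup.zpowers u, ∃ k : ℕ, (c ^ k) v = v * t ∧ (c ^ k) u = u := by
    intro c u v hu hv hne t ht
    have hd : v⁻¹ * c v ≠ 1 := fun h => hne (inv_mul_eq_one.1 h).symm
    have hu1 : u ≠ 1 := fun h => hd (by simpa [h] using hv)
    have hord : orderOf (v⁻¹ * c v) = p := orderOf_eq_prime (hexp _) hd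
    have hgen : Subgroup.zpowers (v⁻¹ * c v) = Subgroup.zpowers u := by
      refine Subgroup.eq_of_le_of_card_ge (Subgroup.zpowers_le.2 hv) ?_
      rw [Nat.card_zpowers, Nat.card_zpowers, hord, orderOf_eq_prime (hexp _) hu1]
    rw [← hgen] at ht
    obtain ⟨k, hk⟩ := (isOfFinOrder_of_finite (v⁻¹ * c v)).mem_powers_iff_mem_zpowers.2 ht
    have hfix : c (v⁻¹ * c v) = v⁻¹ * c v := by
      obtain ⟨i, hi⟩ := Subgroup.mem_zpowers_iff.1 hv
      rw [← hi, map_zpow, hu]
    refine ⟨k, ?_, ?_⟩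
    · have h1 := aut_pow_apply_of_fixed c (y := v) (c := v⁻¹ * c v) (by group) hfix k
      rw [h1]
      exact congrArg (v * ·) hk
    · have h1 := aut_pow_apply_of_fixed c (y := u) (c := 1) (by rw [mul_one]; exact hu)
        (map_one c) k
      rw [h1, one_pow, mul_one]
  obtain ⟨k, hk, hkz⟩ := key a z x haz hax hax1 z (Subgroup.mem_zpowers z)
  obtain ⟨l, hl, hlx⟩ := key b x z hbx hbz hbz1 x⁻¹ (inv_mem (Subgroup.mem_zpowers x))
  set W : MulAut G := a ^ k * b ^ l * a ^ k with hW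
  have hWA : W ∈ A := mul_mem (mul_mem (pow_mem ha _) (pow_mem hb _)) (pow_mem ha _)
  have hWz : W z = x⁻¹ := by
    simp only [hW, MulAut.mul_apply, hkz, hl, map_mul, map_inv, hk]
    rw [mul_inv_rev, ← mul_assoc, mul_inv_cancel, one_mul]
  have hWx : W x = z := by
    rw [hW, MulAut.mul_apply, MulAut.mul_apply, hk, map_mul, hlx, hl,
      show x * (z * x⁻¹) = z by rw [hcom z, mul_inv_cancel_left], hkz]
  refine ⟨W * W, mul_mem hWA hWA, ?_⟩
  let E : Subgroup G :=
    { carrier := {g | (W * W) g = g⁻¹}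
      one_mem' := by simp
      mul_mem' := fun {u v} hu hv => by
        show (W * W) (u * v) = (u * v)⁻¹
        rw [map_mul, hu, hv, mul_inv_rev, hcom]
      inv_mem' := fun {u} hu => by
        show (W * W) u⁻¹ = u⁻¹⁻¹
        rw [map_inv, hu] }
  have hzE : z ∈ E := by
    show (W * W) z = z⁻¹
    rw [MulAut.mul_apply, hWz, map_inv, hWx]
  have hxE : x ∈ E := by
    show (W * W) x = x⁻¹
    rw [MulAut.mul_apply, hWx, hWz]
  have htop : E = ⊤ := by
    haveI : Finite E := inferInstance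
    refine Subgroup.eq_top_of_card_eq _ (le_antisymm
      (le_of_le_of_eq (Subgroup.card_le_of_le (le_top : E ≤ ⊤)) Subgroup.card_top) ?_)
    by_contra hlt
    have hdvd : Nat.card E ∣ p ^ 2 := hcard ▸ Subgroup.card_subgroup_dvd_card E
    obtain ⟨i, hi, hie⟩ := (Nat.dvd_prime_pow (Fact.out : p.Prime)).1 hdvd
    have hi1 : i ≤ 1 := by
      by_contra h
      obtain rfl : i = 2 := by omega
      exact hlt (by rw [hcard, hie])
    have hle : Subgroup.zpowers z ≤ E := Subgroup.zpowers_le.2 hzE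
    have : Subgroup.zpowers z = E := by
      refine Subgroup.eq_of_le_of_card_ge hle ?_
      rw [Nat.card_zpowers, orderOf_eq_prime (hexp z) hz, hie]
      calc p ^ i ≤ p ^ 1 := Nat.pow_le_pow_right (Fact.out : p.Prime).pos hi1
        _ = p := pow_one p
    exact hzx (this ▸ hxE)
  intro g
  exact (htop.ge (Subgroup.mem_top g) : g ∈ E)

/-- A `p`-group (`p` odd) with an automorphism inverting its elements of order `p` is abelian. -/
theorem comm_of_inverting {G : Type*} [Group G] [Finite G] {p : ℕ} [hp : Fact p.Prime]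
    (hp2 : p ≠ 2) (hG : IsPGroup p G) (γ : MulAut G)
    (hinv : ∀ y : G, y ^ p = 1 → γ y = y⁻¹) (a b : G) : a * b = b * a := by
  haveI : Finite (MulAut G) := Finite.of_injective _ DFunLike.coe_injective
  obtain ⟨i, m, hm, hn⟩ := Nat.exists_eq_pow_mul_and_not_dvd (orderOf_pos γ).ne' 2 (by norm_num)
  have hodd : Odd m := Nat.odd_iff.2 (by omega)
  set δ := γ ^ m with hδ
  have hδinv : ∀ y : G, y ^ p = 1 → δ y = y⁻¹ := by
    intro y hy
    have h2 : ∀ k : ℕ, (γ ^ k) y = if Even k then y else y⁻¹ := by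
      intro k
      induction k with
      | zero => simp
      | succ k ih =>
        rw [pow_succ', MulAut.mul_apply, ih]
        by_cases hk : Even k
        · rw [if_pos hk, if_neg (by simpa [Nat.even_add_one] using hk), hinv y hy]
        · rw [if_neg hk, if_pos (by simpa [Nat.even_add_one] using hk), map_inv, hinv y hy, inv_inv]
    rw [hδ, h2, if_neg (Nat.not_even_iff_odd.2 hodd)]
  have hord : orderOf δ ∣ 2 ^ i := by
    refine orderOf_dvd_of_pow_eq_one ?_
    rw [hδ, ← pow_mul, mul_comm, ← hn, pow_orderOf_eq_one]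
  have hδ2 : δ * δ = 1 := by
    refine H6.eq_one_of_fixes_omega_one hp2 hG _ ?_ fun y hy => ?_
    · refine Nat.Coprime.coprime_dvd_left ?_
        (Nat.Coprime.pow_left i ((Nat.coprime_primes Nat.prime_two hp.out).2 hp2.symm))
      refine orderOf_dvd_of_pow_eq_one ?_
      rw [← pow_two, ← pow_mul, mul_comm, pow_mul, orderOf_dvd_iff_pow_eq_one.1 hord, one_pow]
    · rw [MulAut.mul_apply, hδinv y hy, map_inv, hδinv y hy, inv_inv]
  refine MonoidHom.FixedPointFree.commute_all_of_involutive (φ := δ.toMonoidHom) (fun y hy => ?_)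
    (fun y => by
      show δ (δ y) = y
      rw [← MulAut.mul_apply, hδ2, MulAut.one_apply]) a b
  by_contra hy1
  obtain ⟨k, hk⟩ := IsPGroup.iff_orderOf.1 hG y
  have hk0 : k ≠ 0 := by
    rintro rfl
    exact hy1 (orderOf_eq_one_iff.1 (by simpa using hk))
  set y' := y ^ p ^ (k - 1) with hy'
  have hy'p : y' ^ p = 1 := by
    rw [hy', ← pow_mul, ← pow_succ, show k - 1 + 1 = k by omega, ← hk, pow_orderOf_eq_one]
  have hfix : δ y' = y' := by
    rw [hy', map_pow]
    exact congrArg (· ^ p ^ (k - 1)) hy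
  rw [hδinv y' hy'p] at hfix
  have h2 : y' ^ 2 = 1 := by
    rw [pow_two]
    nth_rw 1 [← hfix]
    exact inv_mul_cancel _
  have h1 : orderOf y' = 1 := Nat.eq_one_of_dvd_coprimes
    ((Nat.coprime_primes Nat.prime_two hp.out).2 hp2.symm) (orderOf_dvd_of_pow_eq_one h2)
    (orderOf_dvd_of_pow_eq_one hy'p)
  have h3 : orderOf y ∣ p ^ (k - 1) := orderOf_dvd_of_pow_eq_one (orderOf_eq_one_iff.1 h1)
  rw [hk, Nat.pow_dvd_pow_iff_le_right hp.out.one_lt] at h3
  omega

variable {Ω : Type*} [Group Ω] {S : Subgroup Ω} {p : ℕ}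

/-- Strongly closed subgroups are normal in `S`. -/
theorem subgroupOf_normal_of_sc' [Finite S] {F : FusionSystem S} {C : Subgroup Ω}
    (hC : F.StronglyClosed C) : (C.subgroupOf S).Normal := by
  refine ⟨fun n hn g => ?_⟩
  show (g : Ω) * (n : Ω) * (g : Ω)⁻¹ ∈ C
  exact H85.conj_mem_of_mem_normalizer (sc_normalizer hC g.2) hn

theorem isNormal_of_small_omega [Finite S] [Fact p.Prime] (hS : IsPGroup p S)
    {F : FusionSystem S} (hF : F.IsSaturated p) (hp : p ≠ 2) {P : Subgroup Ω}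
    (hP : F.StronglyClosed P)
    (hexp : ∀ x ∈ Cfsg.omegaOne p P, x ^ p = 1)
    (hcomm : ∀ x ∈ Cfsg.omegaOne p P, ∀ y ∈ Cfsg.omegaOne p P, x * y = y * x)
    (hcard : Nat.card (Cfsg.omegaOne p P) ≤ p ^ 2) : F.IsNormal P := by
  classical
  by_cases hab : IsMulCommutative P
  · exact H85.isNormal_of_abelian hS hF hP hab
  have hpr : p.Prime := Fact.out
  set E := Cfsg.omegaOne p P with hE
  have hEP : E ≤ P := (Subgroup.closure_le _).2 fun x hx => hx.1
  have hES : E ≤ S := hEP.trans hP.1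
  haveI : Finite P := H85.finite_of_le hP.1
  haveI : Finite E := H85.finite_of_le hES
  have hEmem : ∀ x : Ω, x ∈ P → x ^ p = 1 → x ∈ E := fun x h1 h2 =>
    Subgroup.subset_closure ⟨h1, h2⟩
  have hEsc : F.StronglyClosed E := by
    refine ⟨hES, fun R hR φ hφ x => hEmem _ (hP.2 R (hR.trans hEP) φ hφ x) ?_⟩
    rw [← map_pow, show x ^ p = 1 from Subtype.ext (hexp _ (hR x.2)), map_one]
  by_cases hcen : E ≤ Subgroup.centralizer (P : Set Ω)
  · refine isNormal_of_omegaChain hS hF hp hP 1 ![⊥, E] rfl rfl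
      (fun i => by fin_cases i <;> simp [hEsc, H85.stronglyClosed_bot]) fun i => ?_
    fin_cases i
    show ⁅E, P⁆ ≤ (⊥ : Subgroup Ω)
    rw [le_bot_iff, Subgroup.commutator_eq_bot_iff_le_centralizer]
    exact hcen
  -- a central element of order `p` in `E`
  have hnorm : ∀ s ∈ S, ∀ e ∈ E, s * e * s⁻¹ ∈ E := fun s hs e he =>
    H85.conj_mem_of_mem_normalizer (sc_normalizer hEsc hs) he
  haveI hEn : (E.subgroupOf S).Normal := subgroupOf_normal_of_sc' hEsc
  have hE1 : E.subgroupOf S ≠ ⊥ := by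
    intro h
    refine hcen fun e he => ?_
    have h1 : (⟨e, hES he⟩ : S) ∈ (⊥ : Subgroup S) := h ▸ he
    rw [show e = 1 from congrArg Subtype.val (Subgroup.mem_bot.1 h1)]
    exact one_mem _
  obtain ⟨u, huE, hu1, hup, huc⟩ := H83.exists_central_order_p hS (E.subgroupOf S) hE1
  set z : Ω := (u : Ω) with hz
  have hzE : z ∈ E := huE
  have hz1 : z ≠ 1 := fun h => hu1 (Subtype.ext h)
  have hzc : ∀ s ∈ S, s * z = z * s := fun s hs => congrArg Subtype.val (huc ⟨s, hs⟩)
  have hzord : orderOf z = p := orderOf_eq_prime (hexp z hzE) hz1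
  set Z := Subgroup.zpowers z with hZ
  have hZE : Z ≤ E := Subgroup.zpowers_le.2 hzE
  haveI hZfin : Finite Z := H85.finite_of_le (hZE.trans hES)
  have hZc : ∀ s ∈ S, ∀ y ∈ Z, s * y = y * s := by
    intro s hs y hy
    obtain ⟨i, rfl⟩ := Subgroup.mem_zpowers_iff.1 hy
    exact (Commute.zpow_right (show Commute s z from hzc s hs) i).eq
  have hEc : Nat.card E = p ^ 2 := by
    have hEp : IsPGroup p E := hS.to_le hES
    obtain ⟨i, hi⟩ := hEp.exists_card_eq
    have hne : Z ≠ E := by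
      intro h
      refine hcen fun e he => Subgroup.mem_centralizer_iff.2 fun y hy => ?_
      exact hZc y (hP.1 hy) e (h.ge he)
    have hlt : p < Nat.card E := by
      refine lt_of_le_of_ne (hzord ▸ Nat.card_zpowers z ▸ Subgroup.card_le_of_le hZE) fun h => hne ?_
      exact Subgroup.eq_of_le_of_card_ge hZE (by rw [hZ, Nat.card_zpowers, hzord, h])
    rw [hi] at hlt hcard ⊢
    have h1 : 1 < i := by
      by_contra h
      exact absurd hlt (not_lt.2 (le_trans (Nat.pow_le_pow_right hpr.pos (not_lt.1 h))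
        (le_of_eq (pow_one p))))
    have h2 : i ≤ 2 := (Nat.pow_le_pow_iff_right hpr.one_lt).1 hcard
    rw [show i = 2 by omega]
  -- elements outside `Z` are not central in `P`
  have hout : ∀ x ∈ E, x ∉ Z → ∃ g ∈ P, g * x * g⁻¹ ≠ x := by
    intro x hx hxZ
    by_contra hno
    refine hcen ?_
    set C := E ⊓ Subgroup.centralizer (P : Set Ω) with hC
    have hxC : x ∈ C := ⟨hx, Subgroup.mem_centralizer_iff.2 fun g hg => mul_inv_eq_iff_eq_mul.1
      (not_not.1 fun h => hno ⟨g, hg, h⟩)⟩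
    have hzC : Z ≤ C := fun y hy => ⟨hZE hy, Subgroup.mem_centralizer_iff.2 fun g hg =>
      hZc g (hP.1 hg) y hy⟩
    haveI : Finite C := H85.finite_of_le (inf_le_left.trans hES)
    obtain ⟨i, hi, hie⟩ := (Nat.dvd_prime_pow hpr).1
      (hEc ▸ Subgroup.card_dvd_of_le (inf_le_left : C ≤ E))
    have hlt : p < Nat.card C := by
      refine lt_of_le_of_ne (hzord ▸ Nat.card_zpowers z ▸ Subgroup.card_le_of_le hzC) fun h => hxZ ?_
      rw [Subgroup.eq_of_le_of_card_ge hzC (by rw [hZ, Nat.card_zpowers, hzord, h])]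
      exact hxC
    have hi2 : i = 2 := by
      by_contra h
      rw [hie] at hlt
      exact absurd hlt (not_lt.2 (le_trans (Nat.pow_le_pow_right hpr.pos (by omega : i ≤ 1))
        (le_of_eq (pow_one p))))
    rw [← Subgroup.eq_of_le_of_card_ge (inf_le_left : C ≤ E) (by rw [hie, hi2, hEc])]
    exact inf_le_right
  -- commutators fall into `Z`
  have hEP' : ∀ e ∈ E, ∀ g ∈ S, e * g * e⁻¹ * g⁻¹ ∈ Z := by
    haveI : ((Z.subgroupOf S)).Normal := ⟨fun n hn s => by
      show (s : Ω) * n * (s : Ω)⁻¹ ∈ Z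
      rw [hZc s s.2 n hn, mul_inv_cancel_right]
      exact hn⟩
    have hne : ¬ E.subgroupOf S ≤ Z.subgroupOf S := by
      intro h
      refine hcen fun e he => Subgroup.mem_centralizer_iff.2 fun y hy => ?_
      exact hZc y (hP.1 hy) e (h (show (⟨e, hES he⟩ : S) ∈ E.subgroupOf S from he))
    obtain ⟨v, hvE, hvZ, -, hvc⟩ := H83.exists_central_step hS hne
    intro e he g hg
    set π := QuotientGroup.mk' (Z.subgroupOf S) with hπ
    have hker : ∀ y : S, π y = 1 ↔ (y : Ω) ∈ Z := fun y => by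
      rw [hπ, QuotientGroup.mk'_apply, QuotientGroup.eq_one_iff, Subgroup.mem_subgroupOf]
    set G0 := (Subgroup.center (S ⧸ Z.subgroupOf S)).comap π ⊓ E.subgroupOf S with hG0
    have hvG0 : v ∈ G0 := ⟨Subgroup.mem_center_iff.2 fun q => by
      obtain ⟨s, rfl⟩ := QuotientGroup.mk'_surjective _ q
      rw [← hπ, ← map_mul, ← map_mul]
      exact (QuotientGroup.eq.2 (by
        rw [Subgroup.mem_subgroupOf]
        have := hvc s
        rw [Subgroup.mem_subgroupOf] at this
        have h2 := hZc _ (mul_mem s.2 v.2) _ this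
        simp only [Subgroup.coe_mul, InvMemClass.coe_inv] at this h2 ⊢
        have h3 : ((v : Ω) * s)⁻¹ * (s * v) = ((v : Ω) * s)⁻¹ *
            ((s * v * (s : Ω)⁻¹ * (v : Ω)⁻¹) * ((v : Ω) * s)) := by group
        rw [h3, ← hZc _ (mul_mem v.2 s.2) _ this, inv_mul_cancel_left]
        exact this)).symm, hvE⟩
    have hzG0 : Z.subgroupOf S ≤ G0 := fun y hy => ⟨by
      show π y ∈ Subgroup.center _
      rw [(hker y).2 hy]
      exact one_mem _, hZE hy⟩
    have htop : G0 = E.subgroupOf S := by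
      refine Subgroup.eq_of_le_of_card_ge inf_le_right ?_
      obtain ⟨i, hi, hie⟩ := (Nat.dvd_prime_pow hpr).1
        ((show Nat.card (E.subgroupOf S) = p ^ 2 by rw [H85.card_subgroupOf _ _ hES, hEc]) ▸
          Subgroup.card_dvd_of_le (inf_le_right : G0 ≤ E.subgroupOf S))
      rw [H85.card_subgroupOf _ _ hES, hEc, hie]
      refine Nat.pow_le_pow_right hpr.pos ?_
      by_contra h
      have hZ0 : Z.subgroupOf S = G0 := Subgroup.eq_of_le_of_card_ge hzG0 (by
        rw [H85.card_subgroupOf _ _ (hZE.trans hES), hZ, Nat.card_zpowers, hzord, hie]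
        exact le_trans (Nat.pow_le_pow_right hpr.pos (by omega : i ≤ 1)) (le_of_eq (pow_one p)))
      exact hvZ (hZ0 ▸ hvG0)
    have he0 : π ⟨e, hES he⟩ ∈ Subgroup.center (S ⧸ Z.subgroupOf S) :=
      (htop.ge (show (⟨e, hES he⟩ : S) ∈ E.subgroupOf S from he)).1
    refine (hker ((⟨e, hES he⟩ : S) * ⟨g, hg⟩ * (⟨e, hES he⟩ : S)⁻¹ * (⟨g, hg⟩ : S)⁻¹)).1 ?_
    rw [map_mul, map_mul, map_mul, map_inv, map_inv,
      ← Subgroup.mem_center_iff.1 he0 (π ⟨g, hg⟩), mul_inv_cancel_right, mul_inv_cancel]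
  -- strong closure of `Z`
  have hZsc : F.StronglyClosed Z := by
    refine ⟨hZE.trans hES, fun R hR φ hφ r => ?_⟩
    by_contra hout'
    have hRS := H85.source_le hφ
    haveI := H85.finite_of_le hRS
    set x := φ r with hxdef
    have hxE : x ∈ E := hEsc.2 R (hR.trans hZE) φ hφ r
    have hx1 : x ≠ 1 := fun h => hout' (h ▸ one_mem _)
    have hr1 : (r : Ω) ≠ 1 := fun h => hx1 (by rw [hxdef, show r = 1 from Subtype.ext h, map_one])
    -- a map sending `x` to the central element `r`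
    obtain ⟨χ, hχ, hχr⟩ := F.inv_mem hφ
    set A := Subgroup.zpowers x with hA
    haveI : Finite A := H85.finite_of_le (Subgroup.zpowers_le.2 (hES hxE))
    have hAr : A ≤ φ.range := Subgroup.zpowers_le.2 ⟨r, rfl⟩
    have hχ' := H85.restrict hχ hAr
    set χ' := χ.comp (Subgroup.inclusion hAr) with hχ'def
    have hχx : χ' ⟨x, Subgroup.mem_zpowers x⟩ = (r : Ω) := hχr r
    have hrange : χ'.range ≤ Z := by
      rintro _ ⟨⟨y, hy⟩, rfl⟩
      obtain ⟨i, hi⟩ := Subgroup.mem_zpowers_iff.1 hy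
      rw [show (⟨y, hy⟩ : A) = (⟨x, Subgroup.mem_zpowers x⟩ : A) ^ i from Subtype.ext
        (by simpa using hi.symm), map_zpow, hχx]
      exact zpow_mem (hR r.2) i
    have hrc : F.IsFullyCentralized χ'.range := by
      refine ⟨hrange.trans (hZE.trans hES), fun Q _ => ?_⟩
      have : centralizerIn S χ'.range = S := le_antisymm inf_le_left fun s hs =>
        ⟨hs, Subgroup.mem_centralizer_iff.2 fun y hy => (hZc s hs y (hrange hy)).symm⟩
      rw [this]
      exact Subgroup.card_le_of_le inf_le_left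
    obtain ⟨ψ, hψ, hψext⟩ := (H85.receptive_of_fullyCentralized hS hF hrc).2 A χ' hχ' rfl
    have hEe : E ≤ extender S A χ' := fun e he => H85.centralizerIn_le_extender A χ'
      ⟨hES he, Subgroup.mem_centralizer_iff.2 fun y hy =>
        hcomm y ((Subgroup.zpowers_le.2 hxE) hy) e he⟩
    set ψE := ψ.comp (Subgroup.inclusion hEe) with hψE
    have hψEm : ψE ∈ F.Hom E := H85.restrict hψ hEe
    have hr' : ψE.range = E := by
      refine Subgroup.eq_of_le_of_card_ge ?_ (le_of_eq (Nat.card_congr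
        (MonoidHom.ofInjective (F.injective_of_mem hψEm)).toEquiv))
      rintro _ ⟨e, rfl⟩
      exact hEsc.2 E le_rfl _ hψEm e
    set α : MulAut E := H85.isoOf ψE hψEm hr' with hα
    have hαF : α ∈ F.autGroup E := (H85.mem_autGroup hES).2 (H85.isFIso_isoOf ψE hψEm hr')
    have hαx : (α ⟨x, hxE⟩ : Ω) = r := (hψext x (Subgroup.mem_zpowers x) (hEe hxE)).trans hχx
    -- conjugation automorphisms
    have hconjA : ∀ g, g ∈ P → ∃ c ∈ F.autGroup E, ∀ e : E, (c e : Ω) = g * e * g⁻¹ := by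
      intro g hg
      have hgN : g ∈ normalizerIn S E := ⟨hP.1 hg, sc_normalizer hEsc (hP.1 hg)⟩
      refine ⟨H85.conjAut S E ⟨g, hgN⟩, H85.autInducedBy_le_autGroup F hES ?_, fun e => rfl⟩
      rw [← H85.conjAut_range]
      exact ⟨_, rfl⟩
    set z' : E := ⟨r, hZE (hR r.2)⟩ with hz'
    set x₀ : E := α z' with hx₀
    have hx₀Z : (x₀ : Ω) ∉ Z := by
      intro h
      have h1 : Subgroup.zpowers (r : Ω) = Z := by
        refine Subgroup.eq_of_le_of_card_ge (Subgroup.zpowers_le.2 (hR r.2)) ?_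
        rw [Nat.card_zpowers (r : Ω), Nat.card_zpowers z, hzord,
          orderOf_eq_prime (hexp _ (hZE (hR r.2))) hr1]
      rw [← h1] at h
      obtain ⟨i, hi⟩ := Subgroup.mem_zpowers_iff.1 h
      have h2 : α z' = α ((⟨x, hxE⟩ : E) ^ i) := by
        rw [map_zpow]
        refine Subtype.ext ?_
        rw [← hx₀, SubgroupClass.coe_zpow, hαx, hi]
      have h3 := congrArg Subtype.val (α.injective h2)
      rw [SubgroupClass.coe_zpow] at h3
      refine hout' ?_
      have h4 : Subgroup.zpowers x = Subgroup.zpowers (r : Ω) := by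
        refine (Subgroup.eq_of_le_of_card_ge (Subgroup.zpowers_le.2 (Subgroup.mem_zpowers_iff.2 ⟨i, h3.symm⟩)) ?_).symm
        rw [Nat.card_zpowers, Nat.card_zpowers, orderOf_eq_prime (hexp _ hxE) hx1,
          orderOf_eq_prime (hexp _ (hZE (hR r.2))) hr1]
      rw [← h1, ← h4]
      exact Subgroup.mem_zpowers x
    have hx₀1 : x₀ ≠ 1 := fun h => hx₀Z (h ▸ one_mem _)
    have hz'1 : z' ≠ 1 := fun h => hr1 (congrArg Subtype.val h)
    have hcE : ∀ e f : E, e * f = f * e := fun e f => Subtype.ext (hcomm _ e.2 _ f.2)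
    have hfixZ : ∀ (g : Ω), g ∈ P → g * (z' : Ω) * g⁻¹ = z' := fun g hg => by
      rw [hZc g (hP.1 hg) _ (hR r.2), mul_inv_cancel_right]
    have hmemZ : ∀ e : E, (e : Ω) ∈ Z → e ∈ Subgroup.zpowers z' := by
      intro e he
      have h1 : Subgroup.zpowers (r : Ω) = Z := by
        refine Subgroup.eq_of_le_of_card_ge (Subgroup.zpowers_le.2 (hR r.2)) ?_
        rw [Nat.card_zpowers (r : Ω), Nat.card_zpowers z, hzord,
          orderOf_eq_prime (hexp _ (hZE (hR r.2))) hr1]
      rw [← h1] at he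
      obtain ⟨i, hi⟩ := Subgroup.mem_zpowers_iff.1 he
      exact ⟨i, Subtype.ext (by simpa using hi)⟩
    have hconjZ : ∀ g ∈ P, ∀ e : E, (e : Ω)⁻¹ * (g * e * g⁻¹) ∈ Z := by
      intro g hg e
      have h1 := hEP' _ (inv_mem e.2) g (hP.1 hg)
      rw [inv_inv] at h1
      simpa [mul_assoc] using h1
    -- the first transvection
    obtain ⟨g₁, hg₁, hg₁x⟩ := hout _ x₀.2 hx₀Z
    obtain ⟨a, haF, ha⟩ := hconjA g₁ hg₁
    -- the second transvection
    have hxsymm : ((α.symm z' : E) : Ω) ∉ Z := by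
      rw [show α.symm z' = (⟨x, hxE⟩ : E) from (MulEquiv.symm_apply_eq α).2 (Subtype.ext hαx.symm)]
      exact hout'
    obtain ⟨g₂, hg₂, hg₂x⟩ := hout _ (α.symm z').2 hxsymm
    obtain ⟨c, hcF, hc⟩ := hconjA g₂ hg₂
    set b : MulAut E := α * c * α⁻¹ with hbdef
    have hbF : b ∈ F.autGroup E := mul_mem (mul_mem hαF hcF) (inv_mem hαF)
    have hzx : x₀ ∉ Subgroup.zpowers z' := by
      intro h
      obtain ⟨i, hi⟩ := Subgroup.mem_zpowers_iff.1 h
      refine hx₀Z ?_
      rw [← hi, SubgroupClass.coe_zpow]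
      exact zpow_mem (hR r.2) i
    have hEcard : Nat.card E = p ^ 2 := hEc
    obtain ⟨w, hwF, hw⟩ := exists_inversion_mem hcE hEcard
      (fun e => Subtype.ext (by simpa using hexp _ e.2)) haF hbF hz'1 hx₀1 hzx
      (Subtype.ext (by rw [ha]; exact hfixZ g₁ hg₁))
      (hmemZ _ (by
        show (x₀ : Ω)⁻¹ * ((a x₀ : E) : Ω) ∈ Z
        rw [ha]; exact hconjZ g₁ hg₁ x₀))
      (fun h => hg₁x (by rw [← ha, h]))
      (by
        show α (c (α⁻¹ x₀)) = x₀
        rw [hx₀, MulAut.inv_apply_self]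
        exact congrArg α (Subtype.ext (by rw [hc]; exact hfixZ g₂ hg₂)))
      (by
        show z'⁻¹ * α (c (α.symm z')) ∈ Subgroup.zpowers x₀
        have h1 : (α.symm z')⁻¹ * c (α.symm z') ∈ Subgroup.zpowers z' := hmemZ _ (by
          show ((α.symm z' : E) : Ω)⁻¹ * ((c (α.symm z') : E) : Ω) ∈ Z
          rw [hc]; exact hconjZ g₂ hg₂ _)
        obtain ⟨i, hi⟩ := Subgroup.mem_zpowers_iff.1 h1
        refine ⟨i, ?_⟩
        show x₀ ^ i = _
        rw [hx₀, ← map_zpow, hi, map_mul, map_inv, MulEquiv.apply_symm_apply])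
      (fun h => hg₂x (by
        have h1 : c (α.symm z') = α.symm z' := (MulEquiv.eq_symm_apply α).2 h
        rw [← hc, h1]))
    -- extend the inversion to `P`
    have hEfn : F.IsFullyNormalized E := ⟨hES, fun Q _ => by
      rw [show normalizerIn S E = S from inf_eq_left.2 (sc_normalizer hEsc)]
      exact Subgroup.card_le_of_le inf_le_left⟩
    have hwI := (H85.mem_autGroup hES).1 hwF
    obtain ⟨θ, hθ, hθext⟩ := H85.receptive_extend
      (H85.automized_receptive_of_fullyNormalized hS hF hEfn).2 hwI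
    have hPext : P ≤ extender S E (E.subtype.comp w.toMonoidHom) := by
      intro g hg
      refine Subgroup.subset_closure ⟨hP.1 hg, sc_normalizer hEsc (hP.1 hg), g, hP.1 hg,
        fun e he => ?_⟩
      show ((w ⟨_, he⟩ : E) : Ω) = g * ((w e : E) : Ω) * g⁻¹
      rw [hw, hw]
      show (g * (e : Ω) * g⁻¹)⁻¹ = g * ((e : Ω))⁻¹ * g⁻¹
      group
    set θP := θ.comp (Subgroup.inclusion hPext) with hθP
    have hθPm : θP ∈ F.Hom P := H85.restrict hθ hPext
    have hrP : θP.range = P := by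
      refine Subgroup.eq_of_le_of_card_ge ?_ (le_of_eq (Nat.card_congr
        (MonoidHom.ofInjective (F.injective_of_mem hθPm)).toEquiv))
      rintro _ ⟨e, rfl⟩
      exact hP.2 P le_rfl _ hθPm e
    set γ : MulAut P := H85.isoOf θP hθPm hrP with hγ
    refine hab ⟨⟨comm_of_inverting hp (hS.to_le hP.1) γ fun y hy => ?_⟩⟩
    have hyE : (y : Ω) ∈ E := hEmem _ y.2 (congrArg Subtype.val hy)
    refine Subtype.ext ?_
    show θ ⟨y, _⟩ = ((y : Ω))⁻¹
    rw [hθext y hyE, hw]
    rfl
  refine isNormal_of_omegaChain hS hF hp hP 2 ![⊥, Z, E] rfl rfl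
    (fun i => by fin_cases i <;> simp [hEsc, hZsc, H85.stronglyClosed_bot]) fun i => ?_
  fin_cases i
  · show ⁅Z, P⁆ ≤ (⊥ : Subgroup Ω)
    rw [le_bot_iff, Subgroup.commutator_eq_bot_iff_le_centralizer]
    exact fun y hy => Subgroup.mem_centralizer_iff.2 fun g hg => hZc g (hP.1 hg) y hy
  · show ⁅E, P⁆ ≤ Z
    rw [Subgroup.commutator_le]
    exact fun e he g hg => hEP' e he g (hP.1 hg)

end H88
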