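import Cfsg.Agent.H88.GTCriterion
import Cfsg.Agent.H87.CentreControl

/-!
Sparse fusion systems: local systems are inner, and the odd case is constrained.
-/

set_option autoImplicit false
set_option linter.style.haveILetI false

open Cfsg Cfsg.FusionSystem

universe u

namespace H88

variable {Ω : Type u} [Group Ω] {S : Subgroup Ω} {p : ℕ}

/-- The sparseness hypothesis. -/
def IsSparse (F : FusionSystem S) (p : ℕ) : Prop :=
  ∀ E : FusionSystem S, E.IsSaturated p → E.IsSubsystemOf F →
    (∀ P : Subgroup Ω, E.Hom P = F.Hom P) ∨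
      (∀ P : Subgroup Ω, E.Hom P = (innerFusionSystem S).Hom P)

theorem sparse_cast {F : FusionSystem S} (hsp : IsSparse F p) {T : Subgroup Ω} (hT : T = S)
    (E : FusionSystem T) (hE : E.IsSaturated p) (hsub : E.IsSubsystemOf F) :
    (∀ P : Subgroup Ω, E.Hom P = F.Hom P) ∨
      (∀ P : Subgroup Ω, E.Hom P = (innerFusionSystem T).Hom P) := by
  subst hT
  exact hsp E hE hsub

/-- In a sparse system a subgroup normalized by `S` is normal or has trivial local automorphisms. -/
theorem sparse_normal_or_stabTrivial [Finite S] [Fact p.Prime] (hS : IsPGroup p S)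
    {F : FusionSystem S} (hF : F.IsSaturated p) (hsp : IsSparse F p) {U : Subgroup Ω} (hUS : U ≤ S)
    (hU : normalizerIn S U = S) : F.IsNormal U ∨ StabTrivial p F U := by
  have hUn : F.IsFullyNormalized U :=
    ⟨hUS, fun R _ => by
      rw [hU]; exact Subgroup.card_le_of_le (H85.normalizerIn_le R)⟩
  set E := H85.normalizerSystem F U hUS with hE
  have hspec := H85.normalizerSystem_spec F U hUS
  haveI : Finite ↥(normalizerIn S U) := H85.finite_of_le (H85.normalizerIn_le U)
  have hEsat := H85.isSaturated_normalizerSystem hS hF hUn E hspec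
  rcases sparse_cast hsp hU E hEsat (normalizerSystem_hom_le hspec) with h | h
  · exact Or.inl ⟨hUS, fun P φ hφ => ((h P).symm ▸ hφ : φ ∈ E.Hom P).2.2.2⟩
  · refine Or.inr fun P hUP hP a ha hc hstab => ?_
    exact eq_one_of_isPGroup (isPGroup_autGroup_of_inner (hS.to_le (H85.normalizerIn_le U)) h hP)
      (mem_normalizerSystem_autGroup hspec hUP hP ha hstab) hc

/-- In a sparse system that is not constrained, the automorphisms of the core form a `p`-group. -/
theorem sparse_core_aut [Finite S] [Fact p.Prime] (hS : IsPGroup p S)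
    {F : FusionSystem S} (hF : F.IsSaturated p) (hsp : IsSparse F p) (hc : ¬ F.IsConstrained p) :
    ∀ a ∈ F.autGroup F.core, (orderOf a).Coprime p → a = 1 := by
  have hQ := H87.isNormal_core F
  obtain ⟨hUfn, hUN, -⟩ := H87.isFullyNormalized_sup_centralizer hQ
  refine coprime_aut_eq_one hS hF (H87.isFullyNormalized_of_isNormal hQ)
    ((sparse_normal_or_stabTrivial hS hF hsp hUfn.1 hUN).resolve_left (H87.not_isNormal_sup hF hc))

/-- In a sparse system that is not constrained, `Aut_F(U)` is a `p`-group for every subgroup `U`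
normalized by `S`. -/
theorem sparse_aut_isPGroup [Finite S] [Fact p.Prime] (hS : IsPGroup p S)
    {F : FusionSystem S} (hF : F.IsSaturated p) (hsp : IsSparse F p) (hc : ¬ F.IsConstrained p)
    {U : Subgroup Ω} (hUS : U ≤ S) (hU : normalizerIn S U = S) : IsPGroup p (F.autGroup U) := by
  haveI : Finite U := H85.finite_of_le hUS
  haveI : Finite (MulAut U) := Finite.of_injective _ DFunLike.coe_injective
  refine isPGroup_of_coprime_trivial fun a ha => Subtype.ext ?_
  rw [← Subgroup.orderOf_coe] at ha
  rcases sparse_normal_or_stabTrivial hS hF hsp hUS hU with h | h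
  · have hQ := H87.isNormal_core F
    have hUQ : U ≤ F.core := H87.le_core h
    obtain ⟨ψ, hψ, hext, himg⟩ := hQ.2 U _ ((H85.mem_autGroup hUS).1 a.2)
    haveI : Finite F.core := H85.finite_of_le hQ.1
    have hle : F.core ≤ U ⊔ F.core := le_sup_right
    have hψ' := H85.restrict hψ hle
    have hr : (ψ.comp (Subgroup.inclusion hle)).range = F.core := by
      refine Subgroup.eq_of_le_of_card_ge ?_ (le_of_eq (Nat.card_congr
        (MonoidHom.ofInjective (F.injective_of_mem hψ')).toEquiv))
      rintro _ ⟨x, rfl⟩
      exact himg.le (H85.apply_mem_img (φ := ψ) (x := Subgroup.inclusion hle x) x.2)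
    set b : MulAut F.core := H85.isoOf _ hψ' hr with hb
    have hbmem : b ∈ F.autGroup F.core :=
      (H85.mem_autGroup hQ.1).2 (H85.isFIso_isoOf _ hψ' hr)
    have hba : ∀ (k : ℕ) (x : U), (b ^ k) (Subgroup.inclusion hUQ x) =
        Subgroup.inclusion hUQ (((a : MulAut U) ^ k) x) := by
      intro k
      induction k with
      | zero => intro x; simp
      | succ k ih =>
        intro x
        rw [pow_succ', MulAut.mul_apply, ih, pow_succ', MulAut.mul_apply]
        exact Subtype.ext (hext (((a : MulAut U) ^ k) x))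
    haveI : Finite (MulAut F.core) := Finite.of_injective _ DFunLike.coe_injective
    obtain ⟨k, hk⟩ := exists_pow_coprime (p := p) b
    refine eq_one_of_pow_prime_pow ha (k := k) (MulEquiv.ext fun x => ?_)
    have := hba (p ^ k) x
    rw [sparse_core_aut hS hF hsp hc _ (pow_mem hbmem _) hk, MulAut.one_apply] at this
    exact Subgroup.inclusion_injective hUQ this.symm
  · exact h U le_rfl (H85.le_normalizerIn hUS) a a.2 ha fun x _ => ((a : MulAut U) x).2

/-- A sparse system at an odd prime is constrained, unless it is inner. -/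
theorem sparse_odd_inner [Finite S] [Fact p.Prime] (hp : p ≠ 2) (hS : IsPGroup p S)
    {F : FusionSystem S} (hF : F.IsSaturated p) (hsp : IsSparse F p) (hc : ¬ F.IsConstrained p) :
    ∀ P : Subgroup Ω, F.Hom P = (innerFusionSystem S).Hom P := by
  have hQ := H87.isNormal_core F
  have hne : F.core ≠ S := H87.core_ne_top hF hc
  haveI : Finite F.core := H85.finite_of_le hQ.1
  by_cases hQ1 : F.core = ⊥
  · have hD := H86.stronglyClosed_self F
    have hWS : Cfsg.centerThompsonAOf S ≤ S := centerThompsonAOf_le_self S
    have hN : normalizerIn S (Cfsg.centerThompsonAOf S) = S := inf_eq_left.2 (zj_normalizer_of_sc hD)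
    refine inner_of_stabTrivial_zj hp hS hF hD
      ((sparse_normal_or_stabTrivial hS hF hsp hWS hN).resolve_left fun h => ?_)
    have h1 := le_sSup (s := {Q : Subgroup Ω | F.IsNormal Q}) h
    exact centerThompsonAOf_ne_bot' hS (fun h' => hne (hQ1.trans h'.symm))
      (le_bot_iff.1 (h1.trans hQ1.le))
  have hSR : S ≤ Subgroup.normalizer (F.core : Set Ω) :=
    fun g hg => H85.normalizer_of_normalSubgroup hQ hg
  have hRn := H87.isFullyNormalized_of_isNormal hQ
  have hspec := H85.normalizerSystem_spec F F.core hQ.1
  have hNS : normalizerIn S F.core = S := inf_eq_left.2 hSR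
  haveI : Finite ↥(normalizerIn S F.core) := H85.finite_of_le (H85.normalizerIn_le _)
  have hDsc : (H85.normalizerSystem F F.core hQ.1).StronglyClosed S :=
    ⟨hNS.ge, fun T _ φ hφ x => H85.map_mem hφ.1 x⟩
  have key := eq_one_of_quotient hp (n := Nat.card S)
    (fun {Ω} [Group Ω] {S} [Finite S] _ hS F hF D hD hW => inner_of_stabTrivial_zj hp hS hF hD hW)
    (Nat.le_succ _) hS hF (H86.stronglyClosed_self F) hRn hQ1 hSR hspec
    (H85.isSaturated_normalizerSystem hS hF hRn _ hspec) hDsc (sparse_core_aut hS hF hsp hc)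
    (fun h => hne (le_antisymm hQ.1 h)) ?_
  · refine inner_of_pGroup hS hF fun R hR => ?_
    haveI : Finite R := H85.finite_of_le hR.1
    haveI : Finite (MulAut R) := Finite.of_injective _ DFunLike.coe_injective
    refine isPGroup_of_coprime_trivial fun a ha => Subtype.ext ?_
    rw [← Subgroup.orderOf_coe] at ha
    obtain ⟨ψ, hψ, hext, himg⟩ := hQ.2 R _ ((H85.mem_autGroup hR.1).1 a.2)
    let P := R ⊔ F.core
    have hPS : P ≤ S := sup_le hR.1 hQ.1
    haveI : Finite P := H85.finite_of_le hPS
    have hr : ψ.range = P := by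
      refine Subgroup.eq_of_le_of_card_ge ?_ (le_of_eq (Nat.card_congr
        (MonoidHom.ofInjective (F.injective_of_mem hψ)).toEquiv))
      have hle : P ≤ (P.comap ψ).map P.subtype := by
        refine sup_le (fun x hx => ?_) (fun x hx => ?_)
        · refine ⟨Subgroup.inclusion le_sup_left ⟨x, hx⟩, ?_, rfl⟩
          show ψ _ ∈ P
          rw [hext]
          exact Subgroup.mem_sup_left ((a : MulAut R) ⟨x, hx⟩).2
        · exact ⟨⟨x, Subgroup.mem_sup_right hx⟩,
            Subgroup.mem_sup_right (himg.le (H85.apply_mem_img (φ := ψ)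
              (x := ⟨x, Subgroup.mem_sup_right hx⟩) hx)), rfl⟩
      rintro _ ⟨x, rfl⟩
      obtain ⟨y, hy, hyx⟩ := hle x.2
      exact (Subtype.ext hyx : y = x) ▸ hy
    set b : MulAut P := H85.isoOf ψ hψ hr with hb
    have hbmem : b ∈ F.autGroup P := (H85.mem_autGroup hPS).2 (H85.isFIso_isoOf ψ hψ hr)
    have hbQ : ∀ (k : ℕ) (x : P), (x : Ω) ∈ F.core → (((b ^ k) x : P) : Ω) ∈ F.core := by
      intro k
      induction k with
      | zero => intro x hx; simpa using hx
      | succ k ih =>
        intro x hx
        rw [pow_succ', MulAut.mul_apply]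
        exact himg.le (H85.apply_mem_img (φ := ψ) (ih x hx))
    have hba : ∀ (k : ℕ) (x : R), (b ^ k) (Subgroup.inclusion le_sup_left x) =
        Subgroup.inclusion le_sup_left (((a : MulAut R) ^ k) x) := by
      intro k
      induction k with
      | zero => intro x; simp
      | succ k ih =>
        intro x
        rw [pow_succ', MulAut.mul_apply, ih, pow_succ', MulAut.mul_apply]
        exact Subtype.ext (hext _)
    haveI : Finite (MulAut P) := Finite.of_injective _ DFunLike.coe_injective
    obtain ⟨k, hk⟩ := exists_pow_coprime (p := p) b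
    have hbk : b ^ p ^ k = 1 :=
      key P le_sup_right (hPS.trans hNS.ge) _ (pow_mem hbmem _) hk (hbQ _)
    refine eq_one_of_pow_prime_pow ha (k := k) (MulEquiv.ext fun x => ?_)
    have := hba (p ^ k) x
    rw [hbk, MulAut.one_apply] at this
    exact Subgroup.inclusion_injective le_sup_left this.symm
  · intro X hXS _ hNX hcard
    refine (sparse_normal_or_stabTrivial hS hF hsp hXS hNX).resolve_left fun h => ?_
    exact absurd (Subgroup.card_le_of_le (show X ≤ F.core from H87.le_core h)) (not_le.2 hcard)

end H88
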