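import Cfsg.Agent.H87.ThompsonFusion
import Cfsg.Agent.H88.Sparse

/-!
Sparse fusion systems that are not constrained are inner when `p` is odd or the system is
`S₄`-free.
-/

set_option autoImplicit false
set_option linter.style.haveILetI false

open Cfsg Cfsg.FusionSystem H87

namespace H88

universe u

theorem sparse_inner_of_thompson {p : ℕ} [Fact p.Prime] {Ω : Type u} [Group Ω] {S : Subgroup Ω}
    [Finite S] (hS : IsPGroup p S) {F : FusionSystem S} (hF : F.IsSaturated p)
    (hp : p ≠ 2 ∨ F.IsSectionFree p (Equiv.Perm (Fin 4)))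
    (hsp : IsSparse F p) (hc : ¬ F.IsConstrained p) :
    ∀ P : Subgroup Ω, F.Hom P = (innerFusionSystem S).Hom P := by
  refine fun P => hom_eq_inner ?_ P
  set W : ∀ (Q : Type u) [Group Q], Subgroup Q := fun Q _ => Cfsg.thompsonSubgroupA Q with hWdef
  have hW1 : ∀ (Q : Type u) [Group Q] [Finite Q], IsPGroup p Q → Nontrivial Q → W Q ≠ ⊥ :=
    fun Q _ _ h1 h2 => thompson_ne_bot (p := p) Q h1 h2
  have hW2 : ∀ (Q R : Type u) [Group Q] [Group R] [Finite Q], IsPGroup p Q → ∀ φ : Q ≃* R,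
      (W Q).map φ.toMonoidHom = W R := fun Q R _ _ _ h φ => thompson_iso Q R h φ
  have hWf := subFunctor W hW1 hW2 hS
  have hJS : subW W S ≤ S := hWf.le S le_rfl
  have hJN : normalizerIn S (subW W S) = S := hWf.top_normalizerIn
  -- the normalizers of the subgroups normalized by `S` but not normal in `F` are inner
  have htopN : ∀ (U : Subgroup Ω), F.IsFullyNormalized U → normalizerIn S U = S →
      ¬ F.IsNormal U → ∀ P, F.normalizerHom U P ⊆ (innerFusionSystem S).Hom P := by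
    intro U hU hUN hnn P φ hφ
    have hspec := H85.normalizerSystem_spec F U hU.1
    haveI : Finite ↥(normalizerIn S U) := H85.finite_of_le (H85.normalizerIn_le U)
    rcases sparse_cast hsp hUN _ (H85.isSaturated_normalizerSystem hS hF hU _ hspec)
      (normalizerSystem_hom_le hspec) with h | h
    · exact absurd ⟨hU.1, fun R ψ hψ =>
        ((h R).symm ▸ hψ : ψ ∈ (H85.normalizerSystem F U hU.1).Hom R).2.2.2⟩ hnn
    · have h1 : φ ∈ (H85.normalizerSystem F U hU.1).Hom P := hφ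
      rw [h P] at h1
      obtain ⟨hP, g, hg, hgx⟩ := h1
      exact ⟨hP.trans (H85.normalizerIn_le U), g, hg.1, hgx⟩
  set Q := F.core with hQdef
  have hQ : F.IsNormal Q := isNormal_core F
  have hJnn : ¬ F.IsNormal (subW W S) := by
    intro h
    refine hc ⟨hF, _, h, hJS, fun R hR => ?_⟩
    obtain ⟨φ, hφ, rfl⟩ := hR
    rw [(wc_of_sc (sc_of_isNormal h)).2 φ hφ]
    rintro x ⟨hxS, hxc⟩
    refine ⟨⟨x, hxS⟩, centralizer_thompson_le S (Subgroup.mem_centralizer_iff.2 fun y hy => ?_), rfl⟩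
    exact Subtype.ext (Subgroup.mem_centralizer_iff.1 hxc y ⟨y, hy, rfl⟩)
  by_cases hcore : Q = ⊥
  · have hJ : StabTrivial p F (Cfsg.thompsonSubgroupAOf S) :=
      (sparse_normal_or_stabTrivial hS hF hsp hJS hJN).resolve_left hJnn
    set Z := S ⊓ Subgroup.centralizer (S : Set Ω) with hZdef
    have hSC : S ≤ centralizerIn S Z := fun s hs => ⟨hs, Subgroup.mem_centralizer_iff.2 fun z hz =>
      (Subgroup.mem_centralizer_iff.1 hz.2 s hs).symm⟩
    refine le_inner_thompson Ω S hS F hF hp hJ (fixTrivial_of_inner hS inf_le_left hSC ?_)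
    intro C hC
    have hCS : centralizerIn S Z = S := le_antisymm inf_le_left hSC
    haveI : Finite ↥(centralizerIn S Z) := H85.finite_of_le inf_le_left
    have hZn : F.IsFullyCentralized Z := ⟨inf_le_left, fun R _ => by
      rw [hCS]; exact Subgroup.card_le_of_le inf_le_left⟩
    refine (sparse_cast hsp hCS C (H85.isSaturated_centralizerSystem hS hF hZn C hC)
      (fun P φ hφ => ((hC P) ▸ hφ : φ ∈ F.centralizerHom Z P).1)).resolve_left fun h => ?_
    have hcen : F.IsNormal Z := by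
      refine ⟨inf_le_left, fun R φ hφ => ?_⟩
      obtain ⟨-, -, -, ψ, hψ, hext, hfix⟩ := ((h R).symm.trans (hC R)) ▸ hφ
      refine ⟨ψ, hψ, hext, le_antisymm ?_ fun y hy => ?_⟩
      · rintro _ ⟨x, hx, rfl⟩
        have := hfix ⟨x, hx⟩
        exact (show (ψ x : Ω) = (x : Ω) from this) ▸ hx
      · exact ⟨Subgroup.inclusion le_sup_right ⟨y, hy⟩, hy, hfix ⟨y, hy⟩⟩
    have hZbot : Z = ⊥ := le_bot_iff.1 (hcore ▸ le_core hcen)
    haveI : Nontrivial S := (Subgroup.nontrivial_iff_ne_bot S).2 fun h' =>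
      core_ne_top hF hc (hcore.trans h'.symm)
    haveI := hS.center_nontrivial
    obtain ⟨⟨z, hz⟩, hz1⟩ := exists_ne (1 : Subgroup.center S)
    refine hz1 (Subtype.ext (Subtype.ext (Subgroup.mem_bot.1 (hZbot.le ⟨z.2,
      Subgroup.mem_centralizer_iff.2 fun w hw =>
        congrArg Subtype.val (Subgroup.mem_center_iff.1 hz ⟨w, hw⟩)⟩))))
  obtain ⟨hUn, hUN, -⟩ := isFullyNormalized_sup_centralizer hQ
  refine le_of_normal hS hF hQ (htopN _ hUn hUN (not_isNormal_sup hF hc)) ?_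
  rcases hsp _ (innerOnSystem_saturated hS hF hQ) (fun P ψ hψ => hψ.1) with hI | hI
  swap
  · exact fun P φ hφ => (hI P) ▸ hφ
  have hall : ∀ P, F.Hom P ⊆ innerOnHom F Q P := fun P φ hφ => by
    have h1 : φ ∈ (innerOnSystem F Q hQ).Hom P := by rw [hI]; exact hφ
    exact h1
  -- the factor system by the core is inner
  have hQsc := H85.stronglyClosed_of_isNormal hQ
  haveI hn : (Q.subgroupOf S).Normal := ⟨fun x hx g =>
    H85.conj_mem_of_mem_normalizer (P := Q) (H85.stronglyClosed_normalizer hQsc g.2) hx⟩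
  obtain ⟨E, hE⟩ := Cfsg.Agent.S5132.result p hS F Q hQsc
  have hsm := Cfsg.Agent.S5134.result p hS F hF Q hQsc _ E hE
  set θ := QuotientGroup.mk' (Q.subgroupOf S) with hθdef
  have hker : ∀ s : S, θ s = 1 ↔ (s : Ω) ∈ Q := fun s => by
    rw [hθdef, QuotientGroup.mk'_apply, QuotientGroup.eq_one_iff]
    rfl
  have hsur : Function.Surjective θ := QuotientGroup.mk'_surjective _
  have hS' : IsPGroup p (⊤ : Subgroup (S ⧸ Q.subgroupOf S)) :=
    (hS.to_quotient _).of_equiv Subgroup.topEquiv.symm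
  haveI : Finite (⊤ : Subgroup (S ⧸ Q.subgroupOf S)) := Subtype.finite
  have htop : (⊤ : Subgroup (S ⧸ Q.subgroupOf S)) ≠ ⊥ := fun h =>
    core_ne_top hF hc (le_antisymm hQ.1 fun x hx =>
      (hker ⟨x, hx⟩).1 (Subgroup.mem_bot.1 (h.le (Subgroup.mem_top _))))
  have hlift : ∀ (K' : Subgroup (S ⧸ Q.subgroupOf S)), K' ≠ ⊥ →
      (∀ y, y ∈ Subgroup.normalizer (K' : Set (S ⧸ Q.subgroupOf S))) →
      ∀ P', K' ≤ P' → ∀ a ∈ E.autGroup P', (orderOf a).Coprime p →
        (∀ x : P', (x : S ⧸ Q.subgroupOf S) ∈ K' → ((a x : P') : S ⧸ Q.subgroupOf S) ∈ K') →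
        a = 1 := by
    intro K' hK' hK'n P' hKP a ha hac hstab
    haveI := H85.finite_of_le (le_top : K' ≤ ⊤)
    have haE := (H85.mem_autGroup le_top).1 ha
    have hle : P' ⊔ K' ≤ P' := sup_le le_rfl hKP
    have hNK : normalizerIn (⊤ : Subgroup (S ⧸ Q.subgroupOf S)) K' = ⊤ :=
      top_le_iff.1 fun y _ => ⟨Subgroup.mem_top y, hK'n y⟩
    have hmem : P'.subtype.comp a.toMonoidHom ∈ E.normalizerHom K' P' := by
      refine H85.mem_normalizerHom.2 ⟨haE, by rw [hNK]; exact le_top,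
        fun x => by rw [hNK]; exact Subgroup.mem_top _, _, H85.restrict haE hle, fun x => rfl, ?_⟩
      have hi : H85.img ((P'.subtype.comp a.toMonoidHom).comp (Subgroup.inclusion hle)) K' ≤ K' := by
        intro y hy
        obtain ⟨z, hz, rfl⟩ := H85.mem_img.1 hy
        exact hstab _ hz
      haveI : Finite ↥(H85.img ((P'.subtype.comp a.toMonoidHom).comp (Subgroup.inclusion hle)) K') :=
        H85.finite_of_le hi
      refine Subgroup.eq_of_le_of_card_ge hi ?_
      rw [H85.img, Subgroup.card_map_of_injective (E.injective_of_mem (H85.restrict haE hle)),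
        H85.card_subgroupOf _ _ le_sup_right]
    set K := preimageAlong θ K' with hK
    have hKN : normalizerIn S K = S := le_normalizer_preimageAlong hK'n
    obtain ⟨φ, hφ, hA1, hA2, hA3, hA4⟩ := exists_lift_normalizer hsm hmem hKN
    obtain ⟨-, g, hg, hgx⟩ := htopN K ⟨preimageAlong_le _, fun R _ => by
        rw [hKN]; exact Subgroup.card_le_of_le (H85.normalizerIn_le R)⟩ hKN
      (fun h => (lt_preimageAlong hQ.1 hker hsur hK').not_ge (le_core h)) _ hφ
    refine eq_one_of_conj hS' le_top hac (g := θ ⟨g, hg⟩) (Subgroup.mem_top _) fun y => ?_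
    obtain ⟨s, hs⟩ := hsur y
    have hsP : (s : Ω) ∈ preimageAlong θ P' := mem_preimageAlong.2 ⟨s.2, hs ▸ y.2⟩
    have h1 := hA4 ⟨s, hsP⟩
    have h2 : (P'.subtype.comp a.toMonoidHom) ⟨θ s, hA3 ⟨s, hsP⟩⟩ = ((a y : P') : S ⧸ Q.subgroupOf S) :=
      congrArg (P'.subtype.comp a.toMonoidHom) (Subtype.ext hs)
    rw [← h2, h1, ← hs, ← map_inv, ← map_mul, ← map_mul]
    exact congrArg θ (Subtype.ext (hgx ⟨s, hsP⟩))
  have hWf' := subFunctor W hW1 hW2 hS'
  have hJ' : StabTrivial p E (Cfsg.thompsonSubgroupAOf (⊤ : Subgroup (S ⧸ Q.subgroupOf S))) :=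
    fun P hWP _ a ha hac hstab => hlift _ (hWf'.ne_bot ⊤ le_rfl htop)
      (fun y => hWf'.normalizer_le ⊤ le_rfl y (Subgroup.le_normalizer (Subgroup.mem_top y)))
      P hWP a ha hac hstab
  have hZ' : FixTrivial p E ((⊤ : Subgroup (S ⧸ Q.subgroupOf S)) ⊓
      Subgroup.centralizer ((⊤ : Subgroup (S ⧸ Q.subgroupOf S)) : Set (S ⧸ Q.subgroupOf S))) := by
    intro P hZP _ a ha hac hfix
    refine hlift _ ?_ (fun y => H85.mem_normalizer_of_conj fun x hx => ?_) P hZP a ha hac
      fun x hx => by rw [hfix x hx]; exact hx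
    · haveI : Nontrivial (S ⧸ Q.subgroupOf S) := by
        by_contra hnt
        rw [not_nontrivial_iff_subsingleton] at hnt
        exact htop (Subsingleton.elim _ _)
      haveI := (hS.to_quotient (Q.subgroupOf S)).center_nontrivial
      obtain ⟨⟨z, hz⟩, hz1⟩ := exists_ne (1 : Subgroup.center (S ⧸ Q.subgroupOf S))
      intro h
      refine hz1 (Subtype.ext (Subgroup.mem_bot.1 (h.le ⟨Subgroup.mem_top z,
        Subgroup.mem_centralizer_iff.2 fun w _ => (Subgroup.mem_center_iff.1 hz w)⟩)))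
    · rw [Subgroup.mem_centralizer_iff.1 hx.2 y (Subgroup.mem_top y), mul_inv_cancel_right]
      exact hx
  have hEinner := le_inner_thompson _ ⊤ hS' E (H86.isSaturated_image hS hF hsm)
    (hp.imp_right fun h => sectionFree_factor hS hF hQ hE h) hJ' hZ'
  refine fun P φ hφ => (le_inner_of_factor hS hF hQ hall hker fun P φ hφ => ?_) P hφ.1
  obtain ⟨χ, hχ, hA1, hA2, hA3, hA4⟩ := hsm.1.2 P φ hφ
  obtain ⟨-, g, -, hgx⟩ := hEinner _ hχ
  obtain ⟨s, rfl⟩ := hsur g
  exact ⟨s, fun x => (hA4 x).symm.trans (hgx _)⟩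

end H88
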